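import Cfsg.Agent.Lib.Linear.SpWreath.Slab

/-!
# The group induced on one factor fewer
-/

set_option autoImplicit false
set_option linter.unusedSectionVars false

namespace Cfsg.Lib.Linear.SpWreath.Std

open Cfsg.Geo Cfsg.Lib.Linear.AschGen Cfsg.Lib.Linear.TWreath
open scoped Matrix MatrixGroups

variable {F : Type*} [Field F] {k t : ℕ} {S : Std k F} {G : Subgroup (GL (Idx k (t + 1)) F)}

theorem adT_psi (i : Fin (t + 1)) (M : Matrix (Idx k t) (Idx k t) F) : S.adT (psi i M) = psi i (S.adT M) := by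
  ext x y
  simp only [adT, Matrix.of_apply, psi_apply, mul_ite, mul_zero]
  have hiff : S.πT y i = S.πT x i ↔ x i = y i := by
    show S.π (y i) = S.π (x i) ↔ _
    rw [S.π_inj.eq_iff, eq_comm]
  simp only [hiff]
  by_cases h : x i = y i
  · rw [if_pos h, if_pos h]
    have e : ∀ z : Idx k (t + 1), S.eT z = S.e (z i) * S.eT (i.removeNth z) := fun z => by
      simp only [eT, Fin.prod_univ_succAbove _ i]
      rfl
    rw [e x, e y, h]
    have hpi : ∀ z : Idx k (t + 1), i.removeNth (S.πT z) = S.πT (i.removeNth z) := fun z => rfl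
    rw [hpi, hpi]
    linear_combination (S.eT (i.removeNth x) * S.eT (i.removeNth y) *
      M (S.πT (i.removeNth y)) (S.πT (i.removeNth x))) * S.sign (y i)
  · rw [if_neg h, if_neg h]

theorem psi_permMat (i : Fin (t + 1)) (σ : Equiv.Perm (Fin t)) :
    psi i (permMat σ : Matrix (Idx k t) (Idx k t) F) = permMat (σ.viaEmbedding (Fin.succAboveEmb i)) := by
  ext x y
  rw [psi_apply]
  simp only [permMat, Matrix.of_apply]
  set σ' := σ.viaEmbedding (Fin.succAboveEmb i)
  have hi : σ' i = i := Equiv.Perm.viaEmbedding_apply_of_notMem _ _ _ (by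
    rintro ⟨l, hl⟩; exact Fin.succAbove_ne i l hl)
  have hj : ∀ j, σ' (i.succAbove j) = i.succAbove (σ j) := fun j =>
    Equiv.Perm.viaEmbedding_apply σ (Fin.succAboveEmb i) j
  have hiff : y = x ∘ σ' ↔ x i = y i ∧ i.removeNth y = i.removeNth x ∘ σ := by
    rw [funext_iff, funext_iff, Fin.forall_iff_succAbove i, Function.comp_apply, hi, eq_comm (a := y i)]
    simp only [Function.comp_apply, hj, Fin.removeNth]
  simp only [hiff, ite_and]

theorem mem_mst_of_cut' (hk : 0 < k) {i : Fin (t + 1)} (hcut : cut G i ≤ mst k t F)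
    {x : GL (Idx k (t + 1)) F} (hx : x ∈ G) {a : GL (Fin k) F} (ha : Acts x i i a) :
    x ∈ mst k (t + 1) F := by
  obtain ⟨Y, rfl⟩ := exists_split hk ha
  obtain ⟨σ, hσ⟩ := hcut ⟨a, hx⟩
  refine ⟨σ.viaEmbedding (Fin.succAboveEmb i), fun l => ?_⟩
  rcases Fin.eq_self_or_eq_succAbove i l with rfl | ⟨j, rfl⟩
  · rw [Equiv.Perm.viaEmbedding_apply_of_notMem _ _ _ (by
      rintro ⟨z, hz⟩; exact Fin.succAbove_ne _ z hz)]
    exact ⟨a, ha⟩
  · obtain ⟨b, hb⟩ := hσ j
    rw [show σ.viaEmbedding (Fin.succAboveEmb i) (i.succAbove j) = i.succAbove (σ j) from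
      Equiv.Perm.viaEmbedding_apply σ (Fin.succAboveEmb i) j]
    refine ⟨b, fun X => ?_⟩
    rw [conjA_mul, ← psi_fa, conjA_psiU, hb, conjA_fu_com (com_psi i _), psi_fa]

theorem cut_sover (hG : S.SOver G) (hk : 2 ≤ k) (i : Fin (t + 1)) : S.SOver (cut G i) := by
  refine ⟨fun Y hY => ?_, fun j a ha => ⟨1, by rw [map_one, one_mul, psiU_fu]; exact hG.sp _ a ha⟩, fun σ hs => ?_⟩
  · obtain ⟨a, ha⟩ := hY
    obtain ⟨c, hc⟩ := hG.le _ ha
    set A := S.ad a.val * a.val with hA
    set Q := S.adT Y.val * Y.val with hQ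
    have e : fa i A * psi i Q = c • 1 := by
      rw [← hc, Units.val_mul, fu_val, psiU_val, S.adT_mul, S.adT_fa, adT_psi, hA, hQ, map_mul, map_mul]
      simp only [mul_assoc]
      rw [← mul_assoc (fa i a.val), (com_psi i (S.adT Y.val) _).eq]
      simp only [mul_assoc]
      rw [← mul_assoc (fa i (S.ad a.val)), (com_psi i (S.adT Y.val) _).eq]
      simp only [mul_assoc]
    have hA0 : A ≠ 0 := by
      haveI : Nonempty (Fin k) := ⟨⟨0, by omega⟩⟩
      intro e0
      have h1 : S.ad a.val = 0 := by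
        have := congrArg (· * (a⁻¹).val) e0
        simpa [hA, mul_assoc] using this
      have h2 := congrArg S.ad h1
      rw [S.ad_ad, S.ad_zero] at h2
      exact a.ne_zero h2
    obtain ⟨p, q, hpq⟩ : ∃ p q, A p q ≠ 0 := by
      by_contra hne
      push Not at hne
      exact hA0 (Matrix.ext hne)
    have h := congrArg (fun M => comp i M p q) e
    rw [show c • (1 : Matrix (Idx k (t + 1)) (Idx k (t + 1)) F) = fa i 1 * (c • 1) by rw [map_one, one_mul],
      comp_fa_mul (com_psi i Q), comp_fa_mul (com_scalar i c), smul_smul] at h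
    refine ⟨(A p q)⁻¹ * ((1 : Matrix (Fin k) (Fin k) F) p q * c), psi_injective (by omega) i ?_⟩
    have h1 := congrArg ((A p q)⁻¹ • ·) h
    simp only [smul_smul, inv_mul_cancel₀ hpq, one_smul] at h1
    rw [map_smul, map_one, h1]
  · set σ' := σ.viaEmbedding (Fin.succAboveEmb i)
    obtain ⟨g, hg, hgv⟩ := hG.perm σ' (by
      classical
      rw [← hs]
      convert Equiv.Perm.sign_extendDomain σ (Equiv.ofInjective _ (Fin.succAboveEmb i).injective)
      ext x
      rcases Fin.eq_self_or_eq_succAbove i x with rfl | ⟨j, rfl⟩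
      · rw [Equiv.Perm.viaEmbedding_apply_of_notMem _ _ _ (by rintro ⟨z, hz⟩; exact Fin.succAbove_ne _ z hz),
          Equiv.Perm.extendDomain_apply_not_subtype]
        rintro ⟨z, hz⟩; exact Fin.succAbove_ne _ z hz
      · rw [show σ.viaEmbedding (Fin.succAboveEmb i) (i.succAbove j) = i.succAbove (σ j) from
            Equiv.Perm.viaEmbedding_apply σ (Fin.succAboveEmb i) j]
        exact congrArg Fin.val (Equiv.Perm.extendDomain_apply_image σ (Equiv.ofInjective _ (Fin.succAboveEmb i).injective) j).symm)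
    refine ⟨permGL σ, ⟨1, ?_⟩, rfl⟩
    rw [map_one, one_mul]
    have : psiU i (permGL σ : GL (Idx k t) F) = g := Units.ext (by
      rw [psiU_val, show (permGL σ : GL (Idx k t) F).val = permMat σ from rfl, psi_permMat, hgv]; rfl)
    exact this ▸ hg

theorem cut_nr (hG : S.SOver G) (hR : S.NR G) (h2 : (2 : F) ≠ 0) (hk : 2 ≤ k)
    (htor : k ≤ 2 → ∃ α : F, α ≠ 0 ∧ α * α ≠ 1) (i : Fin (t + 1)) : S.NR (cut G i) := by
  intro j Φ hΦ
  set l := i.succAbove j
  set Ψ := psi i Φ with hΨdef
  have hΨ : Com l Ψ := fun X => by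
    show Commute (fa (i.succAbove j) X) _
    rw [← psi_fa]; exact (hΦ.1 X).map (psi i)
  let N : (Fin k → F) → Matrix (Idx k (t + 1)) (Idx k (t + 1)) F := fun u => fa l (S.nr u) * Ψ
  have hNpsi : ∀ u, psi i (fa j (S.nr u) * Φ) = N u := fun u => by rw [map_mul, psi_fa]
  have hNN : ∀ u, N u * N u = 0 := fun u => nr_fa_sq hΨ u Ψ
  -- the quotients
  have hD : ∀ u v : Fin k → F, u ≠ 0 → v ≠ 0 → S.InI G ((1 - N u) * (1 + N v)) := by
    intro u v hu hv
    obtain ⟨⟨g, ⟨a, hga⟩, hgv⟩, hgI⟩ := hΦ.2 u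
    obtain ⟨b, hb, hbu⟩ := S.exists_move hu hv
    set h := fu i a * psiU i g
    have hb' : fu l b ∈ G := hG.sp l b hb
    have hmem : h⁻¹ * (fu l b * h * (fu l b)⁻¹) ∈ G :=
      G.mul_mem (G.inv_mem hga) (G.mul_mem (G.mul_mem hb' hga) (G.inv_mem hb'))
    have e : h⁻¹ * (fu l b * h * (fu l b)⁻¹) = psiU i (g⁻¹ * (fu j b * g * (fu j b)⁻¹)) := by
      have hc : Commute (fu l b) (fu i a) :=
        Units.ext (fa_comm (Fin.succAbove_ne i j) b.val a.val).eq
      rw [map_mul, map_mul, map_mul, map_inv, map_inv, psiU_fu]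
      show (fu i a * psiU i g)⁻¹ * (fu l b * (fu i a * psiU i g) * (fu l b)⁻¹) = _
      rw [← mul_assoc (fu l b), hc.eq]
      group
      rfl
    rw [e] at hmem
    have hgi : (g⁻¹).val = 1 - fa j (S.nr u) * Φ := left_inv_eq_right_inv (Units.inv_mul g) (by
      rw [hgv, show (1 + fa j (S.nr u) * Φ) * (1 - fa j (S.nr u) * Φ) =
        1 - fa j (S.nr u) * Φ * (fa j (S.nr u) * Φ) by noncomm_ring, nr_fa_sq hΦ.1 u Φ, sub_zero])
    have hval : (g⁻¹ * (fu j b * g * (fu j b)⁻¹)).val =
        (1 - fa j (S.nr u) * Φ) * (1 + fa j (S.nr v) * Φ) := by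
      rw [Units.val_mul, hgi, val_conj, hgv, map_add, map_one, map_mul, acts_fu, conjA_fu_com hΦ.1, S.conjA_nr hb, hbu]
    have hiso : S.IsoT ((1 - fa j (S.nr u) * Φ) * (1 + fa j (S.nr v) * Φ)) :=
      IsoT.mul S ((hΦ.2 u).neg (nr_fa_sq hΦ.1 u Φ)).2 (hΦ.2 v).2
    refine ⟨⟨_, hmem, by rw [psiU_val, hval, map_mul, map_sub, map_add, map_one, hNpsi, hNpsi]⟩, ?_⟩
    show S.adT _ * _ = 1
    rw [show (1 - N u) * (1 + N v) = psi i ((1 - fa j (S.nr u) * Φ) * (1 + fa j (S.nr v) * Φ)) by
      rw [map_mul, map_sub, map_add, map_one, hNpsi, hNpsi], adT_psi, ← map_mul, hiso, map_one]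
  set a : Fin k := ⟨0, by omega⟩
  obtain ⟨c, hc⟩ : ∃ c : F, S.Lg G l (c • Ψ) ∧ c ≠ 0 := by
    by_cases hex : ∃ b, b ≠ a ∧ b ≠ S.π a
    · obtain ⟨b, hb1, hb2⟩ := hex
      set e : Fin k → F := Pi.single a 1
      set f : Fin k → F := Pi.single b 1
      have he : e ≠ 0 := by simp [e]
      have hf : f ≠ 0 := by simp [f]
      have hef : S.dual e ⬝ᵥ f = 0 := by
        rw [S.dual_single, smul_dotProduct, single_dotProduct, one_mul]
        simp [f, Ne.symm hb2]
      have hfe : S.dual f ⬝ᵥ e = 0 := by rw [S.dual_dot_comm, hef, neg_zero]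
      have hne : ∀ s : F, e + s • f ≠ 0 := fun s h => by
        have := congrFun h a
        simp [e, f, Ne.symm hb1] at this
      have hz : ∀ v w : Fin k → F, S.dual v ⬝ᵥ w = 0 → N v * N w = 0 := fun v w h => by
        have h0 : S.nr v * S.nr w = 0 := by rw [nr, nr, Matrix.vecMulVec_mul_vecMulVec, h]; simp
        exact fa_mul_zero hΨ h0 Ψ
      have hd : ∀ s : F, S.InI G (1 + (N (e + s • f) - N e)) := fun s => by
        have h := hD e (e + s • f) he (hne s)
        rwa [sub_mul, one_mul, mul_add, mul_one, hz e _ (by rw [dotProduct_add, S.dual_dot_self, dotProduct_smul, hef]; simp),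
          add_zero, add_sub_assoc] at h
      have h := (hd 1).mul (hd (-1))
      have hkill : (N (e + (1 : F) • f) - N e) * (N (e + (-1 : F) • f) - N e) = 0 := by
        rw [sub_mul, mul_sub, mul_sub, hz _ _ ?_, hz _ _ ?_, hz _ _ ?_, hNN]
        · simp
        · rw [dotProduct_add, dotProduct_smul, S.dual_dot_self, hef]; simp
        · rw [S.dual_add, S.dual_smul, add_dotProduct, smul_dotProduct, S.dual_dot_self, hfe]; simp
        · simp only [S.dual_add, S.dual_smul, add_dotProduct, dotProduct_add, smul_dotProduct, dotProduct_smul,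
            S.dual_dot_self, hef, hfe]; simp
      rw [add_mul, one_mul, mul_add, mul_one, hkill, add_zero] at h
      refine ⟨2, lg_of_one hG (hΨ.smul _) hf ?_, h2⟩
      have hsum : fa l (S.nr f) * ((2 : F) • Ψ) = N (e + (1 : F) • f) - N e + (N (e + (-1 : F) • f) - N e) := by
        have h0 : S.nr (e + (-1 : F) • f) + S.nr (e + (1 : F) • f) = (2 : F) • S.nr e + (2 : F) • S.nr f := by
          ext p q
          simp only [nr, S.dual_add, S.dual_smul, Matrix.add_apply, Matrix.smul_apply, Matrix.vecMulVec_apply,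
            Pi.add_apply, Pi.smul_apply, smul_eq_mul]
          ring
        have h1 := congrArg (fun M => fa l M * Ψ) h0
        simp only [map_add, map_smul, add_mul, smul_mul_assoc] at h1
        rw [mul_smul_comm]
        linear_combination (norm := module) -h1
      rw [hsum]
      convert h using 1
      abel
    · push Not at hex
      obtain ⟨α, hα0, hα⟩ := htor (by
        have h : (Finset.univ : Finset (Fin k)) ⊆ {a, S.π a} := fun q _ => by
          by_cases hq : q = a
          · simp [hq]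
          · simp [hex q hq]
        simpa using (Finset.card_le_card h).trans Finset.card_le_two)
      set e : Fin k → F := Pi.single a 1
      have he : e ≠ 0 := by simp [e]
      have hs : N (α • e) = (α * α) • N e := by simp only [N, S.nr_smul, map_smul, smul_mul_assoc]
      have h := hD e (α • e) he (smul_ne_zero hα0 he)
      rw [hs, sub_mul, one_mul, mul_add, mul_one, mul_smul_comm, hNN, smul_zero, add_zero, add_sub_assoc,
        show (α * α) • N e - N e = (α * α - 1) • N e by rw [sub_smul, one_smul]] at h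
      exact ⟨α * α - 1, lg_of_one hG (hΨ.smul _) he (by rw [mul_smul_comm]; exact h), sub_ne_zero.2 hα⟩
  obtain ⟨r, hr⟩ := hR l _ hc.1
  refine ⟨c⁻¹ * r, psi_injective (by omega) i ?_⟩
  rw [map_smul, map_one, mul_smul, ← hr, smul_smul, inv_mul_cancel₀ hc.2, one_smul]

/-- On a single factor every element permutes the factors. -/
theorem mem_mst_one (hk : 0 < k) (g : GL (Idx k 1) F) : g ∈ mst k 1 F := by
  have htop : (fa (F := F) (m := k) (0 : Fin 1)).range = ⊤ := eq_top_of_fa_mem fun l X => by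
    rw [Subsingleton.elim l 0]; exact ⟨X, rfl⟩
  refine ⟨1, fun l => ?_⟩
  obtain rfl : l = 0 := Subsingleton.elim l 0
  refine exists_acts hk fun X => ?_
  obtain ⟨Y, hY⟩ : conjA g (fa 0 X) ∈ (fa (F := F) (m := k) (0 : Fin 1)).range := htop ▸ Algebra.mem_top
  exact ⟨Y, hY.symm⟩

end Cfsg.Lib.Linear.SpWreath.Std
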