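import Cfsg.Agent.Lib.Linear.SpWreath.Rich
import Cfsg.Agent.Lib.Linear.SymplecticGroup
import Cfsg.Agent.Lib.Linear.SymplecticMax

/-!
# The transvections at the basis vectors generate all isometries
-/

set_option autoImplicit false
set_option linter.unusedSectionVars false

namespace Cfsg.Lib.Linear.SpWreath.Std

open Cfsg.Geo Cfsg.Lib.Linear.AschGen Cfsg.Lib.Linear.TWreath
open scoped Matrix MatrixGroups

variable {F : Type*} [Field F] {k t : ℕ} {S : Std k F} {G : Subgroup (GL (Idx k t) F)}

variable (S) in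
/-- The functional of a vector of the tensor power. -/
def dualT (v : Idx k t → F) : Idx k t → F := fun b => -(S.eT b * v (S.πT b))

theorem dualT_add (u v : Idx k t → F) : S.dualT (u + v) = S.dualT u + S.dualT v := by
  funext b; simp [dualT]; ring

theorem dualT_smul (c : F) (u : Idx k t → F) : S.dualT (c • u) = c • S.dualT u := by
  funext b; simp [dualT, mul_left_comm]

theorem dualT_vecMul (M : Matrix (Idx k t) (Idx k t) F) (v : Idx k t → F) :
    S.dualT v ᵥ* S.adT M = S.dualT (M *ᵥ v) := by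
  funext y
  simp only [Matrix.vecMul, dotProduct, dualT, adT, Matrix.of_apply, Matrix.mulVec, Finset.mul_sum,
    ← Finset.sum_neg_distrib]
  conv_rhs => rw [← Equiv.sum_comp S.πTP]
  refine Finset.sum_congr rfl fun b _ => ?_
  show _ = -(S.eT y * (M (S.πT y) (S.πT b) * v (S.πT b)))
  linear_combination (-(S.eT y * M (S.πT y) (S.πT b) * v (S.πT b))) * S.eT_sq b

theorem dualT_self (ht : Odd t) (v : Idx k t → F) : S.dualT v ⬝ᵥ v = 0 := by
  obtain ⟨r, hr⟩ := ht
  refine Finset.sum_involution (fun a _ => S.πT a) (fun a _ => ?_) (fun a _ _ => ?_)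
    (fun a _ => Finset.mem_univ _) fun a _ => S.πT_πT a
  · simp only [dualT, S.πT_πT, S.eT_πT, Odd.neg_one_pow ⟨r, hr⟩]
    ring
  · intro e
    exact S.nofix _ (congrFun e ⟨0, by omega⟩)

theorem dualT_comm (ht : Odd t) (u v : Idx k t → F) : S.dualT u ⬝ᵥ v = -(S.dualT v ⬝ᵥ u) := by
  have h := dualT_self (S := S) ht (u + v)
  rw [dualT_add, add_dotProduct, dotProduct_add, dotProduct_add, dualT_self ht, dualT_self ht, zero_add, add_zero] at h
  exact eq_neg_of_add_eq_zero_left h

theorem dualT_single (z : Idx k t) (v : Idx k t → F) :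
    S.dualT (Pi.single (S.πT z) 1) ⬝ᵥ v = -(S.eT z * v z) := by
  rw [dotProduct, Finset.sum_eq_single z (fun b _ hb => ?_) (fun h => absurd (Finset.mem_univ _) h)]
  · simp [dualT]
  · simp [dualT, S.πT_inj.ne hb]

variable (S) in
/-- All transvections at the vector lie in the group. -/
def Tv (G : Subgroup (GL (Idx k t) F)) (v : Idx k t → F) : Prop :=
  ∀ c : F, S.InI G (1 + c • Matrix.vecMulVec v (S.dualT v))

theorem Tv.smul {v : Idx k t → F} (h : S.Tv G v) (a : F) : S.Tv G (a • v) := fun c => by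
  have := h (c * a * a)
  rwa [show c • Matrix.vecMulVec (a • v) (S.dualT (a • v)) = (c * a * a) • Matrix.vecMulVec v (S.dualT v) by
    rw [dualT_smul, Matrix.smul_vecMulVec, Matrix.vecMulVec_smul, smul_smul, smul_smul]]

theorem Tv.image (hG : S.SOver G) {v : Idx k t → F} (h : S.Tv G v) {g : GL (Idx k t) F} (hg : g ∈ G)
    (hgi : S.IsoT g.val) : S.Tv G (g.val *ᵥ v) := fun c => by
  have hginv : (g⁻¹).val = S.adT g.val := (left_inv_eq_right_inv hgi (Units.mul_inv g)).symm
  have h1 := (h c).conj hG hg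
  rwa [map_add, map_one, map_smul, conjA_apply, Matrix.mul_vecMulVec, Matrix.vecMulVec_mul, hginv, dualT_vecMul] at h1

theorem Tv.line (hG : S.SOver G) {v w : Idx k t → F} (hv : S.Tv G v) (hw : S.Tv G w)
    (hne : S.dualT w ⬝ᵥ v ≠ 0) (b : F) : S.Tv G (v + b • w) := by
  obtain ⟨⟨g, hg, hgv⟩, hgi⟩ := hw (b / (S.dualT w ⬝ᵥ v))
  have := hv.image hG hg (by rw [hgv]; exact hgi)
  rwa [hgv, Matrix.add_mulVec, Matrix.one_mulVec, Matrix.smul_mulVec, Matrix.vecMulVec_mulVec, op_smul_eq_smul,
    smul_smul, div_mul_cancel₀ _ hne] at this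

variable (S) in
/-- The plane of the two basis vectors. -/
def Pr (G : Subgroup (GL (Idx k t) F)) (y z : Idx k t) : Prop :=
  ∀ l : F, S.Tv G (Pi.single y 1 + l • Pi.single z 1)

theorem Tv.ext (hG : S.SOver G) (h2 : (2 : F) ≠ 0) (ht : Odd t) {v : Idx k t → F} (hv : S.Tv G v)
    {x y : Idx k t} (hxy : y ≠ x) (hy : v y ≠ 0) {a : F} (hor : v x = 0 ∨ v x + a = 0)
    (hx : S.Tv G (Pi.single x 1)) (hP : S.Pr G (S.πT y) (S.πT x)) : S.Tv G (v + a • Pi.single x 1) := by
  classical
  rcases eq_or_ne a 0 with rfl | ha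
  · rwa [zero_smul, add_zero]
  obtain ⟨l, hl0, hl1, hl2⟩ : ∃ l : F, l ≠ 0 ∧ S.eT y * v y + l * (S.eT x * v x) ≠ 0 ∧
      S.eT y * v y + l * (S.eT x * (v x + a)) ≠ 0 := by
    have h0 : S.eT y * v y ≠ 0 := mul_ne_zero (left_ne_zero_of_mul_eq_one (S.eT_sq y)) hy
    by_contra hc
    push Not at hc
    rcases hor with e | e
    · have c1 := hc 1 one_ne_zero (by rw [e, mul_zero, mul_zero, add_zero]; exact h0)
      have c2 := hc (-1) (neg_ne_zero.2 one_ne_zero) (by rw [e, mul_zero, mul_zero, add_zero]; exact h0)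
      exact mul_ne_zero h2 h0 (by linear_combination c1 + c2)
    · have d1 : S.eT y * v y + 1 * (S.eT x * v x) = 0 := by
        by_contra d
        exact h0 (by have := hc 1 one_ne_zero d; rwa [e, mul_zero, mul_zero, add_zero] at this)
      have d2 : S.eT y * v y + -1 * (S.eT x * v x) = 0 := by
        by_contra d
        exact h0 (by have := hc (-1) (neg_ne_zero.2 one_ne_zero) d; rwa [e, mul_zero, mul_zero, add_zero] at this)
      exact mul_ne_zero h2 h0 (by linear_combination d1 + d2)
  set w : Idx k t → F := Pi.single (S.πT y) 1 + l • Pi.single (S.πT x) 1 with hw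
  have hwT : S.Tv G w := hP l
  have hval : ∀ u : Idx k t → F, S.dualT w ⬝ᵥ u = -(S.eT y * u y + l * (S.eT x * u x)) := fun u => by
    rw [hw, dualT_add, dualT_smul, add_dotProduct, smul_dotProduct, dualT_single, dualT_single, smul_eq_mul]; ring
  have n1 : S.dualT w ⬝ᵥ v ≠ 0 := by rw [hval]; exact neg_ne_zero.2 hl1
  have n2 : S.dualT w ⬝ᵥ (v + a • Pi.single x 1) ≠ 0 := by
    rw [hval]
    refine neg_ne_zero.2 ?_
    simpa [hxy] using hl2
  have n3 : S.dualT (Pi.single x 1) ⬝ᵥ w ≠ 0 := by
    rw [dualT_comm ht, hval]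
    simp [hxy, mul_ne_zero hl0 (left_ne_zero_of_mul_eq_one (S.eT_sq x))]
  obtain ⟨b, hb⟩ : ∃ b : F, S.dualT (Pi.single x 1) ⬝ᵥ (v + b • w) ≠ 0 := by
    by_cases h : S.dualT (Pi.single x 1) ⬝ᵥ v = 0
    · exact ⟨1, by rw [one_smul, dotProduct_add, h, zero_add]; exact n3⟩
    · exact ⟨0, by rwa [zero_smul, add_zero]⟩
  have h1 := (hv.line hG hwT n1 b).line hG hx hb a
  have h3 := h1.line hG hwT ?_ (-b)
  · rwa [neg_smul, add_right_comm v, add_neg_cancel_right] at h3
  · rw [add_right_comm v, dotProduct_add, dotProduct_smul, dualT_self ht, smul_zero, add_zero]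
    exact n2

theorem basis_tv (hG : S.SOver G) (hall : AllPerm G) (h2 : (2 : F) ≠ 0) (hk : 2 ≤ k) (ht : Odd t) (hR : ¬ S.NR G) (x : Idx k t) :
    S.Tv G (Pi.single x 1) := fun c => by
  have h := exists_transvection hG hall h2 hk ht hR x (c * -(S.eT (S.πT x)))
  have e : c • Matrix.vecMulVec (Pi.single x 1) (S.dualT (Pi.single x 1)) =
      (c * -(S.eT (S.πT x))) • Matrix.single x (S.πT x) (1 : F) := by
    have hd : S.dualT (Pi.single x 1) = (-(S.eT (S.πT x))) • Pi.single (S.πT x) 1 := by
      funext b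
      rcases eq_or_ne b (S.πT x) with rfl | hb
      · simp [dualT, S.πT_πT]
      · have : S.πT b ≠ x := fun e => hb (by rw [← e, S.πT_πT])
        simp [dualT, this, hb]
    rw [hd, Matrix.vecMulVec_smul, smul_smul, ← Matrix.single_eq_single_vecMulVec_single]
  rwa [e]

theorem fa_col {l : Fin t} (M : Matrix (Fin k) (Fin k) F) (y x : Idx k t) :
    (fa l M *ᵥ Pi.single y 1) x = if (∀ j, j ≠ l → x j = y j) then M (x l) (y l) else 0 := by
  rw [Matrix.mulVec_single_one]
  show fa l M x y = _
  rw [fa_apply, powStd_apply]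

theorem pr_all (hG : S.SOver G) (hall : AllPerm G) (h2 : (2 : F) ≠ 0) (hk : 2 ≤ k) (ht : Odd t) (hR : ¬ S.NR G) :
    ∀ (n : ℕ) (y z : Idx k t), (Finset.univ.filter fun l => y l ≠ z l).card = n → y ≠ z → S.Pr G y z := by
  classical
  intro n
  induction n using Nat.strong_induction_on with
  | _ n ih =>
  intro y z hn hyz c
  obtain ⟨l, hl⟩ := Function.ne_iff.1 hyz
  set z' := Function.update y l (z l) with hz'
  have hbase := basis_tv hG hall h2 hk ht hR
  have pure : ∀ (y : Idx k t) (l : Fin t) (a : Fin k), a ≠ y l → S.Pr G y (Function.update y l a) := by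
    intro y l a ha c
    obtain ⟨g, hg, hgv⟩ := S.exists_move (v := Pi.single (y l) 1) (w := Pi.single (y l) 1 + c • Pi.single a 1)
      (by simp) (fun e => by
        have := congrFun e (y l)
        simp [Ne.symm ha] at this)
    have h1 := (hbase y).image hG (hG.sp l g hg) (S.isoT_fu hg l)
    convert h1 using 1
    funext x
    rw [fu_val, fa_col]
    have hcol : ∀ p, g.val p (y l) = (Pi.single (y l) 1 + c • Pi.single a 1 : Fin k → F) p := fun p => by
      rw [← hgv, Matrix.mulVec_single_one]; rfl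
    simp only [hcol, Pi.add_apply, Pi.smul_apply, Pi.single_apply, smul_eq_mul, mul_ite, mul_one, mul_zero]
    by_cases hx : ∀ j, j ≠ l → x j = y j
    · rw [if_pos hx]
      have e1 : (x = y) ↔ x l = y l := ⟨fun e => by rw [e], fun e => funext fun j => by
        rcases eq_or_ne j l with rfl | hj; exacts [e, hx j hj]⟩
      have e2 : (x = Function.update y l a) ↔ x l = a := ⟨fun e => by rw [e, Function.update_self], fun e =>
        funext fun j => by
          rcases eq_or_ne j l with rfl | hj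
          · rw [Function.update_self, e]
          · rw [Function.update_of_ne hj, hx j hj]⟩
      simp only [e1, e2]
    · rw [if_neg hx]
      have e1 : x ≠ y := fun e => hx fun j _ => by rw [e]
      have e2 : x ≠ Function.update y l a := fun e => hx fun j hj => by rw [e, Function.update_of_ne hj]
      simp [e1, e2]
  have h1 := pure y l (z l) (Ne.symm hl)
  by_cases hzz : z' = z
  · have h1' : S.Pr G y z' := h1
    rw [hzz] at h1'
    exact h1' c
  have hz'y : z' ≠ y := fun e => hl (by have := congrFun e l; rw [hz', Function.update_self] at this; exact this.symm)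
  have hlt : (Finset.univ.filter fun j => S.πT z' j ≠ S.πT z j).card < n := by
    rw [← hn]
    refine Finset.card_lt_card ⟨fun j => ?_, fun hsub => ?_⟩
    · simp only [Finset.mem_filter, Finset.mem_univ, true_and, πT, S.π_inj.ne_iff, hz']
      rcases eq_or_ne j l with rfl | hj
      · simp
      · rw [Function.update_of_ne hj]; exact id
    · have := hsub (Finset.mem_filter.2 ⟨Finset.mem_univ _, hl⟩ : l ∈ _)
      simp [πT, hz'] at this
  have hIH : S.Pr G (S.πT z') (S.πT z) := ih _ hlt _ _ rfl (S.πT_inj.ne hzz)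
  -- add the third vector, then remove the middle one
  set v : Idx k t → F := Pi.single y 1 + (1 : F) • Pi.single z' 1
  have hv : S.Tv G v := h1 1
  have hv1 : v z' = 1 := by simp [v, hz'y]
  have hv0 : v z = 0 := by simp [v, hyz.symm, Ne.symm hzz]
  have hadd := hv.ext hG h2 ht (x := z) (y := z') (a := c) hzz (by rw [hv1]; exact one_ne_zero)
    (Or.inl hv0) (hbase z) hIH
  have hneigh : S.Pr G (S.πT y) (S.πT z') := by
    have e : S.πT z' = Function.update (S.πT y) l (S.π (z l)) := by
      funext j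
      rcases eq_or_ne j l with rfl | hj
      · simp [πT, hz']
      · simp [πT, hz', hj]
    rw [e]
    exact pure _ _ _ fun e => hl (S.π_inj e).symm
  have hrem := hadd.ext hG h2 ht (x := z') (y := y) (a := -1) hz'y.symm
    (by simp [v, hyz, hz'y.symm]) (Or.inr (by simp [hv1, hzz]))
    (hbase z') hneigh
  convert hrem using 1
  simp only [v, one_smul, neg_smul]
  abel

theorem tv_all (hG : S.SOver G) (hall : AllPerm G) (h2 : (2 : F) ≠ 0) (hk : 2 ≤ k) (ht : Odd t) (hR : ¬ S.NR G)
    (v : Idx k t → F) : S.Tv G v := by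
  classical
  suffices h : ∀ s : Finset (Idx k t), ∀ v : Idx k t → F, (∀ x, x ∉ s → v x = 0) → S.Tv G v from
    h Finset.univ v fun x hx => absurd (Finset.mem_univ x) hx
  intro s
  induction s using Finset.induction_on with
  | empty =>
    intro v hv
    have hk0 : 0 < k := by omega
    rw [show v = (0 : F) • Pi.single (fun _ => ⟨0, hk0⟩) 1 by funext x; simp [hv x (by simp)]]
    exact (basis_tv hG hall h2 hk ht hR _).smul 0
  | insert x s hx ih =>
    intro v hv
    set v' := v + (-v x) • Pi.single x 1 with hv'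
    have hv'x : v' x = 0 := by simp [hv']
    have hv'T : S.Tv G v' := ih v' fun z hz => by
      rcases eq_or_ne z x with rfl | hzx
      · exact hv'x
      · simp [hv', hzx, hv z (by simp [hzx, hz])]
    have e : v = v' + v x • Pi.single x 1 := by rw [hv', neg_smul, neg_add_cancel_right]
    by_cases h0 : v' = 0
    · rw [e, h0, zero_add]
      exact (basis_tv hG hall h2 hk ht hR x).smul _
    obtain ⟨y, hy⟩ := Function.ne_iff.1 h0
    have hyx : y ≠ x := fun e => hy (by rw [e, hv'x]; rfl)
    rw [e]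
    exact hv'T.ext hG h2 ht hyx hy (Or.inl hv'x) (basis_tv hG hall h2 hk ht hR x)
      (pr_all hG hall h2 hk ht hR _ _ _ rfl (S.πT_inj.ne hyx))

/-- With a non-scalar coefficient the group contains every isometry. -/
theorem iso_le_of_rich (hG : S.SOver G) (hall : AllPerm G) (h2 : (2 : F) ≠ 0) (hk : 2 ≤ k) (ht : Odd t) (hR : ¬ S.NR G)
    (g : GL (Idx k t) F) (hg : S.IsoT g.val) : g ∈ G := by
  classical
  let B : LinearMap.BilinForm F (Idx k t → F) := LinearMap.mk₂ F (fun u v => S.dualT v ⬝ᵥ u)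
    (fun u u' v => dotProduct_add _ _ _) (fun c u v => dotProduct_smul _ _ _)
    (fun u v v' => by rw [dualT_add, add_dotProduct]) (fun c u v => by rw [dualT_smul, smul_dotProduct])
  have hB : ∀ u v, B u v = S.dualT v ⬝ᵥ u := fun u v => rfl
  have hA : B.IsAlt := fun u => dualT_self ht u
  have hnd : B.Nondegenerate := by
    refine ⟨fun u hu => funext fun z => ?_, fun v hv => funext fun z => ?_⟩
    · have h := hu (Pi.single (S.πT z) 1)
      rw [hB, dualT_single] at h
      simpa [left_ne_zero_of_mul_eq_one (S.eT_sq z)] using h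
    · have h := hv (Pi.single (S.πT z) 1)
      rw [hB, dualT_comm ht, dualT_single] at h
      simpa [left_ne_zero_of_mul_eq_one (S.eT_sq z)] using h
  let E := Symp.glEquiv (Idx k t) F
  have hiso : E g ∈ Symp.iso B := fun u v => by
    rw [hB, hB, Symp.glEquiv_apply, Symp.glEquiv_apply, ← dualT_vecMul, ← Matrix.dotProduct_mulVec,
      Matrix.mulVec_mulVec, hg, Matrix.one_mulVec]
  have hle : (⊤ : Subgroup (Symp.iso B)) ≤ (G.map E.toMonoidHom).subgroupOf (Symp.iso B) := by
    rw [← Symp.closure_tvG hnd hA, Subgroup.closure_le]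
    rintro _ ⟨v, c, rfl⟩
    obtain ⟨⟨x, hx, hxv⟩, -⟩ := tv_all hG hall h2 hk ht hR v c
    refine ⟨x, hx, LinearEquiv.ext fun u => ?_⟩
    show E x u = u + (c * B u v) • v
    rw [Symp.glEquiv_apply, hxv, Matrix.add_mulVec, Matrix.one_mulVec, Matrix.smul_mulVec, Matrix.vecMulVec_mulVec,
      op_smul_eq_smul, smul_smul, hB]
  obtain ⟨x, hx, he⟩ := hle (Subgroup.mem_top (⟨E g, hiso⟩ : Symp.iso B))
  exact E.injective he ▸ hx

end Cfsg.Lib.Linear.SpWreath.Std
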