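import Cfsg.Agent.Lib.Linear.SpWreath.Classify
import Cfsg.Agent.Lib.Linear.TWreath.Odd

/-!
# Factors of dimension at least four

A transvection and a moved conjugate give a central involution, and the conjugate commutes with a
transvection.
-/

set_option autoImplicit false
set_option linter.unusedSectionVars false

namespace Cfsg.Lib.Linear.SpWreath.Std

open Cfsg.Geo Cfsg.Lib.Linear.AschGen Cfsg.Lib.Linear.TWreath
open Cfsg.Lib.Linear.OOTensor (opHom)
open scoped Matrix MatrixGroups

variable {F : Type*} [Field F] {k t : ℕ} {S : Std k F} {G : Subgroup (GL (Idx k t) F)}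

/-- In odd characteristic nothing is moved. -/
theorem Ctx.odd_false [Finite F] (C : Ctx S G) (hm : 3 ≤ k) {b : GL (Idx k t) F} (hb : S.IsD G b)
    (hbm : b ∉ mst k t F) : False := by
  classical
  have h2 := C.h2
  haveI : Nonempty (Idx k t) := ⟨fun _ => p0 hm⟩
  obtain ⟨p, hp⟩ := CharP.exists F
  haveI : Fact p.Prime := ⟨CharP.char_is_prime F p⟩
  have ht0 : 0 < t := by have := C.ht; omega
  set i : Fin t := ⟨0, ht0⟩
  set z0 := p0 hm with hz0
  set z1 := S.π z0 with hz1
  have h01' : z0 ≠ z1 := (S.nofix z0).symm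
  set s := fu i (S.trv (Pi.single z0 1) (S.e z0)) with hs
  have hsT : S.IsTv s i := ⟨Pi.single z0 1, S.e z0, by simp, S.e_ne z0, by
    rw [hs, fu_val, S.trv_val, map_add, map_one, map_smul]⟩
  have hnp : ¬ IsPGroup p (Subgroup.closure {s, b} : Subgroup (GL (Idx k t) F)) :=
    fun h => hbm (C.not_pgroup p hsT hb h)
  set N0 : Matrix (Idx k t) (Idx k t) F := fa i (sg z0 z1) with hN0
  have hsN : s.val - 1 = N0 := by
    rw [hs, fu_val, S.trv_val, S.nr_single, smul_smul, S.sign, one_smul, map_add, map_one, add_sub_cancel_left]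
  obtain ⟨hbsq, hbsk, hbrk⟩ := isD_facts C.hov hb
  set n := b.val - 1 with hn
  let e := (Matrix.toLinAlgEquiv' : Matrix (Idx k t) (Idx k t) F ≃ₐ[F] _)
  have hopM : opHom s - 1 = e N0 := by rw [TWreath.opHom_eq, ← hsN, map_sub, map_one]
  have hopN : opHom b - 1 = e n := by rw [TWreath.opHom_eq, hn, map_sub, map_one]
  have hN00 : N0 * N0 = 0 := by rw [hN0, ← map_mul, sg_mul_ne _ _ h01'.symm, map_zero]
  obtain ⟨zz, hzH, hzz, hz1', hzs, hzb, R, hRs, hRb, hzR⟩ := Pair.exists_central_involution h2 p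
    (a := s) (b := b) (by rw [hopM, ← map_mul, hN00, map_zero]) (by rw [hopN, ← map_mul, hbsq, map_zero]) hnp
  set Rm := e.symm R with hRm
  rw [hopM] at hRs hzR
  rw [hopN] at hRb hzR
  have hRN0 : Rm * N0 = N0 * Rm := e.injective (by rw [map_mul, map_mul, hRm, e.apply_symm_apply]; exact hRs.eq)
  have hRn : Rm * n = n * Rm := e.injective (by rw [map_mul, map_mul, hRm, e.apply_symm_apply]; exact hRb.eq)
  have hzT : zz.val - 1 = Rm * (N0 * n + n * N0) := e.injective (by
    rw [map_sub, map_one, ← TWreath.opHom_eq, hzR]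
    simp only [map_mul, map_add, hRm, e.apply_symm_apply])
  have hzG : zz ∈ G := (Subgroup.closure_le _).2 (Set.insert_subset (hsT.mem C.hov)
    (Set.singleton_subset_iff.2 (hb.mem C.hov))) hzH
  obtain ⟨σ, hσ⟩ := C.cent_tv hzG hsT hzs
  obtain ⟨a, ha⟩ := hσ i
  have hzN : zz.val * N0 = N0 * zz.val := by
    have := congrArg Units.val hzs
    rw [Units.val_mul, Units.val_mul] at this
    rw [← hsN, mul_sub, sub_mul, this, one_mul, mul_one]
  have hzn : zz.val * n = n * zz.val := by
    have := congrArg Units.val hzb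
    rw [Units.val_mul, Units.val_mul] at this
    rw [hn, mul_sub, sub_mul, this, one_mul, mul_one]
  have ha1 := ha (sg z0 z1)
  rw [conjA_apply, ← hN0, hzN, mul_assoc, Units.mul_inv, mul_one] at ha1
  have hσi : σ i = i := by
    by_contra hne
    obtain ⟨c, hc⟩ := eq_of_fa_eq (by omega) (Ne.symm hne) ha1
    simpa [h01'] using congrFun (congrFun hc z0) z1
  rw [hσi] at ha ha1
  have haT : a.val * sg z0 z1 = sg z0 z1 * a.val := by
    have h1 := fa_injective (by omega) i ha1
    rw [conjA_apply] at h1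
    have h2 := congrArg (· * a.val) h1
    simp only [mul_assoc, Units.inv_mul, mul_one] at h2
    exact h2.symm
  have hcol : ∀ p, a.val p z0 = if p = z0 then a.val z1 z1 else 0 := fun p => by
    have := congrFun (congrFun haT p) z1
    simp [Matrix.mul_apply, Matrix.single_apply, Finset.sum_ite_eq, ite_and] at this
    rw [this]
    by_cases h : p = z0 <;> simp [h, eq_comm]
  have hrow : ∀ q, a.val z1 q = if q = z1 then a.val z1 z1 else 0 := fun q => by
    by_cases h : q = z1
    · simp [h]
    have := congrFun (congrFun haT z0) q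
    simp [Matrix.mul_apply, Matrix.single_apply, ite_and] at this
    rw [if_neg h]
    simpa [h, Ne.symm h] using this.symm
  set w := (fu i a)⁻¹ * zz with hw
  have hwA : Acts w i i 1 := by simpa using (acts_fu i a).inv.mul ha
  have hwc : Com i w.val := fun X => by
    have := congrArg (· * w.val) (hwA X)
    simp only [conjA_one] at this
    simp only [conjA_apply, mul_assoc, Units.inv_mul, mul_one] at this
    exact this.symm
  have hzval : zz.val = fa i a.val * w.val := by rw [← fu_val, ← Units.val_mul, hw, mul_inv_cancel_left]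
  set α := a.val z1 z1 with hα
  have hsq : fa i (a.val * a.val) * (w.val * w.val) = 1 := by
    have h1 := congrArg Units.val hzz
    rw [Units.val_mul, Units.val_one, hzval, mul_assoc, ← mul_assoc w.val, ← (hwc a.val).eq, mul_assoc,
      ← mul_assoc, ← map_mul] at h1
    exact h1
  have hent : ∀ p q, (a.val * a.val) p q • (w.val * w.val) = (if p = q then (1 : F) else 0) • 1 := fun p q => by
    have hval : fa i (sg z0 p) * (fa i (a.val * a.val) * (w.val * w.val)) * fa i (sg q z0) =
        (a.val * a.val) p q • (fa i (sg z0 z0) * (w.val * w.val)) := by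
      rw [← mul_assoc, mul_assoc _ (w.val * w.val), ← ((hwc.mul hwc) _).eq, ← mul_assoc, ← map_mul, ← map_mul,
        sg_mul_mul, map_smul, smul_mul_assoc]
    have h1 := congrArg (fun M => fa i (sg z0 p) * M * fa i (sg q z0)) hsq
    rw [hval, mul_one, ← map_mul] at h1
    have h2 : fa i (sg z0 p * sg q z0 : Matrix (Fin k) (Fin k) F) = (if p = q then (1 : F) else 0) • fa (t := t) i (sg z0 z0) := by
      by_cases hpq : p = q
      · subst hpq; rw [sg_mul, if_pos rfl, one_smul]
      · rw [sg_mul_ne _ _ hpq, if_neg hpq, zero_smul, map_zero]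
    rw [h2] at h1
    refine sub_eq_zero.1 (eq_zero_of_fa_mul (i := i) (sg_ne_zero z0 z0)
      (((hwc.mul hwc).smul _).sub (com_scalar i _)) ?_)
    rw [mul_sub, mul_smul_comm, h1, mul_smul_comm, mul_one, sub_self]
  have hA00 : (a.val * a.val) z0 z0 = α * α := by
    rw [Matrix.mul_apply, Finset.sum_eq_single z0 (fun p _ hp => by rw [hcol p, if_neg hp, mul_zero])
      (fun h => absurd (Finset.mem_univ _) h), hcol z0, if_pos rfl]
  have hW2 := hent z0 z0
  rw [hA00, if_pos rfl, one_smul] at hW2
  have hα0 : α ≠ 0 := fun h => by rw [h, mul_zero, zero_smul] at hW2; exact zero_ne_one hW2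
  set A := α⁻¹ • a.val with hAdef
  set W := α • w.val with hWdef
  have hzAW : zz.val = fa i A * W := by
    rw [hzval, hAdef, hWdef, map_smul, smul_mul_smul_comm, inv_mul_cancel₀ hα0, one_smul]
  have hWW : W * W = 1 := by rw [hWdef, smul_mul_smul_comm, hW2]
  have hWc : Com i W := hwc.smul α
  have hAA : A * A = 1 := by
    ext p q
    have h1 := congrArg (fun M => (α * α) • M) (hent p q)
    simp only [smul_comm (α * α) ((a.val * a.val) p q), hW2] at h1
    rw [smul_smul] at h1
    have h2 : (a.val * a.val) p q = α * α * (if p = q then 1 else 0) := smul_left_injective F one_ne_zero h1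
    rw [hAdef, smul_mul_smul_comm, Matrix.smul_apply, smul_eq_mul, h2, Matrix.one_apply]
    field_simp
  have hcolA : ∀ p, A p z0 = if p = z0 then 1 else 0 := fun p => by
    rw [hAdef, Matrix.smul_apply, smul_eq_mul, hcol]
    split_ifs
    · exact inv_mul_cancel₀ hα0
    · exact mul_zero _
  have hrowA : ∀ q, A z1 q = if q = z1 then 1 else 0 := fun q => by
    rw [hAdef, Matrix.smul_apply, smul_eq_mul, hrow]
    split_ifs
    · exact inv_mul_cancel₀ hα0
    · exact mul_zero _
  set δ : Fin k → F := Pi.single z0 1 with hδ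
  -- eigenvectors for `-1` killed by the transvection lie in the slab
  have hkey : ∀ X, zz.val * X = -X → N0 * X = 0 → fa i (sg z0 z0) * X = X := by
    intro X h1 h3
    have h4 : (zz.val - 1) * X = Rm * (N0 * n + n * N0) * X := by rw [hzT]
    rw [sub_mul, h1, one_mul, mul_add, add_mul, mul_assoc Rm (n * N0), mul_assoc n, h3, mul_zero, mul_zero,
      add_zero, ← mul_assoc Rm, hRN0, mul_assoc N0, mul_assoc N0] at h4
    have h5 : X = (-(2 : F)⁻¹) • (N0 * (Rm * n * X)) := by
      rw [← h4, show -X - X = -((2 : F) • X) by rw [two_smul]; abel, smul_neg, neg_smul, neg_neg, smul_smul,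
        inv_mul_cancel₀ h2, one_smul]
    rw [h5, mul_smul_comm, hN0, ← mul_assoc, ← map_mul, sg_mul]
  have hker : ∀ u : Fin k → F, u z1 = 0 → N0 * fa i (Matrix.vecMulVec u δ) = 0 := fun u hu => by
    rw [hN0, ← map_mul, sg_eq_vecMulVec, vmv', single_dotProduct, hu, mul_zero, zero_smul, map_zero]
  obtain ⟨r, hr0, hr1⟩ := TWreath.exists_third hm z0 z1
  have hu1 : ∀ (σ : F), ((Pi.single r (1 : F) : Fin k → F) + σ • A.col r) z1 = 0 := fun σ => by
    simp [hr1.symm, hrowA, hr1]
  have hAu : ∀ (σ : F), σ * σ = 1 → A *ᵥ ((Pi.single r (1 : F) : Fin k → F) + σ • A.col r) = σ • ((Pi.single r (1 : F) : Fin k → F) + σ • A.col r) := by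
    intro σ hσ
    rw [Matrix.mulVec_add, Matrix.mulVec_smul, Matrix.mulVec_single_one,
      show A *ᵥ A.col r = Pi.single r (1 : F) by
        rw [← Matrix.mulVec_single_one, Matrix.mulVec_mulVec, hAA, Matrix.one_mulVec],
      smul_add, smul_smul, hσ, one_smul, add_comm]
  have hsigned : ∀ σ : F, σ * σ = 1 → ((Pi.single r (1 : F) : Fin k → F) + σ • A.col r) r ≠ 0 → W = σ • 1 := by
    intro σ hσ hur
    set u := (Pi.single r (1 : F) : Fin k → F) + σ • A.col r with hu
    have hX1 : zz.val * (fa i (Matrix.vecMulVec u δ) * (1 - σ • W)) = -(fa i (Matrix.vecMulVec u δ) * (1 - σ • W)) := by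
      have hzY : zz.val * fa i (Matrix.vecMulVec u δ) = σ • (fa i (Matrix.vecMulVec u δ) * W) := by
        rw [hzAW, mul_assoc, ← (hWc _).eq, ← mul_assoc, ← map_mul, Matrix.mul_vecMulVec, hu, hAu σ hσ, ← hu,
          Matrix.smul_vecMulVec, map_smul, smul_mul_assoc]
      rw [← mul_assoc, hzY, smul_mul_assoc, mul_assoc, mul_sub W, mul_one, mul_smul_comm, hWW, ← mul_smul_comm,
        ← mul_neg, smul_sub, smul_smul σ σ, hσ, one_smul, neg_sub]
    have h1 := hkey _ hX1 (by rw [← mul_assoc, hker u (by rw [hu]; exact hu1 σ), zero_mul])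
    rw [← mul_assoc, ← map_mul] at h1
    have h3 : fa i (sg z0 z0 * Matrix.vecMulVec u δ - Matrix.vecMulVec u δ) * (1 - σ • W) = 0 := by
      rw [map_sub, sub_mul, h1, sub_self]
    have h4 := eq_zero_of_fa_mul (i := i) (fun h => hur (by
      have := congrFun (congrFun h r) z0
      simpa [sg_eq_vecMulVec, vmv', Matrix.vecMulVec_apply, hδ, hr0] using this)) ((com_one i).sub (hWc.smul σ)) h3
    rw [sub_eq_zero] at h4
    rw [h4, smul_smul, hσ, one_smul]
  obtain ⟨σ', hσσ, hWσ⟩ : ∃ σ : F, σ * σ = 1 ∧ W = σ • 1 := by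
    rcases eq_or_ne (((Pi.single r (1 : F) : Fin k → F) + (1 : F) • A.col r) r) 0 with h | h
    · refine ⟨-1, by ring, hsigned (-1) (by ring) fun h' => h2 ?_⟩
      simp at h h'
      linear_combination h + h'
    · exact ⟨1, by ring, hsigned 1 (by ring) h⟩
  set A' := σ' • A with hA'
  have hzA : zz.val = fa i A' := by simp only [hzAW, hWσ, hA', hAdef, map_smul, mul_smul_comm, mul_one]
  have hA'A : A' * A' = 1 := by rw [hA', smul_mul_smul_comm, hσσ, one_smul, hAA]
  have hcol' : A' *ᵥ δ = σ' • δ := by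
    funext p
    simp [hδ, hA', hcolA, Pi.single_apply]
  have hline : ∀ u : Fin k → F, A' *ᵥ u = -u → u z1 = 0 → ∀ p, p ≠ z0 → u p = 0 := by
    intro u hu hu1 p hp
    have h1 := hkey (fa i (Matrix.vecMulVec u δ)) (by
      rw [hzA, ← map_mul, Matrix.mul_vecMulVec, hu, Matrix.neg_vecMulVec, map_neg]) (hker u hu1)
    rw [← map_mul] at h1
    have h3 := congrFun (congrFun (fa_injective (by omega) i h1) p) z0
    simpa [sg_eq_vecMulVec, vmv', Matrix.vecMulVec_apply, hδ, hp] using h3.symm
  have hσne : σ' = -1 := by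
    rcases (mul_self_eq_one_iff.1 hσσ) with h | h
    swap
    · exact h
    exfalso
    refine hz1' (Units.ext ?_)
    rw [hzA, Units.val_one, ← map_one (fa i)]
    congr 1
    ext p q
    set v := (Pi.single q (1 : F) : Fin k → F) - A' *ᵥ Pi.single q 1 with hv
    have hAv : A' *ᵥ v = -v := by
      rw [hv, Matrix.mulVec_sub, Matrix.mulVec_mulVec _ A', hA'A, Matrix.one_mulVec, neg_sub]
    have hv1 : v z1 = 0 := by
      simp [hv, hA', h, hrowA, Pi.single_apply, eq_comm]
    have h1 := hline v hAv hv1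
    have h3 : v z0 = 0 := by
      have h4 := congrFun hAv z0
      rw [show A' *ᵥ v = v z0 • (A' *ᵥ δ) by
        conv_lhs => rw [show v = v z0 • δ from funext fun p => by
          rcases eq_or_ne p z0 with rfl | hp
          · simp [hδ]
          · simp [hδ, h1 p hp, hp]]
        rw [Matrix.mulVec_smul], hcol', h, one_smul] at h4
      simp [hδ] at h4
      exact (mul_eq_zero.1 (show (2 : F) * v z0 = 0 by linear_combination h4)).resolve_left h2
    have h5 : v p = 0 := by
      rcases eq_or_ne p z0 with rfl | hp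
      · exact h3
      · exact h1 p hp
    simp [hv] at h5
    rw [sub_eq_zero] at h5
    rw [← h5, Matrix.one_apply, Pi.single_apply]
  set u := (Pi.single r (1 : F) : Fin k → F) + A' *ᵥ Pi.single r 1 with hu
  have hu0 : u ≠ 0 := fun h => by
    have h1 : A' *ᵥ Pi.single r (1 : F) = -Pi.single r 1 := eq_neg_of_add_eq_zero_right h
    simpa using hline _ h1 (by simp [hr1.symm]) r hr0
  have hAu' : A' *ᵥ u = u := by rw [hu, Matrix.mulVec_add, Matrix.mulVec_mulVec _ A', hA'A, Matrix.one_mulVec, add_comm]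
  have hzn' : zz.val * zz.val = 1 := by rw [← Units.val_mul, hzz, Units.val_one]
  set Pm := 1 - zz.val with hPm
  have hN0P : N0 * Pm = (2 : F) • N0 := by
    rw [hPm, hzA, mul_sub, mul_one, hN0, ← map_mul, show sg z0 z1 * A' = -(sg z0 z1 : Matrix (Fin k) (Fin k) F) by
      ext p q
      simp [Matrix.mul_apply, Matrix.single_apply, ite_and, hA', hσne, hrowA]
      by_cases hp : z0 = p <;> by_cases hq : q = z1 <;> simp [hp, hq, eq_comm], map_neg, sub_neg_eq_add, two_smul]
  have hzP : (zz.val - 1) * Pm = (-(2 : F)) • Pm := by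
    rw [neg_smul, two_smul, hPm]
    simp only [sub_mul, mul_sub, mul_one, one_mul, hzn']
    abel
  have hk : (fa i (sg z0 z0 : Matrix (Fin k) (Fin k) F)).rank ≤ (n * Pm).rank := by
    have h1 : Rm * N0 * (n * Pm) * N0 = (-(2 : F)) • (N0 * Pm) := by
      rw [← mul_smul_comm, ← hzP, hzT]
      have hPN : Pm * N0 = N0 * Pm := by rw [hPm, sub_mul, mul_sub, one_mul, mul_one, hzN]
      simp only [mul_add, add_mul, mul_assoc, hPN]
      rw [← mul_assoc N0 Rm, ← hRN0, mul_assoc, ← mul_assoc N0 Rm, ← hRN0, mul_assoc, ← mul_assoc N0 N0 (n * Pm),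
        hN00, zero_mul, mul_zero, zero_add]
    rw [hN0P, smul_smul] at h1
    have h3 : N0 = (-(2 : F) * 2)⁻¹ • (Rm * N0 * (n * Pm) * N0) := by
      rw [h1, smul_smul, inv_mul_cancel₀ (mul_ne_zero (neg_ne_zero.2 h2) h2), one_smul]
    rw [← rank_fa_sg i z0 z1 z0, ← hN0]
    conv_lhs => rw [h3]
    rw [← Matrix.mul_smul]
    exact (Matrix.rank_mul_le_left _ _).trans (Matrix.rank_mul_le_right _ _)
  have hPn : (1 + zz.val) * n = 0 := by
    by_contra hne
    have h0 : (1 + zz.val) * (n * Pm) = 0 := by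
      rw [← mul_assoc, show (1 + zz.val) * n = n * (1 + zz.val) by rw [add_mul, mul_add, one_mul, mul_one, hzn],
        mul_assoc, hPm, show (1 + zz.val) * (1 - zz.val) = 1 - zz.val * zz.val by noncomm_ring, hzn', sub_self,
        mul_zero]
    have := rank_lt h0 hne
    rw [hbrk i z0] at this
    omega
  have h1 : n * fa i (Matrix.vecMulVec u δ) = 0 := by
    have h3 : (1 + zz.val) * fa i (Matrix.vecMulVec u δ) = (2 : F) • fa i (Matrix.vecMulVec u δ) := by
      rw [add_mul, one_mul, hzA, ← map_mul, Matrix.mul_vecMulVec, hAu', two_smul]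
    have h4 := congrArg (n * ·) h3
    simp only [← mul_assoc, mul_smul_comm] at h4
    rw [show n * (1 + zz.val) = (1 + zz.val) * n by rw [add_mul, mul_add, one_mul, mul_one, hzn], hPn, zero_mul] at h4
    exact (smul_eq_zero.1 h4.symm).resolve_left h2
  have hN1 : n * fa i (S.nr u) = 0 := by
    have e : S.nr u = Matrix.vecMulVec u δ * Matrix.vecMulVec δ (S.dual u) := by
      rw [Matrix.vecMulVec_mul_vecMulVec, hδ]
      simp
      rfl
    rw [e, map_mul, ← mul_assoc, h1, zero_mul]
  have hN2 : fa i (S.nr u) * n = 0 := by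
    have h := congrArg S.adT hN1
    rw [S.adT_mul, hbsk, S.adT_fa, S.ad_nr, map_neg, neg_mul_neg, S.adT_zero] at h
    exact h
  refine hbm (C.cent_tv (hb.mem C.hov) (i := i) (s := fu i (S.trv u 1))
    ⟨u, 1, hu0, one_ne_zero, by rw [fu_val, S.trv_val, map_add, map_one, map_smul]⟩ (Units.ext ?_))
  rw [Units.val_mul, Units.val_mul, fu_val, S.trv_val, one_smul, map_add, map_one,
    show b.val = 1 + n by rw [hn, add_sub_cancel]]
  simp only [add_mul, mul_add, mul_one, one_mul, hN1, hN2]
  abel

end Cfsg.Lib.Linear.SpWreath.Std
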