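import Cfsg.Agent.Lib.Linear.SpWreath.Classify
import Cfsg.Agent.Lib.Linear.TWreath.Odd
import Cfsg.Agent.Lib.Linear.SpOTensor.Field

/-!
# Two dimensional factors

The coefficient at a root of a conjugate of a root is a scalar, by induction on its rank.
-/

set_option autoImplicit false
set_option linter.unusedSectionVars false

namespace Cfsg.Lib.Linear.SpWreath.Std

open Cfsg.Geo Cfsg.Lib.Linear.AschGen Cfsg.Lib.Linear.TWreath Polynomial
open Cfsg.Lib.Linear.OOTensor (opHom)
open scoped Matrix MatrixGroups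

variable {F : Type*} [Field F] {k t : ℕ} {S : Std k F} {G : Subgroup (GL (Idx k t) F)}

/-- A multiple of a conjugate of a root matrix. -/
def IsN (S : Std k F) (G : Subgroup (GL (Idx k t) F)) (n : Matrix (Idx k t) (Idx k t) F) : Prop :=
  ∃ g ∈ G, ∃ j u, ∃ r : F, u ≠ 0 ∧ r ≠ 0 ∧ n = r • conjA g (fa j (S.nr u))

theorem IsN.sq {n : Matrix (Idx k t) (Idx k t) F} (h : S.IsN G n) : n * n = 0 := by
  obtain ⟨g, -, j, u, r, -, -, rfl⟩ := h
  rw [smul_mul_smul_comm, ← map_mul, ← map_mul, S.nr_mul_self, map_zero, map_zero, smul_zero]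

theorem IsN.conj {n : Matrix (Idx k t) (Idx k t) F} (h : S.IsN G n) {g : GL (Idx k t) F} (hg : g ∈ G) :
    S.IsN G (conjA g n) := by
  obtain ⟨g', hg', j, u, r, hu, hr, rfl⟩ := h
  exact ⟨g * g', G.mul_mem hg hg', j, u, r, hu, hr, by rw [map_smul, conjA_mul]⟩

theorem IsN.skew (hG : S.SOver G) {n : Matrix (Idx k t) (Idx k t) F} (h : S.IsN G n) : S.adT n = -n := by
  obtain ⟨g, hg, j, u, r, -, -, rfl⟩ := h
  rw [S.adT_smul, adT_conjA hG hg, S.adT_fa, S.ad_nr, map_neg, map_neg, smul_neg]

theorem IsN.exists_tv {n : Matrix (Idx k t) (Idx k t) F} (h : S.IsN G n) {c : F} (hc : c ≠ 0) :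
    ∃ x, S.IsD G x ∧ x.val = 1 + c • n := by
  obtain ⟨g, hg, j, u, r, hu, hr, rfl⟩ := h
  have hv : (fu j (S.trv u (c * r))).val = 1 + (c * r) • fa j (S.nr u) := by
    rw [fu_val, S.trv_val, map_add, map_one, map_smul]
  exact ⟨g * fu j (S.trv u (c * r)) * g⁻¹, ⟨g, hg, _, j, ⟨u, c * r, hu, mul_ne_zero hc hr, hv⟩, rfl⟩,
    by rw [val_conj, hv, map_add, map_one, map_smul, smul_smul]⟩

theorem IsN.exists_mem (hG : S.SOver G) {n : Matrix (Idx k t) (Idx k t) F} (h : S.IsN G n) (c : F) :
    ∃ x ∈ G, x.val = 1 + c • n ∧ (x⁻¹).val = 1 - c • n := by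
  obtain ⟨g, hg, j, u, r, hu, hr, rfl⟩ := h
  refine ⟨g * fu j (S.trv u (c * r)) * g⁻¹,
    G.mul_mem (G.mul_mem hg (hG.sp j _ (S.iso_trv u _))) (G.inv_mem hg), ?_, ?_⟩
  · rw [val_conj, fu_val, S.trv_val, map_add, map_one, map_smul, map_add, map_one, map_smul, smul_smul]
  · rw [mul_inv_rev, mul_inv_rev, inv_inv, ← mul_assoc, val_conj, fu_inv_val, S.trv_inv_val, map_sub, map_one,
      map_smul, map_sub, map_one, map_smul, smul_smul]

theorem com_aeval {i : Fin t} {A : Matrix (Idx k t) (Idx k t) F} (h : Com i A) (p : F[X]) : Com i (aeval A p) := by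
  induction p using Polynomial.induction_on' with
  | add p q hp hq => rw [map_add]; exact hp.add hq
  | monomial d r =>
    rw [aeval_monomial, ← Algebra.smul_def]
    refine Com.smul ?_ r
    induction d with
    | zero => rw [pow_zero]; exact com_one i
    | succ d ih => rw [pow_succ]; exact ih.mul h

theorem commute_aeval {A X : Matrix (Idx k t) (Idx k t) F} (h : Commute A X) (p : F[X]) :
    Commute (aeval A p) X := by
  induction p using Polynomial.induction_on' with
  | add p q hp hq => rw [map_add]; exact hp.add_left hq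
  | monomial d r => rw [aeval_monomial, ← Algebra.smul_def]; exact (h.pow_left d).smul_left r

theorem aeval_mul_of_semiconj {A B N : Matrix (Idx k t) (Idx k t) F} (h : A * N = N * B) (p : F[X]) :
    aeval A p * N = N * aeval B p := by
  induction p using Polynomial.induction_on' with
  | add p q hp hq => rw [map_add, map_add, add_mul, mul_add, hp, hq]
  | monomial d r =>
    rw [aeval_monomial, aeval_monomial, ← Algebra.smul_def, ← Algebra.smul_def, smul_mul_assoc, mul_smul_comm]
    congr 1
    induction d with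
    | zero => rw [pow_zero, pow_zero, one_mul, mul_one]
    | succ d ih => rw [pow_succ, pow_succ, mul_assoc, h, ← mul_assoc, ih, mul_assoc]

theorem adT_aeval {A : Matrix (Idx k t) (Idx k t) F} (h : S.adT A = A) (p : F[X]) :
    S.adT (aeval A p) = aeval A p := by
  induction p using Polynomial.induction_on' with
  | add p q hp hq => rw [map_add, S.adT_add, hp, hq]
  | monomial d r =>
    rw [aeval_monomial, ← Algebra.smul_def, S.adT_smul]
    congr 1
    induction d with
    | zero => rw [pow_zero, S.adT_one]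
    | succ d ih => rw [pow_succ, S.adT_mul, h, ih, ← pow_succ', pow_succ]

variable (S) in
/-- The root matrix of an index. -/
noncomputable def rt (i : Fin t) (a : Fin k) : Matrix (Idx k t) (Idx k t) F :=
  fa i (sg a (S.π a) : Matrix (Fin k) (Fin k) F)

variable (S) in
/-- The coefficient at a root. -/
noncomputable def coef (i : Fin t) (a : Fin k) (n : Matrix (Idx k t) (Idx k t) F) : Matrix (Idx k t) (Idx k t) F :=
  TWreath.comp i n (S.π a) a

theorem rt_coef (i : Fin t) (a : Fin k) (n : Matrix (Idx k t) (Idx k t) F) :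
    S.rt i a * S.coef i a n = S.rt i a * n * S.rt i a := by
  simp only [rt, coef, sg_comp]

theorem rt_sq (i : Fin t) (a : Fin k) : S.rt (t := t) i a * S.rt i a = 0 := by
  rw [rt, ← map_mul, sg_mul_ne _ _ (S.nofix a), map_zero]

theorem adT_rt (i : Fin t) (a : Fin k) : S.adT (S.rt (t := t) i a) = -S.rt i a := by
  rw [rt, S.adT_fa, S.ad_sg_long, map_neg]

theorem rt_cancel {i : Fin t} {a : Fin k} {P Q : Matrix (Idx k t) (Idx k t) F} (hP : Com i P) (hQ : Com i Q)
    (h : S.rt i a * P = S.rt i a * Q) : P = Q := by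
  refine sub_eq_zero.1 (eq_zero_of_fa_mul (i := i) (sg_ne a (S.π a)) (hP.sub hQ) ?_)
  rw [mul_sub]
  exact sub_eq_zero.2 h

theorem coef_adT {i : Fin t} {a : Fin k} {n : Matrix (Idx k t) (Idx k t) F} (h : S.adT n = -n) :
    S.adT (S.coef i a n) = S.coef i a n := by
  have hc : Com i (S.coef i a n) := comp_com _ _ _ _
  have h1 := congrArg S.adT (rt_coef (S := S) i a n)
  rw [show S.adT (S.rt i a * S.coef i a n) = fa i (S.ad (sg a (S.π a))) * S.adT (S.coef i a n) from
    S.adT_fa_mul hc _, S.adT_mul, S.adT_mul, h, adT_rt, S.ad_sg_long, map_neg, neg_mul_neg] at h1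
  refine rt_cancel (S := S) (a := a) (S.com_adT hc) hc ?_
  rw [rt_coef]
  show fa i (sg a (S.π a)) * _ = _
  rw [neg_mul] at h1
  have h2 := congrArg Neg.neg h1
  rw [neg_neg] at h2
  rw [h2, rt]
  simp only [neg_mul, neg_neg, mul_assoc]

theorem Ctx.stab_mem (C : Ctx S G) (hk2 : k = 2) {i : Fin t} {a : Fin k} {g : GL (Idx k t) F} (hg : g ∈ G)
    (h1 : S.rt i a * g.val * S.rt i a = 0) (h1' : S.rt i a * (g⁻¹).val * S.rt i a = 0) :
    g ∈ mst k t F := by
  have hall : ∀ q, q = a ∨ q = S.π a := fun q => by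
    by_contra hne
    push Not at hne
    have := Finset.card_le_univ ({a, S.π a, q} : Finset (Fin k))
    rw [Finset.card_insert_of_notMem (by simp [(S.nofix a).symm, hne.1.symm]),
      Finset.card_pair hne.2.symm, Fintype.card_fin] at this
    omega
  set s := fu i (S.trv (Pi.single a 1) (S.e a))
  have hsv : s.val = 1 + S.rt i a := by
    rw [fu_val, S.trv_val, S.nr_single, smul_smul, S.sign, one_smul, map_add, map_one]; rfl
  have hs : S.IsTv s i := ⟨Pi.single a 1, S.e a, by simp, S.e_ne a, by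
    rw [fu_val, S.trv_val, map_add, map_one, map_smul]⟩
  have hI : S.InI G (1 + conjA g (S.rt i a)) := by
    have h : S.InI G (1 + S.rt i a) := by
      rw [← hsv]; exact InI.of_fu C.hov i (S.iso_trv _ _)
    have := h.conj C.hov hg
    rwa [map_add, map_one] at this
  obtain ⟨X, (hX : fa i X = _)⟩ := transl C.hov C.nr C.h2 a hI
    (by
      show S.rt i a * conjA g (S.rt i a) = 0
      rw [conjA_apply, ← mul_assoc, ← mul_assoc, h1, zero_mul])
    (by
      show conjA g (S.rt i a) * S.rt i a = 0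
      rw [conjA_apply, mul_assoc, mul_assoc, ← mul_assoc (S.rt i a), h1', mul_zero])
    (fun p q p1 p2 _ _ => absurd (hall p) (not_or.2 ⟨p1, p2⟩))
  have hl : sg a (S.π a) * X = 0 := fa_injective (Fin.pos a) i (by
    rw [map_mul, hX, map_zero]
    show S.rt i a * _ = 0
    rw [conjA_apply, ← mul_assoc, ← mul_assoc, h1, zero_mul])
  have hr : X * sg a (S.π a) = 0 := fa_injective (Fin.pos a) i (by
    rw [map_mul, hX, map_zero]
    show _ * S.rt i a = 0
    rw [conjA_apply, mul_assoc, mul_assoc, ← mul_assoc (S.rt i a), h1', mul_zero])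
  have hrow : ∀ q, X (S.π a) q = 0 := fun q => by
    have h := congrFun (congrFun hl a) q
    rwa [Matrix.single_mul_apply_same, one_mul] at h
  have hcol : ∀ p, X p a = 0 := fun p => by
    have h := congrFun (congrFun hr p) (S.π a)
    rwa [Matrix.mul_single_apply_same, mul_one] at h
  have hXe : X = X a (S.π a) • sg a (S.π a) := by
    ext p q
    rcases hall p with rfl | rfl <;> rcases hall q with rfl | rfl <;>
      simp [hrow, hcol, Matrix.single_apply, S.nofix, (S.nofix _).symm]
  have hne : X a (S.π a) ≠ 0 := fun e => by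
    rw [hXe, e, zero_smul, map_zero] at hX
    exact fa_ne_zero (Fin.pos a) i (sg_ne a (S.π a)) ((map_eq_zero_iff _ (conjA g).injective).1 hX.symm)
  refine C.mem_of_tv hg hs (j := i) ⟨Pi.single a 1, X a (S.π a) * S.e a, by simp, mul_ne_zero hne (S.e_ne a), ?_⟩
  rw [val_conj, hsv, map_add, map_one, ← hX, S.nr_single, map_smul, smul_smul]
  conv_lhs => rw [hXe]
  rw [map_smul, mul_assoc, S.sign, mul_one]

/-- A product of the two root subgroups acting on a root by two polynomials in their anticommutator. -/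
def Rep (N n : Matrix (Idx k t) (Idx k t) F) (h : GL (Idx k t) F) (a c : F[X]) : Prop :=
  h.val * N = (aeval (N * n + n * N) a + n * aeval (N * n + n * N) c) * N ∧
    N * (h⁻¹).val = N * (aeval (N * n + n * N) a - aeval (N * n + n * N) c * n)

section Words

variable {i : Fin t} {a : Fin k} {n : Matrix (Idx k t) (Idx k t) F}

theorem M_rt (_hn : n * n = 0) : (S.rt i a * n + n * S.rt i a) * S.rt i a = S.rt i a * S.coef i a n := by
  rw [rt_coef, add_mul, mul_assoc n, rt_sq, mul_zero, add_zero]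

theorem M_comm (hn : n * n = 0) :
    Commute (S.rt i a * n + n * S.rt i a) (S.rt i a) ∧ Commute (S.rt i a * n + n * S.rt i a) n := by
  constructor <;> show _ * _ = _ * _
  · rw [add_mul, mul_add, mul_assoc n, rt_sq, mul_zero, add_zero, ← mul_assoc (S.rt i a) (S.rt i a), rt_sq,
      zero_mul, zero_add, mul_assoc]
  · rw [add_mul, mul_add, mul_assoc (S.rt i a), hn, mul_zero, zero_add, ← mul_assoc n n, hn, zero_mul, add_zero,
      mul_assoc]

theorem rep_one : Rep (S.rt i a) n (1 : GL (Idx k t) F) 1 0 := by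
  constructor <;> simp

theorem rep_upper (hn : n * n = 0) {h g : GL (Idx k t) F} {p c : F[X]} (hr : Rep (S.rt i a) n h p c) {r : F}
    (hg : g.val = 1 + r • S.rt i a) (hg' : (g⁻¹).val = 1 - r • S.rt i a) :
    Rep (S.rt i a) n (g * h) (p + Polynomial.C r * (X * c)) c := by
  set N := S.rt i a with hN
  set M := N * n + n * N with hM
  obtain ⟨h1, h2⟩ := hr
  rw [← hM] at h1 h2
  have hc : ∀ q : F[X], aeval M q * N = N * aeval M q := fun q => (commute_aeval (M_comm hn).1 q).eq
  have hc' : ∀ q : F[X], aeval M q * n = n * aeval M q := fun q => (commute_aeval (M_comm hn).2 q).eq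
  have hNN : N * N = 0 := rt_sq i a
  have hA : aeval M (p + Polynomial.C r * (X * c)) = aeval M p + r • (M * aeval M c) := by
    rw [map_add, map_mul, map_mul, aeval_C, aeval_X, ← Algebra.smul_def]
  have hNnN : N * (n * N) = M * N := by rw [hM, add_mul, mul_assoc n, hNN, mul_zero, add_zero, mul_assoc]
  constructor <;> rw [← hM, hA]
  · rw [Units.val_mul, mul_assoc, h1, hg]
    have e : N * ((aeval M p + n * aeval M c) * N) = M * aeval M c * N := by
      rw [add_mul, mul_add, ← mul_assoc N (aeval M p), ← hc, mul_assoc, hNN, mul_zero, zero_add, mul_assoc n, hc,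
        ← mul_assoc n, ← mul_assoc N, hNnN, mul_assoc, ← hc, mul_assoc]
    rw [add_mul 1 (r • N), one_mul, smul_mul_assoc, e]
    simp only [add_mul, smul_mul_assoc]
    abel
  · rw [mul_inv_rev, Units.val_mul, ← mul_assoc, h2, hg']
    have e : N * (aeval M p - aeval M c * n) * N = -(N * (M * aeval M c)) := by
      rw [mul_sub, sub_mul, mul_assoc N (aeval M p), hc, ← mul_assoc N N, hNN, zero_mul, zero_sub,
        ← mul_assoc N (aeval M c), ← hc, mul_assoc, mul_assoc, hNnN, ← mul_assoc, ← mul_assoc N M,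
        ← (M_comm hn).1.eq, mul_assoc M, ← hc, ← mul_assoc M, ← (commute_aeval (Commute.refl M) c).eq]
    rw [mul_sub (N * (aeval M p - aeval M c * n)), mul_one, mul_smul_comm, e, smul_neg, sub_neg_eq_add, mul_sub,
      mul_sub, mul_add, mul_smul_comm]
    abel

theorem rep_lower (hn : n * n = 0) {h g : GL (Idx k t) F} {p c : F[X]} (hr : Rep (S.rt i a) n h p c) {r : F}
    (hg : g.val = 1 + r • n) (hg' : (g⁻¹).val = 1 - r • n) :
    Rep (S.rt i a) n (g * h) p (c + Polynomial.C r * p) := by
  set N := S.rt i a with hN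
  set M := N * n + n * N with hM
  obtain ⟨h1, h2⟩ := hr
  rw [← hM] at h1 h2
  have hc' : ∀ q : F[X], aeval M q * n = n * aeval M q := fun q => (commute_aeval (M_comm hn).2 q).eq
  have hA : aeval M (c + Polynomial.C r * p) = aeval M c + r • aeval M p := by
    rw [map_add, map_mul, aeval_C, ← Algebra.smul_def]
  constructor <;> rw [← hM, hA]
  · rw [Units.val_mul, mul_assoc, h1, hg]
    have e : n * ((aeval M p + n * aeval M c) * N) = n * aeval M p * N := by
      rw [add_mul, mul_add, ← mul_assoc n (n * aeval M c), ← mul_assoc n n, hn, zero_mul, zero_mul, add_zero,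
        mul_assoc]
    rw [add_mul 1 (r • n), one_mul, smul_mul_assoc, e, mul_add n, mul_smul_comm]
    simp only [add_mul, smul_mul_assoc]
    abel
  · rw [mul_inv_rev, Units.val_mul, ← mul_assoc, h2, hg']
    have e : N * (aeval M p - aeval M c * n) * n = N * (aeval M p * n) := by
      rw [mul_assoc, sub_mul, mul_assoc, hn, mul_zero, sub_zero]
    rw [mul_sub (N * (aeval M p - aeval M c * n)), mul_one, mul_smul_comm, e, add_mul, smul_mul_assoc]
    simp only [mul_sub, mul_add, mul_smul_comm]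
    abel

/-- The image of the root under a word. -/
theorem rep_image (hn : n * n = 0) {h : GL (Idx k t) F} {p c : F[X]} (hr : Rep (S.rt i a) n h p c) :
    S.coef i a (conjA h (S.rt i a)) = -aeval (S.coef i a n) ((X * c) * (X * c)) ∧
    S.rt i a * conjA h (S.rt i a) =
      S.rt i a * aeval (S.coef i a n) (p * (X * c)) - S.rt i a * aeval (S.coef i a n) (c * (X * c)) * n ∧
    conjA h (S.rt i a) = (aeval (S.rt i a * n + n * S.rt i a) p + n * aeval (S.rt i a * n + n * S.rt i a) c) *
      S.rt i a * (aeval (S.rt i a * n + n * S.rt i a) p - aeval (S.rt i a * n + n * S.rt i a) c * n) ∧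
    S.rt i a * (h.val * S.rt i a) = S.rt i a * aeval (S.coef i a n) (X * c) := by
  set N := S.rt i a with hN
  set M := N * n + n * N with hM
  set Cm := S.coef i a n with hCm
  obtain ⟨h1, h2⟩ := hr
  rw [← hM] at h1 h2
  have hc : ∀ q : F[X], aeval M q * N = N * aeval M q := fun q => (commute_aeval (M_comm hn).1 q).eq
  have hsemi : ∀ q : F[X], aeval M q * N = N * aeval Cm q := aeval_mul_of_semiconj (M_rt hn)
  have hcom : Com i Cm := comp_com _ _ _ _
  have himg : conjA h N = (aeval M p + n * aeval M c) * N * (aeval M p - aeval M c * n) := by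
    rw [conjA_apply, h1, mul_assoc _ N, h2, ← mul_assoc]
  have hL : N * (aeval M p + n * aeval M c) * N = N * aeval Cm (X * c) := by
    rw [mul_add, add_mul, ← hc p, mul_assoc (aeval M p), rt_sq, mul_zero, zero_add, mul_assoc, mul_assoc n, hc,
      ← mul_assoc n, ← mul_assoc N, ← mul_assoc N n, ← hsemi, map_mul, aeval_X]
    rw [show N * n * N = M * N by rw [M_rt hn, rt_coef], mul_assoc, ← hc, ← mul_assoc]
  have hNn : N * conjA h N = N * aeval Cm (p * (X * c)) - N * aeval Cm (c * (X * c)) * n := by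
    rw [himg, ← mul_assoc, ← mul_assoc, hL, ← hsemi, mul_assoc, mul_sub, ← mul_assoc N (aeval M c), ← hc, ← hc,
      mul_sub, ← mul_assoc, ← mul_assoc, ← mul_assoc, ← map_mul, ← map_mul, hsemi, hsemi, mul_comm (X * c),
      mul_comm (X * c)]
  refine ⟨rt_cancel (S := S) (a := a) (comp_com _ _ _ _) (fun Y => (com_aeval hcom _ Y).neg_right) ?_, hNn, himg, by rw [h1, ← mul_assoc, hL]⟩
  rw [rt_coef, hNn, sub_mul, mul_neg]
  have h3 : N * aeval Cm (p * (X * c)) * N = 0 := by rw [← hsemi, mul_assoc, rt_sq, mul_zero]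
  have h4 : N * aeval Cm (c * (X * c)) * n * N = N * aeval Cm ((X * c) * (X * c)) := by
    rw [← hsemi, mul_assoc, mul_assoc, ← mul_assoc N n, show N * n * N = M * N by rw [M_rt hn, rt_coef],
      ← mul_assoc, ← hsemi]
    congr 1
    rw [show (X * c) * (X * c) = c * (X * c) * X by ring, map_mul _ _ X, aeval_X]
  rw [← hN, h3, zero_sub, h4]

end Words

/-- No moved element is a `p`-element together with a root. -/
theorem Ctx.mem_of_nilpotent [Finite F] (C : Ctx S G) {i : Fin t} {s b : GL (Idx k t) F} (hs : S.IsTv s i)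
    (hb : S.IsD G b)
    (hM : ((s.val - 1) * (b.val - 1) + (b.val - 1) * (s.val - 1)) ^ 3 = 0) : b ∈ mst k t F := by
  classical
  by_contra hbm
  obtain ⟨p, hp⟩ := CharP.exists F
  haveI : Fact p.Prime := ⟨CharP.char_is_prime F p⟩
  have hnp : ¬ IsPGroup p (Subgroup.closure {s, b} : Subgroup (GL (Idx k t) F)) :=
    fun h => hbm (C.not_pgroup p hs hb h)
  obtain ⟨hbsq, -, -⟩ := isD_facts C.hov hb
  have hssq : (s.val - 1) * (s.val - 1) = 0 := (isD_facts C.hov hs.isD).1
  let e := (Matrix.toLinAlgEquiv' : Matrix (Idx k t) (Idx k t) F ≃ₐ[F] _)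
  have ho : ∀ x : GL (Idx k t) F, opHom x - 1 = e (x.val - 1) := fun x => by
    rw [TWreath.opHom_eq, map_sub, map_one]
  obtain ⟨z, -, hzz, hz1, -, -, R, hRs, hRb, hzR⟩ := Pair.exists_central_involution C.h2 p
    (a := s) (b := b) (by rw [ho, ← map_mul, hssq, map_zero]) (by rw [ho, ← map_mul, hbsq, map_zero]) hnp
  rw [ho s] at hRs hzR
  rw [ho b] at hRb hzR
  rw [ho z, ← map_mul, ← map_mul, ← map_add] at hzR
  set M := (s.val - 1) * (b.val - 1) + (b.val - 1) * (s.val - 1)
  set Rm := e.symm R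
  set w := z.val - 1 with hw
  have hRM : Commute Rm M := by
    have hRs' : Commute Rm (s.val - 1) := e.injective (by
      rw [map_mul, map_mul, e.apply_symm_apply]; exact hRs.eq)
    have hRb' : Commute Rm (b.val - 1) := e.injective (by
      rw [map_mul, map_mul, e.apply_symm_apply]; exact hRb.eq)
    exact (hRs'.mul_right hRb').add_right (hRb'.mul_right hRs')
  have hwM : w = Rm * M := e.injective (by rw [map_mul, e.apply_symm_apply]; exact hzR)
  have hw3 : w ^ 3 = 0 := by rw [hwM, hRM.mul_pow, hM, mul_zero]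
  have hww : w * w = (-2 : F) • w := by
    have h1 : z.val * z.val = 1 := by rw [← Units.val_mul, hzz, Units.val_one]
    rw [hw]
    simp only [sub_mul, mul_sub, mul_one, one_mul, h1, neg_smul, two_smul]
    abel
  have h4 : ((4 : F)) • w = 0 := by
    rw [← hw3, pow_succ, pow_two, hww, smul_mul_assoc, hww, smul_smul]
    norm_num
  have h40 : (4 : F) ≠ 0 := by rw [show (4 : F) = 2 * 2 by norm_num]; exact mul_ne_zero C.h2 C.h2
  exact hz1 (Units.ext (sub_eq_zero.1 ((smul_eq_zero.1 h4).resolve_left h40)))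

theorem rank_smul_one {ι : Type} [Fintype ι] [DecidableEq ι] {c : F} (hc : c ≠ 0) :
    (c • (1 : Matrix ι ι F)).rank = Fintype.card ι := by
  refine Matrix.rank_of_isUnit _ ⟨⟨c • 1, c⁻¹ • 1, ?_, ?_⟩, rfl⟩
  · rw [smul_mul_smul_comm, mul_inv_cancel₀ hc, one_smul, one_mul]
  · rw [smul_mul_smul_comm, inv_mul_cancel₀ hc, one_smul, one_mul]

/-- The coefficient of a conjugate of a root is a scalar. -/
theorem Ctx.coef_scalar [Finite F] (C : Ctx S G) (hk2 : k = 2) (i : Fin t) (a : Fin k)
    {n : Matrix (Idx k t) (Idx k t) F} (hn : S.IsN G n) : ∃ c : F, S.coef i a n = c • 1 := by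
  classical
  suffices h : ∀ d, ∀ n, S.IsN G n → (S.coef i a n).rank ≤ d → ∃ c : F, S.coef i a n = c • 1 from
    h _ n hn le_rfl
  clear hn n
  intro d
  induction d using Nat.strong_induction_on with
  | _ d ih =>
  intro n hn hd
  by_contra hns
  push Not at hns
  have low : ∀ n', S.IsN G n' → (S.coef i a n').rank < (S.coef i a n).rank → S.coef i a n' = 0 := by
    intro n' hn' hlt
    obtain ⟨c, hc⟩ := ih (S.coef i a n').rank (by omega) n' hn' le_rfl
    by_contra hne
    have hc0 : c ≠ 0 := fun e => hne (by rw [hc, e, zero_smul])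
    have := Matrix.rank_le_card_width (S.coef i a n)
    rw [hc, rank_smul_one hc0] at hlt
    omega
  have hall : ∀ q, q = a ∨ q = S.π a := fun q => by
    by_contra hne
    push Not at hne
    have := Finset.card_le_univ ({a, S.π a, q} : Finset (Fin k))
    rw [Finset.card_insert_of_notMem (by simp [(S.nofix a).symm, hne.1.symm]),
      Finset.card_pair hne.2.symm, Fintype.card_fin] at this
    omega
  set N := S.rt i a with hN
  set M := N * n + n * N with hM
  set Cm := S.coef i a n with hCm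
  have hnn := hn.sq
  have hcom : Com i Cm := comp_com _ _ _ _
  have hsemi : ∀ q : F[X], aeval M q * N = N * aeval Cm q := aeval_mul_of_semiconj (M_rt hnn)
  have hcN : ∀ q : F[X], aeval M q * N = N * aeval M q := fun q => (commute_aeval (M_comm hnn).1 q).eq
  have hcn : ∀ q : F[X], aeval M q * n = n * aeval M q := fun q => (commute_aeval (M_comm hnn).2 q).eq
  have hCad : S.adT Cm = Cm := coef_adT (hn.skew C.hov)
  set s := fu i (S.trv (Pi.single a 1) (S.e a))
  have hsv : s.val = 1 + N := by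
    rw [fu_val, S.trv_val, S.nr_single, smul_smul, S.sign, one_smul, map_add, map_one]; rfl
  have hs : S.IsTv s i := ⟨Pi.single a 1, S.e a, by simp, S.e_ne a, by
    rw [fu_val, S.trv_val, map_add, map_one, map_smul]⟩
  have hNN : S.IsN G N := ⟨1, G.one_mem, i, Pi.single a 1, S.e a, by simp, S.e_ne a, by
    rw [conjA_one, S.nr_single, map_smul, smul_smul, S.sign, one_smul]; rfl⟩
  -- the rank does not drop on squaring
  have hC0 : Cm ≠ 0 := fun e => hns 0 (by rw [e, zero_smul])
  obtain ⟨b, hb, hbv⟩ := hn.exists_tv (one_ne_zero (α := F))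
  rw [one_smul] at hbv
  have hsq0 : Cm * Cm ≠ 0 := by
    intro hz
    have hM3 : M * M * M = 0 := by
      have h1 : M * M * N = 0 := by
        rw [mul_assoc, M_rt hnn, ← mul_assoc, M_rt hnn, mul_assoc, hz, mul_zero]
      conv_lhs => arg 2; rw [hM]
      rw [mul_add, ← mul_assoc, h1, zero_mul, zero_add, ← mul_assoc,
        ((M_comm hnn).2.mul_left (M_comm hnn).2).eq, mul_assoc, h1, mul_zero]
    have hbm : b ∈ mst k t F := C.mem_of_nilpotent hs hb (by
      rw [hsv, hbv, add_sub_cancel_left, add_sub_cancel_left, ← hM, pow_succ, pow_two, hM3])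
    obtain ⟨j, v, r, -, -, hv⟩ := C.isTv_of_mem hb hbm
    rw [hbv, add_right_inj] at hv
    rcases eq_or_ne j i with rfl | hji
    · refine hns (r * S.nr v (S.π a) a) (rt_cancel (S := S) (a := a) hcom (com_scalar _ _) ?_)
      rw [rt_coef, hv, mul_smul_comm, smul_mul_assoc, rt, ← map_mul, ← map_mul, sg_mul_mul, map_smul, smul_smul,
        mul_smul_comm, mul_one]
    · refine hC0 (rt_cancel (S := S) (a := a) hcom (fun _ => Commute.zero_right _) ?_)
      rw [rt_coef, mul_zero, hv, mul_smul_comm, rt, (fa_comm hji.symm _ _).eq, smul_mul_assoc, mul_assoc]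
      simp only [← map_mul, sg_mul_ne _ _ (S.nofix a), map_zero, mul_zero, smul_zero]
  have hupper : ∀ (r : F) (h : GL (Idx k t) F) (p c : F[X]), h ∈ G → Rep N n h p c →
      ∃ h' ∈ G, Rep N n h' (p + Polynomial.C r * (X * c)) c := fun r h p c hh hr => by
    obtain ⟨g, hg, e1, e2⟩ := hNN.exists_mem C.hov r
    exact ⟨g * h, G.mul_mem hg hh, rep_upper hnn hr e1 e2⟩
  have hlower : ∀ (r : F) (h : GL (Idx k t) F) (p c : F[X]), h ∈ G → Rep N n h p c →
      ∃ h' ∈ G, Rep N n h' p (c + Polynomial.C r * p) := fun r h p c hh hr => by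
    obtain ⟨g, hg, e1, e2⟩ := hn.exists_mem C.hov r
    exact ⟨g * h, G.mul_mem hg hh, rep_lower hnn hr e1 e2⟩
  have hstab : ∀ P : F[X], aeval Cm (P * (X * X)) = 0 → aeval Cm (P * X) = 0 := by
    intro P hP
    by_contra hne
    obtain ⟨h, hh, hr⟩ := hlower 1 1 1 0 G.one_mem rep_one
    have hc1 := (rep_image hnn hr).1
    rw [zero_add, map_one, one_mul, mul_one] at hc1
    have h0 := low _ (hNN.conj hh) (by
      rw [hc1, map_mul, aeval_X, ← hCm, ← mul_neg]
      refine rank_lt (e := aeval Cm P) ?_ (by rwa [map_mul, aeval_X] at hne)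
      rw [map_mul, map_mul, aeval_X] at hP
      rw [mul_neg, mul_neg, hP, neg_zero])
    rw [hc1, neg_eq_zero, map_mul, aeval_X] at h0
    exact hsq0 h0
  -- the kill lemma
  have kill : ∀ (h : GL (Idx k t) F) (p c : F[X]) (e : Matrix (Idx k t) (Idx k t) F), h ∈ G → Rep N n h p c →
      e * aeval Cm c = 0 → e * Cm ≠ 0 →
      aeval Cm (X * c) = 0 ∧ ∃ ρ : F, aeval Cm ((p * p - Polynomial.C ρ) * X) = 0 ∧ conjA h N = ρ • N := by
    intro h p c e hh hr hec heC
    obtain ⟨hcoef, hNn, himg, hNhN⟩ := rep_image hnn hr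
    set n' := conjA h N with hn'
    have hn'N : S.IsN G n' := hNN.conj hh
    have h0 : S.coef i a n' = 0 := low _ hn'N (by
      rw [hcoef, show (X * c) * (X * c) = X * (c * (X * c)) by ring, map_mul, aeval_X, ← mul_neg]
      refine rank_lt (e := e) ?_ heC
      rw [mul_neg, mul_neg, neg_eq_zero,
        show Cm * aeval Cm (c * (X * c)) = aeval Cm c * aeval Cm (X * (X * c)) by
          rw [← map_mul, show c * (X * (X * c)) = X * (c * (X * c)) by ring, map_mul _ X, aeval_X],
        ← mul_assoc, hec, zero_mul])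
    have hq2 : aeval Cm ((X * c) * (X * c)) = 0 := by rw [← neg_eq_zero, ← hcoef, h0]
    have hqc : aeval Cm (c * (X * c)) = 0 := by
      rw [show c * (X * c) = c * c * X by ring]
      exact hstab _ (by rw [← hq2]; congr 1; ring)
    obtain ⟨b', hb', hb'v⟩ := hn'N.exists_tv (one_ne_zero (α := F))
    rw [one_smul] at hb'v
    have hNn'N : N * n' * N = 0 := by rw [← rt_coef, h0, mul_zero]
    have hb'm : b' ∈ mst k t F := by
      refine C.stab_mem hk2 (i := i) (a := a) (hb'.mem C.hov) ?_ ?_
      · rw [hb'v, mul_add, add_mul, mul_one, ← hN, rt_sq, zero_add, hNn'N]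
      · have e1 : (b'⁻¹).val = 1 - n' := left_inv_eq_right_inv (Units.inv_mul b') (by
          rw [hb'v, show (1 + n') * (1 - n') = 1 - n' * n' by noncomm_ring, hn'N.sq, sub_zero])
        rw [e1, mul_sub, sub_mul, mul_one, ← hN, rt_sq, zero_sub, hNn'N, neg_zero]
    obtain ⟨j, v, r, -, hr0, hv⟩ := C.isTv_of_mem hb' hb'm
    rw [hb'v, add_right_inj] at hv
    rw [hqc, mul_zero, zero_mul, sub_zero] at hNn
    rcases eq_or_ne j i with rfl | hji
    swap
    · exfalso
      have h1 : N * aeval Cm (p * (X * c)) = N * (r • fa j (S.nr v)) := by rw [← hNn, hv]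
      have h2' := rt_cancel (S := S) (a := a) (com_aeval hcom _) ((com_fa hji.symm _).smul r) h1
      have h3 := congrArg S.adT h2'
      rw [adT_aeval hCad, S.adT_smul, S.adT_fa, S.ad_nr, map_neg, smul_neg, h2'] at h3
      have h4 : (2 : F) • (r • fa j (S.nr v)) = 0 := by rw [two_smul]; exact eq_neg_iff_add_eq_zero.1 h3
      rw [smul_smul, smul_eq_zero] at h4
      have h5 := h4.resolve_left (mul_ne_zero C.h2 hr0)
      rw [hv, h5, smul_zero] at hn'
      exact fa_ne_zero (Fin.pos a) i (sg_ne a (S.π a)) ((map_eq_zero_iff _ (conjA h).injective).1 hn'.symm)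
    have hva : S.nr v (S.π a) a = 0 := by
      rw [hv, mul_smul_comm, smul_mul_assoc, hN, rt, ← map_mul, ← map_mul, sg_mul_mul, map_smul, smul_smul,
        smul_eq_zero, mul_eq_zero] at hNn'N
      exact (hNn'N.resolve_right (fa_ne_zero (Fin.pos a) _ (sg_ne a (S.π a)))).resolve_left hr0
    have hv0 : v (S.π a) = 0 := by
      simp only [Std.nr, Matrix.vecMulVec_apply, Std.dual, mul_neg, neg_eq_zero, mul_eq_zero, S.e_ne, false_or,
        or_self] at hva
      exact hva
    have hvE : S.nr v = S.nr v a (S.π a) • sg a (S.π a) := by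
      ext x y
      rcases hall x with rfl | rfl <;> rcases hall y with rfl | rfl <;>
        simp [Std.nr, Std.dual, Matrix.vecMulVec_apply, hv0, Matrix.single_apply, S.nofix, (S.nofix _).symm, S.invol]
    set ρ := r * S.nr v a (S.π a)
    have hρ : n' = ρ • N := by rw [hv, hvE, map_smul, smul_smul]; rfl
    have hhN : h.val * N = ρ • (N * h.val) := by
      rw [← smul_mul_assoc, ← hρ, hn', conjA_apply, mul_assoc, Units.inv_mul, mul_one]
    have hXc : aeval Cm (X * c) = 0 := by
      refine rt_cancel (S := S) (a := a) (com_aeval hcom _) (fun _ => Commute.zero_right _) ?_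
      have h1 : N * (h.val * N) = 0 := by rw [hhN, mul_smul_comm, ← mul_assoc, rt_sq, zero_mul, smul_zero]
      rw [mul_zero, ← hNhN]
      exact h1
    refine ⟨hXc, ρ, ?_, hρ⟩
    refine rt_cancel (S := S) (a := a) (com_aeval hcom _) (fun _ => Commute.zero_right _) ?_
    have hMcN : aeval M (X * c) * N = 0 := by rw [hsemi, hXc, mul_zero]
    have hMa : ∀ q : F[X], M * aeval M q = aeval M (X * q) := fun q => by rw [map_mul, aeval_X]
    have h1 : M * n' = aeval M (p * p * X) * N := by
      have s1 : M * ((aeval M p + n * aeval M c) * N) = aeval M (X * p) * N := by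
        rw [add_mul (aeval M p), mul_add M, mul_assoc n, ← mul_assoc M n, (M_comm hnn).2.eq, mul_assoc n M, ← mul_assoc M, hMa,
          ← mul_assoc M, hMa, hMcN, mul_zero, add_zero]
      rw [himg, ← hM, ← hN, ← mul_assoc, s1, mul_sub, mul_assoc _ N (aeval M p), ← hcN, ← mul_assoc, ← map_mul,
        ← mul_assoc (_ * N), mul_assoc _ N (aeval M c), ← hcN, ← mul_assoc, ← map_mul,
        show X * p * c = p * (X * c) by ring, map_mul _ p, mul_assoc (aeval M p), hMcN, mul_zero, zero_mul, sub_zero,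
        show X * p * p = p * p * X by ring]
    rw [mul_zero, ← hsemi, sub_mul, map_sub, sub_mul, ← h1, hρ, mul_smul_comm, map_mul, aeval_C, aeval_X,
      ← Algebra.smul_def, smul_mul_assoc, sub_self]
  -- a non-zero root
  have hint : IsIntegral F Cm := Algebra.IsIntegral.isIntegral Cm
  obtain ⟨m, hm, hXm⟩ := exists_eq_pow_rootMultiplicity_mul_and_not_dvd (minpoly F Cm)
    (minpoly.ne_zero hint) 0
  rw [map_zero, sub_zero] at hm hXm
  set d' := rootMultiplicity 0 (minpoly F Cm)
  have hm0 : m ≠ 0 := fun h => minpoly.ne_zero hint (by rw [hm, h, mul_zero])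
  have hmu : ¬ IsUnit m := by
    intro hu
    obtain ⟨r, hr, hrm⟩ := Polynomial.isUnit_iff.1 hu
    have h1 : aeval Cm (minpoly F Cm) = 0 := minpoly.aeval F Cm
    rw [hm, ← hrm, map_mul, map_pow, aeval_X, aeval_C, ← Algebra.commutes, ← Algebra.smul_def,
      smul_eq_zero, or_iff_right hr.ne_zero] at h1
    have hst : ∀ j, Cm ^ (j + 1) = 0 → Cm = 0 := by
      intro j
      induction j with
      | zero => rw [zero_add, pow_one]; exact id
      | succ j ihj =>
        intro hj
        refine ihj ?_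
        have := hstab (X ^ j) (by rw [map_mul, map_mul, map_pow, aeval_X, ← pow_two, ← pow_add]; exact hj)
        rwa [map_mul, map_pow, aeval_X, ← pow_succ] at this
    exact hC0 (hst d' (by rw [pow_succ, h1, zero_mul]))
  obtain ⟨f, hf, m', rfl⟩ := WfDvdMonoid.exists_irreducible_factor hmu hm0
  have hf0 : ¬ X ∣ f := fun hd => hXm (dvd_mul_of_dvd_left hd _)
  set e := aeval Cm (X ^ d' * m') with he
  have hef : e * aeval Cm f = 0 := by
    rw [he, ← map_mul, show X ^ d' * m' * f = minpoly F Cm by rw [hm]; ring, minpoly.aeval]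
  have he0 : e ≠ 0 := by
    intro h0
    have hne : X ^ d' * m' ≠ 0 := mul_ne_zero (pow_ne_zero _ X_ne_zero) (right_ne_zero_of_mul hm0)
    have hdeg := natDegree_le_natDegree (minpoly.degree_le_of_ne_zero F Cm hne h0)
    rw [show minpoly F Cm = f * (X ^ d' * m') by rw [hm]; ring, natDegree_mul hf.ne_zero hne] at hdeg
    have := hf.natDegree_pos
    omega
  haveI := Fact.mk hf
  have hdvd : ∀ g : F[X], aeval (AdjoinRoot.root f) g = 0 → e * aeval Cm g = 0 := fun g hg => by
    rw [AdjoinRoot.aeval_eq, AdjoinRoot.mk_eq_zero] at hg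
    obtain ⟨g', rfl⟩ := hg
    rw [map_mul, ← mul_assoc, hef, zero_mul]
  have hcop : ∀ g : F[X], ¬ f ∣ g → e * aeval Cm g ≠ 0 := fun g hg h0 => by
    obtain ⟨p, q, hpq⟩ := hf.coprime_iff_not_dvd.2 hg
    refine he0 ?_
    have h1 := congrArg (fun r => e * aeval Cm r) hpq
    simp only [map_one, mul_one, map_add, mul_add] at h1
    rw [map_mul, map_mul, ← mul_assoc, ← mul_assoc, he, ← map_mul, mul_comm _ p, map_mul, mul_assoc, ← he, hef,
      mul_zero, zero_add, he, ← map_mul, mul_comm _ q, map_mul, mul_assoc, ← he, h0, mul_zero] at h1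
    exact h1.symm
  have hfX : ¬ f ∣ X := fun h => hf0 (hf.associated_of_dvd irreducible_X h).symm.dvd
  have heC : e * Cm ≠ 0 := by
    have := hcop X hfX
    rwa [aeval_X] at this
  have hconv : ∀ g : F[X], aeval Cm (g * X) = 0 → aeval (AdjoinRoot.root f) g = 0 := fun g hg => by
    rw [AdjoinRoot.aeval_eq, AdjoinRoot.mk_eq_zero]
    by_contra hnd
    exact hcop (g * X) (fun h => (hf.prime.dvd_or_dvd h).elim hnd hfX) (by rw [hg, mul_zero])
  set K := AdjoinRoot f
  haveI : Module.Finite F K := (AdjoinRoot.powerBasis hf.ne_zero).finite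
  haveI : Finite K := Module.finite_of_finite F
  set ρ := AdjoinRoot.root f
  obtain ⟨α, hα0, hα⟩ := C.tor (by omega)
  by_cases hρ : ρ ∈ Set.range (algebraMap F K)
  swap
  · obtain ⟨c, hc0, hc1⟩ : ∃ c : F, c ≠ 0 ∧ (algebraMap F K c * ρ) ^ 2 ≠ -1 := by
      by_contra hne
      push Not at hne
      have h1 := hne 1 one_ne_zero
      rw [map_one, one_mul] at h1
      have h2' := hne α hα0
      rw [mul_pow, h1, mul_neg, mul_one, neg_inj, ← map_pow] at h2'
      exact hα (by rw [← pow_two]; exact (algebraMap F K).injective (h2'.trans (map_one _).symm))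
    have hμ : algebraMap F K c * ρ ∉ Set.range (algebraMap F K) := by
      rintro ⟨r, hr⟩
      refine hρ ⟨c⁻¹ * r, ?_⟩
      rw [map_mul, hr, map_inv₀, ← mul_assoc, inv_mul_cancel₀ (by simpa using hc0), one_mul]
    have h2K : (2 : K) ≠ 0 := fun h => C.h2 ((algebraMap F K).injective (by
      rw [map_ofNat, map_zero]; exact h))
    obtain ⟨ξ, ⟨h, hh, p, g, hr, hp, hg⟩, hξ⟩ := SpOTensor.exists_pair_zero (F := F) h2K hμ hc1
      (P := fun x y => ∃ h ∈ G, ∃ p g, Rep N n h p g ∧ aeval ρ p = x ∧ aeval ρ g = y)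
      ⟨1, G.one_mem, 1, 0, rep_one, map_one _, map_zero _⟩
      (fun z x y ⟨h, hh, p, g, hr, hp, hg⟩ => by
        obtain ⟨h', hh', hr'⟩ := hupper ((z : F) * c) h p g hh hr
        refine ⟨h', hh', _, _, hr', ?_, hg⟩
        simp only [map_add, map_mul, aeval_C, aeval_X, hp, hg, map_intCast]
        ring)
      (fun z x y ⟨h, hh, p, g, hr, hp, hg⟩ => by
        obtain ⟨h', hh', hr'⟩ := hlower (z : F) h p g hh hr
        refine ⟨h', hh', _, _, hr', hp, ?_⟩
        rw [map_add, map_mul, aeval_C, hp, hg, map_intCast])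
    obtain ⟨-, r, hr', -⟩ := kill h p g e hh hr (hdvd g hg) heC
    have h1 := hconv _ hr'
    rw [map_sub, map_mul, aeval_C, hp, sub_eq_zero, ← pow_two] at h1
    exact hξ ⟨r, h1.symm⟩
  obtain ⟨l, hl⟩ := hρ
  have hl0 : l ≠ 0 := fun h => heC (by
    have h1 := hdvd X (by rw [aeval_X]; exact hl.symm.trans (by rw [h, map_zero]))
    rwa [aeval_X] at h1)
  -- the three letter words at the eigenvalue
  have word : ∀ y : F, y ≠ 0 → y ≠ 1 → Cm * Cm = l • Cm ∧ ∃ κ : F, κ ≠ 0 ∧
      (1 + κ • n) * ((1 - l⁻¹ • M) * N) * (1 - κ • n) = (y * y) • ((1 - l⁻¹ • M) * N) := by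
    intro y hy0 hy1
    set u := (y - 1) / l with hu
    set w := -u / y with hw
    obtain ⟨h1, hh1, r1⟩ := hlower u 1 1 0 G.one_mem rep_one
    obtain ⟨h2', hh2, r2⟩ := hupper 1 h1 _ _ hh1 r1
    obtain ⟨h3, hh3, r3⟩ := hlower w h2' _ _ hh2 r2
    simp only [mul_one, zero_add, map_one, one_mul] at r3
    have hu0 : u ≠ 0 := div_ne_zero (sub_ne_zero.2 hy1) hl0
    have hw0 : w ≠ 0 := div_ne_zero (neg_ne_zero.2 hu0) hy0
    have hce : ∀ A : Matrix (Idx k t) (Idx k t) F,
        aeval A (Polynomial.C u + Polynomial.C w * (1 + X * Polynomial.C u)) = (u + w) • 1 + (w * u) • A := fun A => by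
      simp only [map_add, map_mul, map_one, aeval_C, aeval_X, Algebra.algebraMap_eq_smul_one, smul_mul_assoc,
        one_mul, mul_smul_comm, mul_one, mul_add]
      module
    have hae : ∀ A : Matrix (Idx k t) (Idx k t) F, aeval A (1 + X * Polynomial.C u) = 1 + u • A := fun A => by
      simp only [map_add, map_mul, map_one, aeval_C, aeval_X, Algebra.algebraMap_eq_smul_one, mul_smul_comm, mul_one]
    have hcoef : u + w + w * u * l = 0 := by rw [hw, hu]; field_simp; ring
    obtain ⟨hXc, r, hr', hρr⟩ := kill h3 _ _ e hh3 r3 (hdvd _ (by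
      simp only [map_add, map_mul, map_one, aeval_C, aeval_X, ← hl]
      rw [← map_zero (algebraMap F K), ← hcoef, map_add, map_add, map_mul, map_mul]
      change algebraMap F K u + algebraMap F K w * (1 + algebraMap F K l * algebraMap F K u) = _
      ring)) heC
    have hCC : Cm * Cm = l • Cm := by
      rw [map_mul, aeval_X, hce, mul_add, mul_smul_comm, mul_one, mul_smul_comm,
        eq_neg_of_add_eq_zero_left hcoef] at hXc
      have h5 : (w * u) • (Cm * Cm - l • Cm) = 0 := by linear_combination (norm := module) hXc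
      exact sub_eq_zero.1 ((smul_eq_zero.1 h5).resolve_left (mul_ne_zero hw0 hu0))
    have hy : r = y * y := by
      have h5 := hconv _ hr'
      simp only [map_sub, map_mul, map_add, map_one, aeval_C, aeval_X, ← hl] at h5
      have h6 : (1 + l * u) * (1 + l * u) - r = 0 := (algebraMap F K).injective (by
        rw [map_zero, map_sub, map_mul, map_add, map_mul, map_one]
        exact h5)
      have e' : 1 + l * u = y := by rw [hu]; field_simp; ring
      rw [e'] at h6
      exact (sub_eq_zero.1 h6).symm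
    have hκ : u + w ≠ 0 := by
      rw [eq_neg_of_add_eq_zero_left hcoef]
      exact neg_ne_zero.2 (mul_ne_zero (mul_ne_zero hw0 hu0) hl0)
    refine ⟨hCC, u + w, hκ, ?_⟩
    obtain ⟨-, -, himg, -⟩ := rep_image hnn r3
    rw [hρr, ← hM, hae, hce] at himg
    set E0 := 1 - l⁻¹ • M with hE0
    have hE0n : Commute E0 n := ((Commute.one_left n).sub_left ((M_comm hnn).2.smul_left _))
    have hE0N : Commute E0 N := ((Commute.one_left N).sub_left ((M_comm hnn).1.smul_left _))
    have hEM : E0 * (M * N) = 0 := by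
      rw [hE0, sub_mul, one_mul, smul_mul_assoc, M_rt hnn, ← mul_assoc, M_rt hnn, mul_assoc, ← hCm, hCC,
        mul_smul_comm, smul_smul, inv_mul_cancel₀ hl0, one_smul, sub_self]
    have hL : E0 * ((1 + u • M + n * ((u + w) • 1 + (w * u) • M)) * N) = (1 + (u + w) • n) * (E0 * N) := by
      simp only [add_mul, mul_add, one_mul, smul_mul_assoc, mul_smul_comm, mul_one, mul_assoc]
      rw [← mul_assoc E0 n (M * N), hE0n.eq, mul_assoc n, hEM, mul_zero, smul_zero, smul_zero, add_zero, add_zero,
        ← mul_assoc E0 n N, hE0n.eq, mul_assoc]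
    have hNM : E0 * N * M = 0 := by rw [mul_assoc, ← (M_comm hnn).1.eq, hEM]
    have hR : E0 * N * (1 + u • M - ((u + w) • 1 + (w * u) • M) * n) = E0 * N * (1 - (u + w) • n) := by
      simp only [mul_sub, mul_add, add_mul, smul_mul_assoc, mul_smul_comm, mul_one, one_mul, ← mul_assoc, hNM,
        zero_mul, smul_zero, add_zero]
    have h7 := congrArg (E0 * ·) himg
    rw [mul_smul_comm, ← mul_assoc, hL, mul_assoc (1 + (u + w) • n), hR, ← mul_assoc, hy] at h7
    exact h7.symm
  have hm1 : (-1 : F) ≠ 1 := fun h => C.h2 (by linear_combination -h)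
  obtain ⟨hCC, κ, hκ, h1⟩ := word (-1) (neg_ne_zero.2 one_ne_zero) hm1
  obtain ⟨-, κ', -, h2'⟩ := word α hα0 (fun h => hα (by rw [h, one_mul]))
  set P := (1 - l⁻¹ • M) * N
  have expand : ∀ κ r : F, (1 + κ • n) * P * (1 - κ • n) = r • P →
      (1 - r) • P + κ • (n * P - P * n) - (κ * κ) • (n * P * n) = 0 := fun κ r h => by
    rw [← sub_eq_zero] at h
    rw [← h]
    simp only [add_mul, mul_sub, one_mul, mul_one, smul_mul_assoc, mul_smul_comm, smul_sub, smul_smul]
    module
  have left : ∀ κ r : F, (1 + κ • n) * P * (1 - κ • n) = r • P → (1 - r) • (n * P) - κ • (n * P * n) = 0 :=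
    fun κ r h => by
      have := congrArg (n * ·) (expand κ r h)
      simp only [mul_add, mul_sub, mul_smul_comm, ← mul_assoc, hnn, zero_mul, mul_zero, smul_zero, sub_zero,
        zero_sub] at this
      linear_combination (norm := module) this
  have hnPn : n * P * n = 0 := by
    have := left κ _ h1
    rw [neg_mul_neg, one_mul, sub_self, zero_smul, zero_sub, neg_eq_zero, smul_eq_zero] at this
    exact this.resolve_left hκ
  have hα' : (1 : F) - α * α ≠ 0 := sub_ne_zero.2 (Ne.symm hα)
  have hnP : n * P = 0 := by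
    have := left κ' _ h2'
    rw [hnPn, smul_zero, sub_zero, smul_eq_zero] at this
    exact this.resolve_left hα'
  have hPn : P * n = 0 := by
    have := expand κ _ h1
    rw [neg_mul_neg, one_mul, sub_self, zero_smul, zero_add, hnPn, smul_zero, sub_zero, hnP, zero_sub, smul_eq_zero,
      or_iff_right hκ, neg_eq_zero] at this
    exact this
  have hP : P = 0 := by
    have := expand κ' _ h2'
    rw [hnPn, hnP, hPn, smul_zero, sub_zero, sub_zero, smul_zero, add_zero, smul_eq_zero] at this
    exact this.resolve_left hα'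
  refine hns l (rt_cancel (S := S) (a := a) hcom (com_scalar _ _) ?_)
  change (1 - l⁻¹ • M) * N = 0 at hP
  rw [sub_mul, one_mul, smul_mul_assoc, M_rt hnn, sub_eq_zero] at hP
  rw [mul_smul_comm, mul_one]
  show N * Cm = l • N
  conv_rhs => rw [hP, smul_smul, mul_inv_cancel₀ hl0, one_smul]

/-- With two dimensional factors nothing is moved. -/
theorem Ctx.two_false [Finite F] (C : Ctx S G) (hk2 : k = 2) {b : GL (Idx k t) F} (hb : S.IsD G b)
    (hbm : b ∉ mst k t F) : False := by
  classical
  obtain ⟨g, hg, x, j, ⟨u, c, hu, hc, hx⟩, rfl⟩ := hb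
  set n := conjA g (fa j (S.nr u)) with hndef
  have hn : S.IsN G n := ⟨g, hg, j, u, 1, hu, one_ne_zero, by rw [one_smul]⟩
  have hbv : (g * x * g⁻¹).val = 1 + c • n := by rw [val_conj, hx, map_add, map_one, map_smul]
  have hbG : g * x * g⁻¹ ∈ G := G.mul_mem (G.mul_mem hg (IsTv.mem ⟨u, c, hu, hc, hx⟩ C.hov)) (G.inv_mem hg)
  have ht0 : 0 < t := by have := C.ht; omega
  set i : Fin t := ⟨0, ht0⟩
  set a : Fin k := ⟨0, by omega⟩
  set a' := S.π a with ha'
  have haa : a' ≠ a := S.nofix a
  have hsum2 : ∀ f : Fin k → Matrix (Idx k t) (Idx k t) F, ∑ p, f p = f a + f a' := fun f => by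
    have h : (Finset.univ : Finset (Fin k)) = {a, a'} := (Finset.eq_univ_of_card _ (by
      rw [Finset.card_pair haa.symm, Fintype.card_fin, hk2])).symm
    rw [h, Finset.sum_pair haa.symm]
  obtain ⟨γ, hγ⟩ := C.coef_scalar hk2 i a hn
  obtain ⟨β, hβ⟩ := C.coef_scalar hk2 i a' hn
  rw [coef, ← ha'] at hγ
  rw [coef, ha', S.invol, ← ha'] at hβ
  set m := S.trv (Pi.single a' 1) (S.e a') with hmdef
  have hmv : m.val = 1 + sg a' a := by
    rw [hmdef, S.trv_val, S.nr_single, smul_smul, S.sign, one_smul, ha', S.invol]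
  have hmi : (m⁻¹).val = 1 - sg a' a := by
    rw [hmdef, S.trv_inv_val, S.nr_single, smul_smul, S.sign, one_smul, ha', S.invol]
  obtain ⟨δ, hδ⟩ := C.coef_scalar hk2 i a (hn.conj (C.hov.sp i m (S.iso_trv _ _)))
  set A := TWreath.comp i n a a
  set D := TWreath.comp i n a' a'
  have hdiff : A - D = (δ + β - γ) • 1 := by
    have e := rt_coef (S := S) i a (conjA (fu i m) n)
    have e1 : sg a a' * m.val = (sg a a' : Matrix (Fin k) (Fin k) F) + sg a a := by
      rw [hmv, mul_add, mul_one, sg_mul]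
    have e2 : (m⁻¹).val * sg a a' = (sg a a' : Matrix (Fin k) (Fin k) F) - sg a' a' := by
      rw [hmi, sub_mul, one_mul, sg_mul]
    rw [hδ, rt, ← ha', conjA_apply, fu_val, fu_inv_val, ← mul_assoc, ← mul_assoc, mul_assoc _ _ (fa i (sg a a')),
      ← map_mul, ← map_mul, e1, e2, map_add, map_sub, add_mul, mul_sub, add_mul, add_mul] at e
    have hf : ∀ p q, fa i (sg a p) * n * fa i (sg q a') = fa i (sg a a') * TWreath.comp i n p q := fun p q => (sg_comp i n a a' p q).symm
    rw [hf, hf, hf, hf, hγ, hβ, ← mul_add, ← mul_add, ← mul_sub] at e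
    have h := rt_cancel (S := S) (a := a) (com_scalar i δ)
      (((com_scalar i γ).add (comp_com _ _ _ _)).sub ((comp_com _ _ _ _).add (com_scalar i β))) e
    linear_combination (norm := module) -h
  set Y := (2 : F)⁻¹ • (A + D)
  set h0 := (2 : F)⁻¹ * (δ + β - γ)
  set H : Matrix (Fin k) (Fin k) F := h0 • (sg a a - sg a' a') + β • sg a a' + γ • sg a' a with hH
  have hY : Com i Y := ((comp_com _ _ _ _).add (comp_com _ _ _ _)).smul _
  have h12 : (2 : F)⁻¹ + (2 : F)⁻¹ = 1 := by field_simp [C.h2]; norm_num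
  have hAe : A = Y + h0 • 1 := by
    show A = (2 : F)⁻¹ • (A + D) + ((2 : F)⁻¹ * (δ + β - γ)) • 1
    rw [mul_smul, ← hdiff, ← smul_add, show A + D + (A - D) = A + A by abel, smul_add, ← add_smul, h12, one_smul]
  have hDe : D = Y - h0 • 1 := by
    show D = (2 : F)⁻¹ • (A + D) - ((2 : F)⁻¹ * (δ + β - γ)) • 1
    rw [mul_smul, ← hdiff, ← smul_sub, show A + D - (A - D) = D + D by abel, smul_add, ← add_smul, h12, one_smul]
  have hdec : n = fa i H + Y := by
    conv_lhs => rw [← sum_comp i n]
    simp only [hsum2]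
    change fa i (sg a a) * A + fa i (sg a a') * TWreath.comp i n a a' +
      (fa i (sg a' a) * TWreath.comp i n a' a + fa i (sg a' a') * D) = _
    rw [hβ, hγ, hAe, hDe, hH]
    have h1 : fa i (sg a a : Matrix (Fin k) (Fin k) F) + fa i (sg a' a') = 1 := by
      rw [← map_one (fa i), ← sum_sg, map_sum, hsum2]
    conv_rhs => rw [← one_mul Y, ← h1]
    simp only [map_add, map_sub, map_smul, mul_add, mul_sub, add_mul, mul_smul_comm, mul_one, smul_add, smul_sub]
    abel
  have hHY : fa i H * Y = Y * fa i H := (hY H).eq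
  have hsq : fa i (H * H) * 1 + (fa i ((2 : F) • H) * Y + fa i 1 * (Y * Y)) = 0 := by
    rw [← hn.sq, hdec, map_one, one_mul, mul_one, map_mul, map_smul, two_smul]
    simp only [add_mul, mul_add, hHY]
    abel
  have hH2 : H * H = (h0 * h0 + β * γ) • 1 := by
    have h1 : (1 : Matrix (Fin k) (Fin k) F) = sg a a + sg a' a' := by
      rw [← sum_sg]
      have h : (Finset.univ : Finset (Fin k)) = {a, a'} := (Finset.eq_univ_of_card _ (by
        rw [Finset.card_pair haa.symm, Fintype.card_fin, hk2])).symm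
      rw [h, Finset.sum_pair haa.symm]
    rw [hH, h1]
    simp only [add_mul, mul_add, sub_mul, mul_sub, smul_mul_smul_comm, sg_mul, sg_mul_ne _ _ haa,
      sg_mul_ne _ _ haa.symm, smul_zero, add_zero, zero_add, sub_zero, zero_sub, smul_sub, smul_add, smul_mul_assoc,
      mul_smul_comm, smul_smul]
    module
  have hc2 : ∀ p q, TWreath.comp i (fa i (H * H) * 1 + (fa i ((2 : F) • H) * Y + fa i 1 * (Y * Y))) p q =
      (H * H) p q • 1 + ((2 * H p q) • Y + (1 : Matrix (Fin k) (Fin k) F) p q • (Y * Y)) := fun p q => by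
    have hadd : ∀ P Q : Matrix (Idx k t) (Idx k t) F, TWreath.comp i (P + Q) p q = TWreath.comp i P p q + TWreath.comp i Q p q := fun P Q => by
      simp only [TWreath.comp, mul_add, add_mul, Finset.sum_add_distrib]
    rw [hadd, hadd, comp_fa_mul (com_one i), comp_fa_mul hY, comp_fa_mul (hY.mul hY), Matrix.smul_apply, smul_eq_mul]
  have hz : ∀ p q, TWreath.comp i (0 : Matrix (Idx k t) (Idx k t) F) p q = 0 := fun p q => by simp [TWreath.comp]
  have hpq : ∀ p q, (H * H) p q • (1 : Matrix (Idx k t) (Idx k t) F) +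
      ((2 * H p q) • Y + (1 : Matrix (Fin k) (Fin k) F) p q • (Y * Y)) = 0 := fun p q => by
    rw [← hc2, hsq, hz]
  have hY0 : Y = 0 ∨ H = 0 := by
    rcases eq_or_ne Y 0 with hY0 | hY0
    · exact Or.inl hY0
    refine Or.inr ?_
    have e1 := hpq a a'
    have e2 := hpq a' a
    have e3 := congrArg₂ (· - ·) (hpq a a) (hpq a' a')
    simp [hH2, Matrix.one_apply, haa, haa.symm] at e1 e2 e3
    rw [hH, Matrix.add_apply, Matrix.add_apply] at e1 e2 e3
    simp [Matrix.single_apply, haa, haa.symm, C.h2, hY0] at e1 e2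
    have e4 : h0 = 0 := by
      simp [Matrix.single_apply, haa, haa.symm] at e3
      have e5 : ((4 : F) * h0) • Y = 0 := by linear_combination (norm := module) e3
      rw [smul_eq_zero, or_iff_left hY0, mul_eq_zero] at e5
      refine e5.resolve_left ?_
      rw [show (4 : F) = 2 * 2 by norm_num]; exact mul_ne_zero C.h2 C.h2
    rw [hH, e1, e2, e4]
    simp
  rcases hY0 with hY0 | hH0
  · rw [hY0, add_zero] at hdec
    have hHH : H * H = 0 := fa_injective (by omega) i (by rw [map_mul, map_zero, ← hdec, hn.sq])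
    refine hbm ?_
    let w : GL (Fin k) F := ⟨1 + c • H, 1 - c • H,
      by rw [(show ∀ Z : Matrix (Fin k) (Fin k) F, (1 + Z) * (1 - Z) = 1 - Z * Z from fun Z => by noncomm_ring) (c • H), smul_mul_smul_comm, hHH, smul_zero,
        sub_zero],
      by rw [(show ∀ Z : Matrix (Fin k) (Fin k) F, (1 - Z) * (1 + Z) = 1 - Z * Z from fun Z => by noncomm_ring) (c • H), smul_mul_smul_comm, hHH, smul_zero,
        sub_zero]⟩
    have : g * x * g⁻¹ = fu i w := Units.ext (by
      rw [hbv, hdec, fu_val]
      show _ = fa i (1 + c • H)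
      rw [map_add (fa i) 1 (c • H), map_one, map_smul])
    rw [this]
    exact fu_mem_mst i w
  · rw [hH0, map_zero, zero_add] at hdec
    refine hbm (C.cent_tv hbG (i := i) (s := fu i (S.trv (Pi.single a 1) 1))
      ⟨Pi.single a 1, 1, by simp, one_ne_zero, by rw [fu_val, S.trv_val, map_add, map_one, map_smul]⟩
      (Units.ext ?_))
    show (g * x * g⁻¹).val * (fu i (S.trv (Pi.single a 1) 1)).val = _ * (g * x * g⁻¹).val
    rw [hbv, fu_val, hdec]
    exact (((com_one i).add (hY.smul c)) _).eq.symm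

end Cfsg.Lib.Linear.SpWreath.Std
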