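import Cfsg.Agent.Lib.Linear.SpWreath.Cut
import Cfsg.Agent.Lib.Linear.SpWreath.Odd
import Cfsg.Agent.Lib.Linear.SpWreath.Two
import Cfsg.Agent.Lib.Linear.SpWreath.Gen
import Cfsg.Agent.Lib.Linear.ClassSpP.Main
import Cfsg.Agent.Lib.Linear.AschSp.TensorPow

/-!
# The stabiliser of a symplectic tensor power decomposition is maximal in the symplectic group
-/

set_option autoImplicit false
set_option linter.unusedSectionVars false

namespace Cfsg.Lib.Linear.SpWreath.Std

open Cfsg.Geo Cfsg.Lib.Linear.AschGen Cfsg.Lib.Linear.TWreath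
open scoped Matrix MatrixGroups

/-- Without non-scalar coefficients every element permutes the factors. -/
theorem le_mst {F : Type*} [Field F] [Finite F] {k : ℕ} {S : Std k F} (h2 : (2 : F) ≠ 0) (hk : 2 ≤ k)
    (htor : k ≤ 2 → ∃ α : F, α ≠ 0 ∧ α * α ≠ 1) :
    ∀ {t : ℕ}, 1 ≤ t → ∀ G : Subgroup (GL (Idx k t) F), S.SOver G → S.NR G → G ≤ mst k t F := by
  intro t
  induction t with
  | zero => intro h; omega
  | succ t ih =>
    intro _ G hG hR x hx
    rcases Nat.eq_zero_or_pos t with rfl | ht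
    · exact mem_mst_one (by omega) x
    have C : Ctx S G := ⟨h2, hk, by omega, hG, hR, htor, fun y hy i a ha =>
      mem_mst_of_cut' (by omega) (ih ht _ (cut_sover hG hk i) (cut_nr hG hR h2 hk htor i)) hy ha⟩
    by_contra hxm
    obtain ⟨b, hb, hbm⟩ := C.exists_moved (0 : Fin (t + 1)) hx hxm
    rcases eq_or_ne k 2 with hk2 | hk2
    · exact C.two_false hk2 hb hbm
    · exact C.odd_false (by omega) hb hbm

/-- A standard Gram matrix. -/
def gram {F : Type*} [Field F] {k : ℕ} (S : Std k F) : Matrix (Fin k) (Fin k) F :=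
  Matrix.of fun a b => if b = S.π a then S.e a else 0

theorem pureTens_gram {F : Type*} [Field F] {k t : ℕ} (S : Std k F) (x y : Idx k t → F) :
    x ⬝ᵥ (pureTens fun _ : Fin t => S.gram) *ᵥ y = ∑ a, S.eT a * x a * y (S.πT a) := by
  refine Finset.sum_congr rfl fun a _ => ?_
  have h : ∀ b, (pureTens fun _ : Fin t => S.gram) a b = if b = S.πT a then S.eT a else 0 := fun b => by
    by_cases hb : b = S.πT a
    · subst hb; simp [pureTens, gram, πT, eT]
    · rw [if_neg hb]
      obtain ⟨l, hl⟩ := Function.ne_iff.1 hb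
      exact Finset.prod_eq_zero (Finset.mem_univ l) (if_neg hl)
  show x a * ∑ b, (pureTens fun _ : Fin t => S.gram) a b * y b = _
  simp only [h, ite_mul, zero_mul, Finset.sum_ite_eq', Finset.mem_univ, if_true]
  ring

theorem dualT_dot {F : Type*} [Field F] {k t : ℕ} (S : Std k F) (ht : Odd t) (x y : Idx k t → F) :
    S.dualT x ⬝ᵥ y = ∑ a, S.eT a * x a * y (S.πT a) := by
  rw [dotProduct, ← Equiv.sum_comp S.πTP]
  refine Finset.sum_congr rfl fun a _ => ?_
  show -(S.eT (S.πT a) * x (S.πT (S.πT a))) * y (S.πT a) = _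
  rw [S.πT_πT, S.eT_πT, ht.neg_one_pow]
  ring

/-- The standard structure in dimension `r + r`. -/
def std (r : ℕ) (F : Type*) [Field F] : Std (r + r) F where
  π a := if h : (a : ℕ) < r then ⟨a + r, by omega⟩ else ⟨a - r, by omega⟩
  e a := if (a : ℕ) < r then 1 else -1
  invol a := by
    by_cases h : (a : ℕ) < r
    · have h1 : ¬ ((a : ℕ) + r < r) := by omega
      simp [h]
    · have h1 : (a : ℕ) - r < r := by omega
      simp [h, h1]
      ext; simp; omega
  nofix a := by
    intro e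
    by_cases h : (a : ℕ) < r
    · simp [h, Fin.ext_iff] at e; omega
    · simp [h, Fin.ext_iff] at e; omega
  sign a := by split_ifs <;> ring
  anti a := by
    by_cases h : (a : ℕ) < r
    · have h1 : ¬ ((a : ℕ) + r < r) := by omega
      simp [h]
    · have h1 : (a : ℕ) - r < r := by omega
      simp [h, h1]

universe u

/-- The isometries of the symplectic group fixing the decomposition form a maximal subgroup. -/
theorem isMaximalIn {F : Type u} [Field F] [Fintype F] (m : ℕ) (hm : 7 ≤ m) (hodd : Odd (Fintype.card F))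
    (k t : ℕ) (ht : Odd t) (ht3 : 3 ≤ t) (hex : ¬ (Fintype.card F = 3 ∧ k = 2))
    (e : (Fin m ⊕ Fin m) ≃ (Fin t → Fin k)) (P : GL (Fin m ⊕ Fin m) F)
    (f₁ : (Fin k → F) → (Fin k → F) → F) (hf₁ : IsSymplecticForm f₁)
    (hT : IsTensorPowerFormStructure id (Cfsg.sympForm m F) f₁ e P) :
    IsMaximalIn (Cfsg.spGL m F) (tensorWreathSubgroup k t e P ⊓ Cfsg.spGL m F) := by
  classical
  have h2 : (2 : F) ≠ 0 := fun h => by
    have h1 : ringChar F = 2 := by
      refine (CharP.eq F (ringChar.charP F) ?_)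
      exact CharTwo.of_one_ne_zero_of_two_eq_zero one_ne_zero h
    rw [FiniteField.even_card_iff_char_two] at h1
    rw [Nat.odd_iff] at hodd
    omega
  have hcard : k ^ t = m + m := by
    have := Fintype.card_congr e
    simpa using this.symm
  obtain ⟨r, rfl⟩ : Even k := by
    by_contra hne
    exact Cfsg.Lib.Linear.Asch.not_alt_odd (f := f₁) (by rw [Fintype.card_fin]; exact Nat.not_even_iff_odd.1 hne)
      hf₁.bilinear hf₁.alternating hf₁.nondegenerate
  have hk : 2 ≤ r + r := by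
    rcases Nat.eq_zero_or_pos r with rfl | hr
    · simp [show t ≠ 0 by omega] at hcard
      omega
    · omega
  set S := std r F with hS
  obtain ⟨c, hc0, hc⟩ := hT
  -- a symplectic basis of the factor
  have hbil := hf₁.bilinear
  let B1 : LinearMap.BilinForm F (Fin (r + r) → F) := LinearMap.mk₂ F f₁ hbil.add_left hbil.smul_left
    hbil.add_right hbil.smul_right
  let BS : LinearMap.BilinForm F (Fin (r + r) → F) := LinearMap.mk₂ F (fun u v => S.dual u ⬝ᵥ v)
    (fun u u' v => by rw [S.dual_add, add_dotProduct]) (fun a u v => by rw [S.dual_smul, smul_dotProduct])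
    (fun u v v' => dotProduct_add _ _ _) (fun a u v => dotProduct_smul _ _ _)
  obtain ⟨ψ, hψ⟩ := ClassSpP.exists_isometry (B := B1) (S := BS) (fun v => hf₁.alternating v)
    (fun v hv => (hf₁.nondegenerate v hv).2) (fun v => S.dual_dot_self v)
    (fun v hv => S.exists_dual_ne hv) rfl
  set Q : GL (Fin (r + r)) F := (Symp.glEquiv (Fin (r + r)) F).symm ψ.symm with hQ
  have hQv : ∀ v, Q.val *ᵥ v = ψ.symm v := fun v => by
    rw [← Symp.glEquiv_apply, hQ, MulEquiv.apply_symm_apply]
  set G1 := gramMatrix f₁ with hG1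
  have hB1 : ∀ u v, f₁ u v = u ⬝ᵥ G1 *ᵥ v := fun u v => by
    show B1 u v = _
    conv_lhs => rw [pi_eq_sum_univ' u, pi_eq_sum_univ' v]
    simp only [map_sum, map_smul, LinearMap.sum_apply, LinearMap.smul_apply, smul_eq_mul, dotProduct,
      Matrix.mulVec, Finset.mul_sum]
    refine Finset.sum_comm.trans (Finset.sum_congr rfl fun a _ => Finset.sum_congr rfl fun b _ => ?_)
    show v b * (u a * f₁ _ _) = u a * (f₁ _ _ * v b)
    ring
  have hgram : Q.valᵀ * G1 * Q.val = S.gram := by
    ext a b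
    have h1 : f₁ (Q.val *ᵥ Pi.single a 1) (Q.val *ᵥ Pi.single b 1) = S.gram a b := by
      show B1 _ _ = _
      rw [hQv, hQv, ← hψ, LinearEquiv.apply_symm_apply, LinearEquiv.apply_symm_apply]
      show S.dual (Pi.single a 1) ⬝ᵥ Pi.single b 1 = _
      rw [S.dual_single, smul_dotProduct, single_dotProduct, one_mul, smul_eq_mul, Pi.single_apply, gram,
        Matrix.of_apply]
      simp [eq_comm]
    rw [← h1, hB1, Matrix.mulVec_mulVec, Matrix.mulVec_single_one, Matrix.mulVec_single_one, Matrix.mul_assoc,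
      Matrix.mul_apply]
    rfl
  let pt : GL (Idx (r + r) t) F := ⟨pureTens fun _ => Q.val, pureTens fun _ => (Q⁻¹).val,
    by rw [pureTens_mul]; simp [pureTens_one], by rw [pureTens_mul]; simp [pureTens_one]⟩
  set P' := P * glReindex e.symm pt with hP'
  have hsame : tensorWreathSubgroup (r + r) t e P' = tensorWreathSubgroup (r + r) t e P := by
    have hpt : pt ∈ tensorWreathStandard (r + r) t F :=
      Subgroup.subset_closure (Or.inl ⟨fun _ => Q, fun x y => rfl⟩)
    have hmem : glReindex e.symm pt ∈ (tensorWreathStandard (r + r) t F).map (glReindex e.symm).toMonoidHom :=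
      ⟨pt, hpt, rfl⟩
    unfold tensorWreathSubgroup
    rw [hP', map_mul]
    refine le_antisymm ?_ ?_
    · rintro _ ⟨x, hx, rfl⟩
      exact ⟨_, mul_mem (mul_mem hmem hx) (inv_mem hmem), by simp [mul_assoc]⟩
    · rintro _ ⟨x, hx, rfl⟩
      exact ⟨_, mul_mem (mul_mem (inv_mem hmem) hx) hmem, by simp [mul_assoc]⟩
  rw [← hsame]
  have hform : ∀ x y : Idx (r + r) t → F,
      Cfsg.sympForm m F (P'.val *ᵥ (x ∘ e)) (P'.val *ᵥ (y ∘ e)) = c * (S.dualT x ⬝ᵥ y) := by
    intro x y
    have hmv : ∀ x : Idx (r + r) t → F, P'.val *ᵥ (x ∘ e) = P.val *ᵥ ((pt.val *ᵥ x) ∘ e) := fun x => by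
      rw [hP', Units.val_mul, ← Matrix.mulVec_mulVec, show (glReindex e.symm pt).val = pt.val.submatrix e e from rfl,
        Matrix.submatrix_mulVec_equiv]
      congr 2
      exact congrArg (fun z => pt.val *ᵥ z) (funext fun i => by simp)
    rw [hmv, hmv, hc, dualT_dot S ht, ← pureTens_gram, ← hgram]
    congr 1
    change Cfsg.Geo.formOfGram id (pureTens fun _ : Fin t => G1) (pt.val *ᵥ x) (pt.val *ᵥ y) = _
    rw [AschSp.formOfGram_mat, show pt.val = pureTens fun _ : Fin t => Q.val from rfl, ← pureTens_mul, ← pureTens_mul,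
      ← AschSp.pureTens_transpose]
    exact (show ∀ (A M : Matrix (Idx (r + r) t) (Idx (r + r) t) F) (x y : Idx (r + r) t → F),
      (A *ᵥ x) ⬝ᵥ M *ᵥ (A *ᵥ y) = x ⬝ᵥ (Aᵀ * M * A) *ᵥ y from fun A M x y => by
        rw [← Matrix.mulVec_mulVec, ← Matrix.mulVec_mulVec, Matrix.dotProduct_mulVec x Aᵀ, Matrix.vecMul_transpose]) _ _ _ _
  let Θ : GL (Idx (r + r) t) F ≃* GL (Fin m ⊕ Fin m) F := (glReindex e.symm).trans (MulAut.conj P')
  have hΘ : ∀ (g : GL (Idx (r + r) t) F) (x : Idx (r + r) t → F),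
      (Θ g).val *ᵥ (P'.val *ᵥ (x ∘ e)) = P'.val *ᵥ ((g.val *ᵥ x) ∘ e) := fun g x => AschSp.tm_act e P' g.val x
  have hsp : ∀ g : GL (Idx (r + r) t) F, Θ g ∈ Cfsg.spGL m F ↔ S.IsoT g.val := by
    intro g
    constructor
    · intro h
      show S.adT g.val * g.val = 1
      ext z y
      have h1 := h (P'.val *ᵥ ((Pi.single (S.πT z) 1 : Idx (r + r) t → F) ∘ e))
        (P'.val *ᵥ ((Pi.single y 1 : Idx (r + r) t → F) ∘ e))
      change Cfsg.sympForm m F ((Θ g).val *ᵥ _) ((Θ g).val *ᵥ _) = _ at h1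
      rw [hΘ, hΘ, hform, hform] at h1
      have h3 := mul_left_cancel₀ hc0 h1
      rw [← dualT_vecMul, ← Matrix.dotProduct_mulVec, Matrix.mulVec_mulVec, dualT_single, dualT_single, neg_inj,
        Matrix.mulVec_single_one] at h3
      have h4 := mul_left_cancel₀ (left_ne_zero_of_mul_eq_one (S.eT_sq z)) h3
      rw [Matrix.col_apply] at h4
      rw [h4, Matrix.one_apply, Pi.single_apply]
    · intro h u v
      have hsur : ∀ u : (Fin m ⊕ Fin m) → F, ∃ x : Idx (r + r) t → F, P'.val *ᵥ (x ∘ e) = u := fun u =>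
        ⟨((P'⁻¹).val *ᵥ u) ∘ e.symm, by
          rw [Function.comp_assoc, Equiv.symm_comp_self, Function.comp_id, Matrix.mulVec_mulVec, Units.mul_inv,
            Matrix.one_mulVec]⟩
      obtain ⟨x, rfl⟩ := hsur u
      obtain ⟨y, rfl⟩ := hsur v
      show Cfsg.sympForm m F ((Θ g).val *ᵥ _) ((Θ g).val *ᵥ _) = _
      rw [hΘ, hΘ, hform, hform, ← dualT_vecMul, ← Matrix.dotProduct_mulVec, Matrix.mulVec_mulVec, h,
        Matrix.one_mulVec]
  have hTw : ∀ g : GL (Idx (r + r) t) F, Θ g ∈ tensorWreathSubgroup (r + r) t e P' ↔ g ∈ mst (r + r) t F := fun g => by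
    rw [mst_eq_standard (by omega) (by omega)]
    constructor
    · rintro ⟨_, ⟨x, hx, rfl⟩, hxg⟩
      have : x = g := Θ.injective hxg
      exact this ▸ hx
    · intro hg
      exact ⟨_, ⟨g, hg, rfl⟩, rfl⟩
  refine ⟨lt_of_le_of_ne inf_le_right fun h => ?_, fun L hL hLS => ?_⟩
  · -- a transvection moves the factors
    set a : Fin (r + r) := ⟨0, by omega⟩
    set x : Idx (r + r) t := fun _ => a
    set x' := S.πT x with hx'
    set n : Matrix (Idx (r + r) t) (Idx (r + r) t) F := Matrix.single x x' 1 with hn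
    have hxx : x' ≠ x := fun h => S.nofix a (congrFun h ⟨0, by omega⟩)
    have hnn : n * n = 0 := by rw [hn]; exact Matrix.single_mul_single_of_ne (h := hxx) ..
    let u : GL (Idx (r + r) t) F := ⟨1 + n, 1 - n,
      by rw [show (1 + n) * (1 - n) = 1 - n * n by noncomm_ring, hnn, sub_zero],
      by rw [show (1 - n) * (1 + n) = 1 - n * n by noncomm_ring, hnn, sub_zero]⟩
    have hnsk : S.adT n = -n := by
      ext p q
      simp only [adT, hn, Matrix.of_apply, Matrix.single_apply, Matrix.neg_apply, mul_ite, mul_one, mul_zero]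
      by_cases hpq : x = p ∧ x' = q
      · obtain ⟨rfl, rfl⟩ := hpq
        rw [if_pos ⟨by rw [hx', S.πT_πT], hx'⟩, if_pos ⟨rfl, rfl⟩, hx', S.eT_πT, ht.neg_one_pow]
        linear_combination (-1 : F) * S.eT_sq x
      · rw [if_neg hpq, if_neg, neg_zero]
        rintro ⟨h1, h2⟩
        exact hpq ⟨S.πT_inj (hx' ▸ h2), by rw [hx', h1, S.πT_πT]⟩
    have hu : S.IsoT u.val := by
      show S.adT (1 + n) * (1 + n) = 1
      rw [S.adT_add, S.adT_one, hnsk, ← sub_eq_add_neg]
      exact u.inv_mul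
    have hmem : Θ u ∈ tensorWreathSubgroup (r + r) t e P' :=
      ((SetLike.ext_iff.1 h (Θ u)).2 ((hsp u).2 hu)).1
    obtain ⟨σ, hσ⟩ := (hTw u).1 hmem
    set i0 : Fin t := ⟨0, by omega⟩
    obtain ⟨b, hb⟩ := hσ i0
    have h1 := congrFun (congrFun (hb (sg a a)) x) x'
    rw [conjA_apply, fa_sg_diag] at h1
    set D := Matrix.diagonal fun y : Idx (r + r) t => if y i0 = a then (1 : F) else 0
    have hval : (u.val * D * (u⁻¹).val) x x' = -1 := by
      show ((1 + n) * D * (1 - n)) x x' = -1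
      simp only [add_mul, mul_sub, one_mul, mul_one, Matrix.add_apply, Matrix.sub_apply]
      have e0 : (n * D) = 0 := by
        rw [hn]; ext p q
        simp only [D, Matrix.mul_diagonal, Matrix.single_apply, Matrix.zero_apply]
        by_cases hpq : x = p ∧ x' = q
        · obtain ⟨rfl, rfl⟩ := hpq
          rw [if_neg (show ¬ x' i0 = a from S.nofix a), mul_zero]
        · rw [if_neg hpq, zero_mul]
      rw [e0, zero_mul]
      simp [D, hn, Matrix.diagonal_mul, x, Matrix.diagonal_apply_ne _ hxx.symm]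
    have hzero : fa (σ i0) (conjA b (sg a a)) x x' = 0 := by
      rw [fa_apply, powStd_apply, if_neg]
      intro h
      obtain ⟨j, hj⟩ : ∃ j, j ≠ σ i0 := by
        by_cases e0 : (⟨0, by omega⟩ : Fin t) = σ i0
        · exact ⟨⟨1, by omega⟩, by rw [← e0]; simp⟩
        · exact ⟨_, e0⟩
      exact S.nofix a (h j hj).symm
    rw [hzero, hval] at h1
    exact one_ne_zero (neg_eq_zero.1 h1)
  set G := L.comap Θ.toMonoidHom with hG
  have hmemG : ∀ g : GL (Idx (r + r) t) F, g ∈ mst (r + r) t F → S.IsoT g.val → g ∈ G := fun g h1 h3 =>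
    hL ⟨(hTw g).2 h1, (hsp g).2 h3⟩
  have hall : Std.AllPerm G := fun σ => by
    refine ⟨permGL σ, hmemG _ (permGL_mem_mst σ) ?_, rfl⟩
    show S.adT (permMat σ) * permMat σ = 1
    rw [show S.adT (permMat σ : Matrix (Idx (r + r) t) (Idx (r + r) t) F) = permMat σ.symm from S.adT_permMat σ,
      permMat_mul, show σ.symm * σ = 1 from inv_mul_cancel σ, permMat_one]
  have hOver : S.SOver G := by
    refine ⟨fun g hg => ⟨1, by rw [one_smul]; exact (hsp g).1 (hLS hg)⟩,
      fun i a ha => hmemG _ (fu_mem_mst i a) (S.isoT_fu ha i),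
      fun σ _ => hall σ⟩
  by_cases hR : S.NR G
  · refine Or.inl (le_antisymm (le_inf (fun x hx => ?_) hLS) hL)
    obtain ⟨g, rfl⟩ := Θ.surjective x
    refine (hTw g).2 (le_mst h2 hk (fun hk2 => ?_) (by omega) G hOver hR hx)
    by_contra hc
    push Not at hc
    have hsub : (Finset.univ : Finset F) ⊆ {0, 1, -1} := fun y _ => by
      rcases eq_or_ne y 0 with rfl | hy
      · simp
      · rcases mul_self_eq_one_iff.1 (hc y hy) with rfl | rfl <;> simp
    have h3 := (Finset.card_le_card hsub).trans Finset.card_le_three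
    rw [Finset.card_univ] at h3
    have h4 := Fintype.one_lt_card (α := F)
    rw [Nat.odd_iff] at hodd
    exact hex ⟨by omega, by omega⟩
  · refine Or.inr (le_antisymm hLS fun x hx => ?_)
    obtain ⟨g, rfl⟩ := Θ.surjective x
    exact iso_le_of_rich hOver hall h2 hk ht hR g ((hsp g).1 hx)

end Cfsg.Lib.Linear.SpWreath.Std
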