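import Cfsg.Agent.Lib.Linear.SpWreath.Slab

/-!
# Conjugates of transvections permuting the factors

In odd characteristic they are transvections of a factor.
-/

set_option autoImplicit false
set_option linter.unusedSectionVars false

namespace Cfsg.Lib.Linear.SpWreath.Std

open Cfsg.Geo Cfsg.Lib.Linear.AschGen Cfsg.Lib.Linear.TWreath
open scoped Matrix MatrixGroups

variable {F : Type*} [Field F] {k t : ℕ} {S : Std k F} {G : Subgroup (GL (Idx k t) F)}

/-- A conjugate of a transvection of a factor. -/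
def IsD (S : Std k F) (G : Subgroup (GL (Idx k t) F)) (x : GL (Idx k t) F) : Prop :=
  ∃ g ∈ G, ∃ s i, S.IsTv s i ∧ x = g * s * g⁻¹

theorem IsTv.isD {x : GL (Idx k t) F} {i : Fin t} (h : S.IsTv x i) : S.IsD G x :=
  ⟨1, G.one_mem, x, i, h, by group⟩

theorem IsD.conj {x : GL (Idx k t) F} (h : S.IsD G x) {g : GL (Idx k t) F} (hg : g ∈ G) :
    S.IsD G (g * x * g⁻¹) := by
  obtain ⟨g', hg', s, i, hs, rfl⟩ := h
  exact ⟨g * g', G.mul_mem hg hg', s, i, hs, by group⟩

theorem IsD.mem (hG : S.SOver G) {x : GL (Idx k t) F} (h : S.IsD G x) : x ∈ G := by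
  obtain ⟨g, hg, s, i, hs, rfl⟩ := h
  exact G.mul_mem (G.mul_mem hg (hs.mem hG)) (G.inv_mem hg)

theorem IsTv.mem_mst {x : GL (Idx k t) F} {i : Fin t} (h : S.IsTv x i) : x ∈ mst k t F := by
  obtain ⟨u, c, -, -, hx⟩ := h
  have : x = fu i (S.trv u c) := Units.ext (by rw [hx, fu_val, S.trv_val, map_add, map_one, map_smul])
  exact this ▸ fu_mem_mst i _

theorem IsTv.conj_fu {x : GL (Idx k t) F} {i : Fin t} (h : S.IsTv x i) {a : GL (Fin k) F} (ha : S.Iso a) :
    S.IsTv (fu i a * x * (fu i a)⁻¹) i := by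
  obtain ⟨u, c, hu, hc, hx⟩ := h
  refine ⟨a.val *ᵥ u, c, fun e => hu ?_, hc, ?_⟩
  · have := congrArg ((a⁻¹).val *ᵥ ·) e
    simpa [Matrix.mulVec_mulVec] using this
  · rw [val_conj, hx, map_add, map_one, map_smul, acts_fu, S.conjA_nr ha]

theorem isD_facts (hG : S.SOver G) {x : GL (Idx k t) F} (h : S.IsD G x) :
    (x.val - 1) * (x.val - 1) = 0 ∧ S.adT (x.val - 1) = -(x.val - 1) ∧
      ∀ (i : Fin t) (z : Fin k), (x.val - 1).rank = (fa i (sg z z : Matrix (Fin k) (Fin k) F)).rank := by
  obtain ⟨g, hg, s, j, ⟨u, c, hu, hc, hs⟩, rfl⟩ := h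
  have e : (g * s * g⁻¹).val - 1 = conjA g (c • fa j (S.nr u)) := by
    rw [val_conj, hs, map_add, map_one, add_sub_cancel_left]
  refine ⟨?_, ?_, fun i z => ?_⟩
  · rw [e, ← map_mul, smul_mul_smul_comm, ← map_mul (fa j), S.nr_mul_self, map_zero, smul_zero, map_zero]
  · rw [e, adT_conjA hG hg, S.adT_smul, S.adT_fa, S.ad_nr, map_neg, smul_neg, map_neg]
  · obtain ⟨a, ha, hau⟩ := S.exists_move hu (w := Pi.single z 1) (by simp)
    rw [e, rank_conjA, ← rank_conjA (fu j a), map_smul, acts_fu, S.conjA_nr ha, hau, S.nr_single, map_smul, smul_smul]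
    have hscal : ∀ (r : F) (M : Matrix (Idx k t) (Idx k t) F), r ≠ 0 → (r • M).rank = M.rank := fun r M hr => by
      refine le_antisymm ?_ ?_
      · rw [show r • M = (r • (1 : Matrix (Idx k t) (Idx k t) F)) * M by rw [smul_mul_assoc, one_mul]]
        exact Matrix.rank_mul_le_right _ _
      · conv_lhs => rw [show M = (r⁻¹ • (1 : Matrix (Idx k t) (Idx k t) F)) * (r • M) by
          rw [smul_mul_assoc, one_mul, smul_smul, inv_mul_cancel₀ hr, one_smul]]
        exact Matrix.rank_mul_le_right _ _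
    rw [hscal _ _ (mul_ne_zero hc (S.e_ne z)), rank_fa_sg j _ _ z, rank_fa_indep j i]

/-- No factor is moved. -/
theorem perm_triv (h2 : (2 : F) ≠ 0) (hk : 2 ≤ k) {x : GL (Idx k t) F} (hsq : (x.val - 1) * (x.val - 1) = 0)
    {i i' i'' : Fin t} {a b : GL (Fin k) F} (ha : Acts x i i' a) (hb : Acts x⁻¹ i i'' b) : i' = i := by
  by_contra hne
  have hne'' : i'' ≠ i := by
    rintro rfl
    exact hne (ha.target_unique hk (by simpa using hb.inv))
  set n := x.val - 1 with hn
  have hinv : (x⁻¹).val = 1 - n := by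
    refine left_inv_eq_right_inv (Units.inv_mul x) ?_
    rw [show x.val * (1 - n) = 1 - n * n by rw [hn]; noncomm_ring, hsq, sub_zero]
  have hL : ∀ X : Matrix (Fin k) (Fin k) F,
      fa i' (conjA a X) - 2 • fa i X + fa i'' (conjA b X) = -2 • (n * fa i X * n) := by
    intro X
    rw [← ha X, ← hb X, conjA_apply, conjA_apply, inv_inv, hinv,
      show x.val = 1 + n by rw [hn, add_sub_cancel]]
    noncomm_ring
  have hkey : ∀ X : Matrix (Fin k) (Fin k) F, X ≠ 0 → X * X = 0 → i' = i'' ∧ conjA a X + conjA b X = 0 := by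
    intro X hX0 hXX
    set u := fa i' (conjA a X)
    set v := fa i X
    set w := fa i'' (conjA b X)
    have hv : v * v = 0 := by rw [← map_mul, hXX, map_zero]
    have hu : u * u = 0 := by rw [← map_mul, ← map_mul, hXX, map_zero, map_zero]
    have hw : w * w = 0 := by rw [← map_mul, ← map_mul, hXX, map_zero, map_zero]
    have hsq0 : (u - 2 • v + w) * (u - 2 • v + w) = 0 := by
      rw [hL X]
      have : n * fa i X * n * (n * fa i X * n) = 0 := by
        rw [mul_assoc (n * fa i X) n, ← mul_assoc n (n * fa i X), ← mul_assoc n n, hsq]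
        simp
      rw [smul_mul_smul_comm, this, smul_zero]
    have huv : u * v = v * u := (fa_comm hne _ _).eq
    have hwv : w * v = v * w := (fa_comm hne'' _ _).eq
    have h1 : v * ((u + w) * (u + w)) = 0 := by
      have e : (u - 2 • v + w) * (u - 2 • v + w) =
          (u + w) * (u + w) - 2 • (v * u + v * w) - 2 • (u * v + w * v) + 4 • (v * v) := by noncomm_ring
      rw [e, huv, hwv, hv, smul_zero, add_zero] at hsq0
      have h4 := congrArg (v * ·) hsq0
      simp only [mul_sub, mul_smul_comm, mul_add, ← mul_assoc, hv, zero_mul, add_zero, smul_zero,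
        sub_zero, mul_zero] at h4
      simpa only [← mul_assoc, mul_add] using h4
    have hA0 : ∀ c : GL (Fin k) F, conjA c X ≠ 0 := fun c => (map_ne_zero_iff _ (conjA c).injective).2 hX0
    rcases eq_or_ne i' i'' with rfl | hii
    · refine ⟨rfl, ?_⟩
      set Y := conjA a X + conjA b X with hY
      have e : u + w = fa i' Y := (map_add _ _ _).symm
      rw [e, ← map_mul] at h1
      have hYY := eq_zero_of_fa_mul (i := i) hX0 (com_fa (Ne.symm hne) _) h1
      have hYY' : Y * Y = 0 := fa_injective (by omega) i' (hYY.trans (map_zero _).symm)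
      have e2 : (u - 2 • v + w) * (u - 2 • v + w) = -(4 • (v * fa i' Y)) := by
        have : u - 2 • v + w = fa i' Y - 2 • v := by rw [← e]; abel
        rw [this, mul_sub, sub_mul, sub_mul, ← map_mul, hYY', map_zero, smul_mul_assoc, smul_mul_assoc,
          mul_smul_comm, mul_smul_comm, hv, smul_zero, smul_zero, (fa_comm hne Y X).eq]
        module
      rw [e2, neg_eq_zero] at hsq0
      have h44 : (4 : ℕ) • (v * fa i' Y) = (4 : F) • (v * fa i' Y) := by
        rw [← Nat.cast_smul_eq_nsmul F]; norm_num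
      rw [h44, smul_eq_zero] at hsq0
      have h4 : (4 : F) ≠ 0 := by
        rw [show (4 : F) = 2 * 2 by norm_num]; exact mul_ne_zero h2 h2
      have hY0 := eq_zero_of_fa_mul (i := i) hX0 (com_fa (Ne.symm hne) _) (hsq0.resolve_left h4)
      exact fa_injective (by omega) i' (hY0.trans (map_zero _).symm)
    · exfalso
      have huw : w * u = u * w := (fa_comm hii.symm _ _).eq
      rw [mul_add, add_mul, add_mul, hu, hw, huw, zero_add, add_zero, ← two_nsmul, mul_smul_comm,
        ← Nat.cast_smul_eq_nsmul F, smul_eq_zero] at h1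
      have h3 := h1.resolve_left (by exact_mod_cast h2)
      exact fa_ne_zero (by omega) i'' (hA0 b) (eq_zero_of_fa_mul (i := i') (hA0 a) (com_fa hii _)
        (eq_zero_of_fa_mul (i := i) hX0
          (((com_fa (Ne.symm hne) _)).mul (com_fa (Ne.symm hne'') _)) h3))
  set p : Fin k := ⟨0, by omega⟩
  set q : Fin k := ⟨1, by omega⟩
  have hpq : p ≠ q := by simp [p, q]
  set X1 : Matrix (Fin k) (Fin k) F := sg p p + sg p q - sg q p - sg q q with hX1
  have hX10 : X1 ≠ 0 := fun e => by
    have h := congrFun (congrFun e p) p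
    simp [hX1, Matrix.single_apply, hpq, hpq.symm] at h
  have hX11 : X1 * X1 = 0 := by
    rw [hX1]
    simp only [sub_mul, mul_sub, add_mul, mul_add, sg_mul, sg_mul_ne _ _ hpq, sg_mul_ne _ _ hpq.symm]
    abel
  have hii := (hkey X1 hX10 hX11).1
  subst hii
  have hc : ∀ X : Matrix (Fin k) (Fin k) F, X ≠ 0 → X * X = 0 → conjA (b⁻¹ * a) X = -X := fun X h h' => by
    rw [conjA_mul, eq_neg_of_add_eq_zero_left (hkey X h h').2, map_neg, conjA_inv]
  have h12 := hc (sg p q) (sg_ne p q) (sg_mul_ne _ _ hpq.symm)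
  have h21 := hc (sg q p) (sg_ne q p) (sg_mul_ne _ _ hpq)
  have h11 : conjA (b⁻¹ * a) (sg p p) = sg p p := by
    rw [show (sg p p : Matrix (Fin k) (Fin k) F) = sg p q * sg q p by rw [sg_mul], map_mul, h12, h21, neg_mul_neg]
  have h22 : conjA (b⁻¹ * a) (sg q q) = sg q q := by
    rw [show (sg q q : Matrix (Fin k) (Fin k) F) = sg q p * sg p q by rw [sg_mul], map_mul, h12, h21, neg_mul_neg]
  have h := congrFun (congrFun (hc X1 hX10 hX11) p) p
  rw [hX1, map_sub, map_sub, map_add, h11, h22, h12, h21] at h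
  simp [Matrix.single_apply, hpq, hpq.symm] at h
  exact h2 (by linear_combination h)

/-- A skew square zero matrix of rank one is a multiple of a root. -/
theorem exists_nr {N : Matrix (Fin k) (Fin k) F} (hsk : S.ad N = -N) (hN : N ≠ 0) {u φ : Fin k → F}
    (huφ : N = Matrix.vecMulVec u φ) : ∃ r : F, r ≠ 0 ∧ u ≠ 0 ∧ N = r • S.nr u := by
  have hu0 : u ≠ 0 := fun e => hN (by rw [huφ, e, Matrix.zero_vecMulVec])
  obtain ⟨b0, hb0⟩ := Function.ne_iff.1 hu0
  have key : N = (-(-(S.e b0 * φ (S.π b0))) / u b0) • S.nr u := by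
    ext p q
    have h := congrFun (congrFun hsk b0) q
    rw [huφ] at h
    simp only [ad, Matrix.of_apply, Matrix.vecMulVec_apply, Matrix.neg_apply] at h
    rw [huφ]
    simp only [nr, dual, Matrix.smul_apply, Matrix.vecMulVec_apply, smul_eq_mul]
    have hb0' : u b0 ≠ 0 := hb0
    field_simp
    linear_combination u p * h
  exact ⟨_, fun e => hN (by rw [key, e, zero_smul]), hu0, key⟩

theorem rank_one_of_le {i : Fin t} (z : Fin k) {N : Matrix (Fin k) (Fin k) F}
    (hN : N ≠ 0) (hr : (fa i N).rank ≤ (fa i (sg z z : Matrix (Fin k) (Fin k) F)).rank) :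
    ∃ u φ : Fin k → F, N = Matrix.vecMulVec u φ := by
  classical
  have hk : 0 < k := Fin.pos z
  obtain ⟨u0, hu0⟩ : ∃ u0, N *ᵥ u0 ≠ 0 := by
    by_contra h
    push Not at h
    exact hN (Matrix.toLin'.injective (LinearMap.ext fun w => by simpa using h w))
  set c := N *ᵥ u0 with hc
  set δ := (Pi.single z (1 : F) : Fin k → F)
  have hmulR : ∀ y x : Fin k → F, fa i (Matrix.vecMulVec δ y) * fa i N * fa i (Matrix.vecMulVec x δ) =
      (y ⬝ᵥ (N *ᵥ x)) • fa i (sg z z) := fun y x => by
    simp only [← map_mul, vmv, map_smul, sg_eq_vecMulVec, δ]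
  obtain ⟨ξ, -, hξc⟩ := Rat0.exists_dot_pair (x := (0 : Fin k → F)) (y := c) (by simpa using hu0)
  rw [dotProduct_comm] at hξc
  have hline : ∀ x, ∃ r : F, N *ᵥ x = r • c := by
    intro x
    by_contra h
    push Not at h
    have hx : N *ᵥ x ∉ Submodule.span F {c, (0 : Fin k → F)} := fun hh => by
      obtain ⟨r, r', hr'⟩ := Submodule.mem_span_pair.1 hh
      rw [smul_zero, add_zero] at hr'
      exact h r hr'.symm
    obtain ⟨η, hηc, -, hηx⟩ := exists_sep hx
    have hge : (fa i (sg z z : Matrix (Fin k) (Fin k) F)).rank ≤ (fa i N * fa i (Matrix.vecMulVec u0 δ)).rank := by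
      have e := hmulR ξ u0
      rw [← hc, hξc, one_smul] at e
      conv_lhs => rw [← e, mul_assoc]
      exact Matrix.rank_mul_le_right _ _
    have hlt := rank_lt (X := fa i N) (R := fa i (Matrix.vecMulVec u0 δ)) (e := fa i (Matrix.vecMulVec δ η))
      (by rw [← mul_assoc, hmulR, ← hc, hηc, zero_smul]) fun hh => by
        have := hmulR η x
        rw [hh, zero_mul, hηx, one_smul] at this
        exact fa_ne_zero hk i (sg_ne z z) this.symm
    omega
  choose r hr' using hline
  refine ⟨c, ξ ᵥ* N, Matrix.toLin'.injective (LinearMap.ext fun x => ?_)⟩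
  rw [Matrix.toLin'_apply, Matrix.toLin'_apply, Matrix.vecMulVec_mulVec, op_smul_eq_smul,
    ← Matrix.dotProduct_mulVec, hr', dotProduct_smul, hξc, smul_eq_mul, mul_one]

/-- The conjugates of transvections permuting the factors are transvections. -/
theorem isTv_of_mem (hG : S.SOver G) (h2 : (2 : F) ≠ 0) (hk : 2 ≤ k) {x : GL (Idx k t) F} (hD : S.IsD G x)
    (hx : x ∈ mst k t F) : ∃ i, S.IsTv x i := by
  classical
  obtain ⟨hsq, hsk, hrk⟩ := isD_facts hG hD
  obtain ⟨σ, hσ⟩ := hx
  choose a ha using hσ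
  have hfix : ∀ i, σ i = i := fun i => by
    refine perm_triv h2 hk hsq (ha i) (i'' := σ.symm i) (b := (a (σ.symm i))⁻¹) ?_
    have := (ha (σ.symm i)).inv
    rwa [Equiv.apply_symm_apply] at this
  set z : Fin k := ⟨0, by omega⟩
  haveI : Nonempty (Idx k t) := ⟨fun _ => z⟩
  by_cases hall : ∀ i, ∃ c : F, (a i).val = c • 1
  · exfalso
    obtain ⟨c, hc⟩ := scalar_of_com (by omega) (Φ := x.val) fun l X => by
      obtain ⟨c, hc⟩ := hall l
      have h1 : conjA (a l) X = X := by
        have hu := Units.mul_inv (a l)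
        rw [hc, smul_mul_assoc, one_mul] at hu
        rw [conjA_apply, hc, smul_mul_assoc, one_mul, smul_mul_assoc, ← mul_smul_comm, hu, mul_one]
      have h3 := ha l X
      rw [hfix l, h1, conjA_apply] at h3
      have h4 := congrArg (· * x.val) h3
      simp only [mul_assoc, Units.inv_mul, mul_one] at h4
      exact h4.symm
    obtain ⟨g, -, s, j, -⟩ := hD
    have hn : x.val - 1 = (c - 1) • 1 := by rw [hc, sub_smul, one_smul]
    rw [hn, smul_mul_smul_comm, one_mul, smul_eq_zero, or_iff_left one_ne_zero, mul_self_eq_zero] at hsq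
    have := hrk j z
    rw [hn, hsq, zero_smul, Matrix.rank_zero] at this
    exact (rank_pos_fa (by omega) j z).ne this
  push Not at hall
  obtain ⟨i, hi⟩ := hall
  have hai := ha i
  rw [hfix i] at hai
  set w := (fu i (a i))⁻¹ * x with hw
  have hwA : Acts w i i 1 := by simpa using (acts_fu i (a i)).inv.mul hai
  have hwc : Com i w.val := fun X => by
    have := congrArg (· * w.val) (hwA X)
    simp only [conjA_one] at this
    simp only [conjA_apply, mul_assoc, Units.inv_mul, mul_one] at this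
    exact this.symm
  have hxe : x.val = fa i (a i).val * w.val := by
    rw [← fu_val, ← Units.val_mul, hw, mul_inv_cancel_left]
  set A := (a i).val
  -- the quadratic relation, entry by entry
  have hrel : ∀ p q, (A * A) p q • (w.val * w.val) - (2 * A p q) • w.val +
      (if p = q then (1 : F) else 0) • (1 : Matrix (Idx k t) (Idx k t) F) = 0 := by
    intro p q
    have e : fa i (A * A) * (w.val * w.val) + (fa i ((-2 : F) • A) * w.val + fa i 1 * 1) = 0 := by
      have hcw : fa i A * w.val * (fa i A * w.val) = fa i A * fa i A * (w.val * w.val) := by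
        rw [mul_assoc (fa i A) w.val, ← mul_assoc w.val, ← (hwc A).eq]
        simp only [mul_assoc]
      rw [← hsq, hxe, map_smul, map_one, one_mul, map_mul, smul_mul_assoc]
      simp only [sub_mul, mul_sub, one_mul, mul_one, hcw]
      module
    have h := congrArg (fun M => comp i M p q) e
    have hadd : ∀ M N : Matrix (Idx k t) (Idx k t) F,
        comp i (M + N) p q = comp i M p q + comp i N p q := fun M N => by
      simp only [comp, mul_add, add_mul, Finset.sum_add_distrib]
    simp only [hadd, comp_fa_mul (hwc.mul hwc), comp_fa_mul hwc, comp_fa_mul (com_one i), Matrix.one_apply,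
      show comp i (0 : Matrix (Idx k t) (Idx k t) F) p q = 0 by simp [comp], Matrix.smul_apply, smul_eq_mul] at h
    rw [← h]
    module
  by_cases hws : ∃ c : F, w.val = c • 1
  · obtain ⟨c, hc⟩ := hws
    rw [hc, mul_smul_comm, mul_one, ← map_smul] at hxe
    set N := c • A - 1 with hN
    have hxN : x.val - 1 = fa i N := by rw [hxe, hN, map_sub, map_one]
    have hN0 : N ≠ 0 := fun e => by
      have := hrk i z
      rw [hxN, e, map_zero, Matrix.rank_zero] at this
      exact (rank_pos_fa (by omega) i z).ne this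
    have hNsk : S.ad N = -N := fa_injective (by omega) i (by rw [map_neg, ← S.adT_fa, ← hxN, hsk])
    obtain ⟨u, φ, huφ⟩ := rank_one_of_le (i := i) z hN0 (by rw [← hxN, hrk i z])
    obtain ⟨r, hr, hu, hNr⟩ := exists_nr hNsk hN0 huφ
    refine ⟨i, u, r, hu, hr, ?_⟩
    rw [← map_smul, ← hNr, ← hxN, add_sub_cancel]
  · push Not at hws
    exfalso
    obtain ⟨p0, hp0⟩ : ∃ p : Fin k, p = z := ⟨z, rfl⟩
    have hzz := hrel z z
    rw [if_pos rfl] at hzz
    set α := (A * A) z z
    set β := A z z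
    have hα : α ≠ 0 := fun e => by
      rw [e, zero_smul, zero_sub, one_smul, neg_add_eq_sub, sub_eq_zero] at hzz
      by_cases hb : 2 * β = 0
      · rw [hb, zero_smul] at hzz
        exact one_ne_zero hzz
      · exact hws (2 * β)⁻¹ (by rw [hzz, smul_smul, inv_mul_cancel₀ hb, one_smul])
    refine hi (α⁻¹ * α * β) ?_
    ext p q
    set δ : F := if p = q then 1 else 0 with hδ
    have h := hrel p q
    rw [← hδ] at h
    have h3 : (2 * ((A * A) p q * β - α * A p q)) • w.val + (δ * α - (A * A) p q) • (1 : Matrix (Idx k t) (Idx k t) F) = 0 := by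
      have := congrArg₂ (fun P Q => α • P - (A * A) p q • Q) h hzz
      simp only [smul_zero, sub_zero] at this
      rw [← this]
      module
    have hcoef : 2 * ((A * A) p q * β - α * A p q) = 0 := by
      by_contra hne
      refine hws (-(2 * ((A * A) p q * β - α * A p q))⁻¹ * (δ * α - (A * A) p q)) ?_
      have h4 := congrArg ((2 * ((A * A) p q * β - α * A p q))⁻¹ • ·) h3
      simp only [smul_add, smul_smul, inv_mul_cancel₀ hne, one_smul, smul_zero] at h4
      rw [eq_neg_of_add_eq_zero_left h4, neg_mul, neg_smul]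
    rw [hcoef, zero_smul, zero_add, smul_eq_zero, or_iff_left one_ne_zero, sub_eq_zero] at h3
    rw [mul_eq_zero, or_iff_right h2, sub_eq_zero, ← h3] at hcoef
    have h5 : A p q = δ * β := mul_left_cancel₀ hα (by linear_combination -hcoef)
    rw [inv_mul_cancel₀ hα, one_mul, Matrix.smul_apply, Matrix.one_apply, ← hδ, h5, smul_eq_mul, mul_comm]

theorem Ctx.isTv_of_mem (C : Ctx S G) {x : GL (Idx k t) F} (hD : S.IsD G x) (hx : x ∈ mst k t F) :
    ∃ i, S.IsTv x i :=
  Std.isTv_of_mem C.hov C.h2 C.hk hD hx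

/-- The long roots generate the matrix algebra of the factor. -/
theorem mem_of_nr {T : Subalgebra F (Matrix (Fin k) (Fin k) F)} (h : ∀ u, S.nr u ∈ T)
    (X : Matrix (Fin k) (Fin k) F) : X ∈ T := by
  have hlong : ∀ a, sg a (S.π a) ∈ T := fun a => by
    have h1 := T.smul_mem (h (Pi.single a 1)) (S.e a)
    rwa [S.nr_single, smul_smul, S.sign, one_smul] at h1
  have hdiag : ∀ a, sg a a ∈ T := fun a => by
    have h1 := T.mul_mem (hlong a) (hlong (S.π a))
    rwa [S.invol, sg_mul] at h1
  have hall : ∀ p q, sg p q ∈ T := by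
    intro p q
    rcases eq_or_ne q p with rfl | hqp
    · exact hdiag q
    rcases eq_or_ne q (S.π p) with rfl | hqπ
    · exact hlong p
    set b := S.π q
    have hπb : S.π b = q := S.invol q
    have hbp : b ≠ p := fun e => hqπ (by rw [← e]; exact hπb.symm)
    have h1 := T.mul_mem (hdiag p) (T.sub_mem (T.sub_mem (h (Pi.single p 1 + Pi.single b 1)) (h (Pi.single p 1)))
      (h (Pi.single b 1)))
    have e : sg p p * (S.nr (Pi.single p 1 + Pi.single b 1) - S.nr (Pi.single p 1) - S.nr (Pi.single b 1)) =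
        S.e b • sg p q := by
      have hv : ∀ a c : Fin k, Matrix.vecMulVec (Pi.single a 1) (S.dual (Pi.single c 1)) =
          S.e c • (sg a (S.π c) : Matrix (Fin k) (Fin k) F) := fun a c => by
        rw [S.dual_single, Matrix.vecMulVec_smul, ← Matrix.single_eq_single_vecMulVec_single]
      simp only [nr, S.dual_add, Matrix.add_vecMulVec, Matrix.vecMulVec_add, hv, hπb, mul_sub, mul_add, mul_smul_comm,
        sg_mul, sg_mul_ne _ _ hbp.symm, smul_zero, add_zero]
      abel
    rw [e] at h1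
    have h2 := T.smul_mem h1 (S.e b)
    rwa [smul_smul, S.sign, one_smul] at h2
  rw [Matrix.matrix_eq_sum_single X]
  refine sum_mem fun p _ => sum_mem fun q _ => ?_
  rw [show Matrix.single p q (X p q) = X p q • (sg p q : Matrix (Fin k) (Fin k) F) by simp]
  exact T.smul_mem (hall p q) _

/-- An element carrying a transvection to a transvection permutes the factors. -/
theorem Ctx.mem_of_tv (C : Ctx S G) {g s : GL (Idx k t) F} (hg : g ∈ G) {i j : Fin t} (hs : S.IsTv s i)
    (hs' : S.IsTv (g * s * g⁻¹) j) : g ∈ mst k t F := by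
  classical
  have hk : 0 < k := by have := C.hk; omega
  rcases eq_or_ne i j with rfl | hij
  · exact C.mem_of_tv_perm hg hs hs' (σ := 1) (map_one _) rfl
  by_cases hl : ∃ l, l ≠ i ∧ l ≠ j
  · obtain ⟨l, hli, hlj⟩ := hl
    refine C.mem_of_tv_perm hg hs hs' (σ := Equiv.swap i j * Equiv.swap i l) ?_ ?_
    · rw [map_mul, Equiv.Perm.sign_swap hij, Equiv.Perm.sign_swap (Ne.symm hli)]; rfl
    · rw [Equiv.Perm.mul_apply, Equiv.swap_apply_of_ne_of_ne (Ne.symm hij) (Ne.symm hlj), Equiv.swap_apply_right]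
  push Not at hl
  have htwo : ∀ l, l = i ∨ l = j := fun l => or_iff_not_imp_left.2 (hl l)
  -- the transvections of the first factor go back to transvections of the second
  by_cases hback : ∃ (u : Fin k → F) (hu : u ≠ 0),
      S.IsTv (g⁻¹ * fu i (S.trv u 1) * g⁻¹⁻¹) i
  · obtain ⟨u, hu, hb⟩ := hback
    have hx : S.IsTv (fu i (S.trv u 1)) i :=
      ⟨u, 1, hu, one_ne_zero, by rw [fu_val, S.trv_val, map_add, map_one, map_smul]⟩
    simpa using (mst k t F).inv_mem (C.mem_of_tv_perm (G.inv_mem hg) hx hb (σ := 1) (map_one _) rfl)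
  push Not at hback
  have hnr : ∀ u : Fin k → F, conjA g⁻¹ (fa i (S.nr u)) ∈ (fa (F := F) (m := k) j).range := by
    intro u
    rcases eq_or_ne u 0 with rfl | hu
    · rw [show S.nr (0 : Fin k → F) = 0 from Matrix.zero_vecMulVec _, map_zero, map_zero]; exact Subalgebra.zero_mem _
    set x := fu (t := t) i (S.trv u 1)
    have hx : S.IsTv x i := ⟨u, 1, hu, one_ne_zero, by rw [fu_val, S.trv_val, map_add, map_one, map_smul]⟩
    have hcom : Commute (g * s * g⁻¹) x := by
      obtain ⟨v, c, -, -, hv⟩ := hs'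
      refine Units.ext ?_
      rw [Units.val_mul (g * s * g⁻¹) x, Units.val_mul x (g * s * g⁻¹), hv, fu_val, ← map_one (fa (F := F) (m := k) (t := t) j), ← map_smul,
        ← map_add]
      exact (fa_comm (Ne.symm hij) _ _).eq
    have hy : g⁻¹ * x * g⁻¹⁻¹ ∈ G := G.mul_mem (G.mul_mem (G.inv_mem hg) (hx.mem C.hov)) (G.inv_mem (G.inv_mem hg))
    have hcs : Commute (g⁻¹ * x * g⁻¹⁻¹) s := by
      have h := congrArg (fun z => g⁻¹ * z * g) hcom.eq.symm
      show _ = _
      simpa [mul_assoc] using h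
    obtain ⟨l, hxl⟩ := C.isTv_of_mem (hx.isD.conj (G.inv_mem hg)) (C.cent_tv hy hs hcs)
    rcases htwo l with rfl | rfl
    · exact absurd hxl (hback u hu)
    · obtain ⟨v, c, -, -, hv⟩ := hxl
      rw [val_conj, fu_val, S.trv_val, map_add, map_one, map_add, map_one, one_smul] at hv
      rw [add_left_cancel hv]
      exact Subalgebra.smul_mem _ ((AlgHom.mem_range _).2 ⟨S.nr v, rfl⟩) _
  set T : Subalgebra F (Matrix (Fin k) (Fin k) F) :=
    ((fa (F := F) (m := k) j).range).comap ((conjA g⁻¹).toAlgHom.comp (fa i))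
  obtain ⟨a, ha⟩ := exists_acts hk (g := g⁻¹) (i := i) (j := j) fun X => by
    obtain ⟨Y, hY⟩ : X ∈ T := mem_of_nr (fun u => hnr u) X
    exact ⟨Y, hY.symm⟩
  obtain ⟨b, hb⟩ := exists_acts hk (g := g⁻¹) (i := j) (j := i) fun X => by
    set M := conjA g⁻¹ (fa j X)
    have hM : Com j M := fun Y => by
      obtain ⟨Z, hZ⟩ : ∃ Z, conjA g⁻¹ (fa i Z) = fa j Y := ⟨conjA a⁻¹ Y, by rw [ha, ← conjA_mul, mul_inv_cancel, conjA_one]⟩
      rw [← hZ]
      exact (fa_comm hij Z X).map (conjA g⁻¹)
    have hcs : ∀ p q, ∃ c : F, comp i M p q = c • 1 := fun p q => scalar_of_com hk fun l => by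
      rcases htwo l with rfl | rfl
      · exact comp_com _ _ _ _
      · exact comp_com_other i M (Ne.symm hij) hM p q
    choose c hc using hcs
    refine ⟨∑ p, ∑ q, c p q • sg p q, ?_⟩
    conv_lhs => rw [← sum_comp i M]
    simp only [map_sum, map_smul, hc, mul_smul_comm, mul_one]
  have hm : g⁻¹ ∈ mst k t F := ⟨Equiv.swap i j, fun l => by
    rcases htwo l with rfl | rfl
    · rw [Equiv.swap_apply_left]; exact ⟨a, ha⟩
    · rw [Equiv.swap_apply_right]; exact ⟨b, hb⟩⟩
  simpa using (mst k t F).inv_mem hm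

theorem Ctx.exists_moved (C : Ctx S G) (i : Fin t) {x : GL (Idx k t) F} (hx : x ∈ G)
    (hxm : x ∉ mst k t F) : ∃ b, S.IsD G b ∧ b ∉ mst k t F := by
  set u : Fin k → F := Pi.single ⟨0, by have := C.hk; omega⟩ 1
  have hs : S.IsTv (fu i (S.trv u 1)) i :=
    ⟨u, 1, by simp [u], one_ne_zero, by rw [fu_val, S.trv_val, map_add, map_one, map_smul]⟩
  refine ⟨x * fu i (S.trv u 1) * x⁻¹, hs.isD.conj hx, fun hb => ?_⟩
  obtain ⟨j, hj⟩ := C.isTv_of_mem (hs.isD.conj hx) hb
  exact hxm (C.mem_of_tv hx hs hj)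

/-- A transvection and a moved conjugate generate no `p`-group. -/
theorem Ctx.not_pgroup [Finite F] (C : Ctx S G) (p : ℕ) [Fact p.Prime] {s b : GL (Idx k t) F} {i : Fin t}
    (hs : S.IsTv s i) (hb : S.IsD G b) (hp : IsPGroup p (Subgroup.closure {s, b} : Subgroup (GL (Idx k t) F))) :
    b ∈ mst k t F := by
  classical
  by_contra hbm
  set H : Subgroup (GL (Idx k t) F) := Subgroup.closure {s, b} with hH
  have hHG : H ≤ G := (Subgroup.closure_le _).2 (Set.insert_subset (hs.mem C.hov)
    (Set.singleton_subset_iff.2 (hb.mem C.hov)))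
  have hsH : s ∈ H := Subgroup.subset_closure (by simp)
  have hbH : b ∈ H := Subgroup.subset_closure (by simp)
  haveI : Group.IsNilpotent H := hp.isNilpotent
  set H' := (mst k t F).subgroupOf H with hH'
  have hne : H' ≠ ⊤ := fun h => hbm (by
    have : (⟨b, hbH⟩ : H) ∈ H' := h ▸ Subgroup.mem_top _
    exact this)
  have hlt := Group.normalizerCondition_of_isNilpotent H' (lt_top_iff_ne_top.2 hne)
  obtain ⟨x, hxN, hxH'⟩ := SetLike.exists_of_lt hlt
  have hmem : (x : GL (Idx k t) F) * s * (x : GL (Idx k t) F)⁻¹ ∈ mst k t F :=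
    (Subgroup.mem_normalizer_iff.1 hxN ⟨s, hsH⟩).1 hs.mem_mst
  obtain ⟨j, hj⟩ := C.isTv_of_mem (hs.isD.conj (hHG x.2)) hmem
  exact hxH' (C.mem_of_tv (hHG x.2) hs hj)

end Cfsg.Lib.Linear.SpWreath.Std
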