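import Cfsg.Agent.Lib.Linear.SpWreath.Std

/-!
# Isometries of the factors and the coefficients of their long root elements
-/

set_option autoImplicit false
set_option linter.unusedSectionVars false

namespace Cfsg.Lib.Linear.SpWreath

open Cfsg.Geo Cfsg.Lib.Linear.AschGen Cfsg.Lib.Linear.TWreath
open scoped Matrix MatrixGroups

variable {F : Type*} [Field F] {k t : ℕ} (S : Std k F)

namespace Std

/-- An isometry of one factor. -/
def Iso (a : GL (Fin k) F) : Prop := S.ad a.val * a.val = 1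

theorem Iso.inv_val {a : GL (Fin k) F} (h : S.Iso a) : (a⁻¹).val = S.ad a.val :=
  (left_inv_eq_right_inv h (Units.mul_inv a)).symm

theorem Iso.mul {a b : GL (Fin k) F} (h : S.Iso a) (h' : S.Iso b) : S.Iso (a * b) := by
  show S.ad (a.val * b.val) * (a.val * b.val) = 1
  rw [S.ad_mul, mul_assoc, ← mul_assoc (S.ad a.val), h, one_mul, h']

theorem Iso.one : S.Iso (1 : GL (Fin k) F) := by show S.ad 1 * 1 = 1; rw [S.ad_one, one_mul]

theorem Iso.inv {a : GL (Fin k) F} (h : S.Iso a) : S.Iso a⁻¹ := by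
  show S.ad _ * _ = 1
  rw [Iso.inv_val S h, S.ad_ad, ← Iso.inv_val S h, Units.mul_inv]

/-- An isometry of the tensor power. -/
def IsoT (M : Matrix (Idx k t) (Idx k t) F) : Prop := S.adT M * M = 1

theorem IsoT.mul {M N : Matrix (Idx k t) (Idx k t) F} (h : S.IsoT M) (h' : S.IsoT N) : S.IsoT (M * N) := by
  show S.adT (M * N) * (M * N) = 1
  rw [S.adT_mul, mul_assoc, ← mul_assoc (S.adT M), h, one_mul, h']

theorem isoT_fu {a : GL (Fin k) F} (h : S.Iso a) (i : Fin t) : S.IsoT (fu i a).val := by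
  show S.adT _ * _ = 1
  rw [fu_val, S.adT_fa, ← map_mul, h, map_one]

/-- The functional of a vector. -/
def dual (u : Fin k → F) : Fin k → F := fun b => -(S.e b * u (S.π b))

theorem dual_dot_comm (u v : Fin k → F) : S.dual u ⬝ᵥ v = -(S.dual v ⬝ᵥ u) := by
  simp only [dotProduct, dual, ← Finset.sum_neg_distrib]
  rw [← Equiv.sum_comp S.πP]
  refine Finset.sum_congr rfl fun z _ => ?_
  show -(S.e (S.π z) * u (S.π (S.π z))) * v (S.π z) = _
  rw [S.invol, S.anti]
  ring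

theorem dual_dot_self (u : Fin k → F) : S.dual u ⬝ᵥ u = 0 := by
  refine Finset.sum_involution (fun a _ => S.π a) (fun a _ => ?_) (fun a _ _ => S.nofix a)
    (fun a _ => Finset.mem_univ _) fun a _ => S.invol a
  simp only [dual, S.invol, S.anti]
  ring

theorem dual_add (u v : Fin k → F) : S.dual (u + v) = S.dual u + S.dual v := by
  funext b; simp [dual]; ring

theorem dual_smul (c : F) (u : Fin k → F) : S.dual (c • u) = c • S.dual u := by
  funext b; simp [dual, mul_left_comm]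

theorem dual_single (a : Fin k) : S.dual (Pi.single a 1) = S.e a • Pi.single (S.π a) 1 := by
  funext b
  rcases eq_or_ne b (S.π a) with rfl | h
  · simp [dual, S.invol, S.anti]
  · have : S.π b ≠ a := fun e => h (by rw [← e, S.invol])
    simp [dual, this, h]

theorem exists_dual_ne {u : Fin k → F} (hu : u ≠ 0) : ∃ z, S.dual u ⬝ᵥ z ≠ 0 := by
  obtain ⟨a, ha⟩ := Function.ne_iff.1 hu
  refine ⟨Pi.single (S.π a) 1, ?_⟩
  rw [dotProduct_single, mul_one]
  simp [dual, S.invol, S.e_ne]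
  exact ha

theorem dual_ne_zero {u : Fin k → F} (hu : u ≠ 0) : S.dual u ≠ 0 := fun h => by
  obtain ⟨z, hz⟩ := S.exists_dual_ne hu
  exact hz (by rw [h, zero_dotProduct])

/-- The nilpotent matrix of a root. -/
def nr (u : Fin k → F) : Matrix (Fin k) (Fin k) F := Matrix.vecMulVec u (S.dual u)

theorem nr_mul_self (u : Fin k → F) : S.nr u * S.nr u = 0 := by
  rw [nr, Matrix.vecMulVec_mul_vecMulVec]; simp [S.dual_dot_self]

theorem ad_nr (u : Fin k → F) : S.ad (S.nr u) = -S.nr u := by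
  ext a b
  simp only [ad, nr, dual, Matrix.of_apply, Matrix.vecMulVec_apply, Matrix.neg_apply, S.invol, S.anti]
  linear_combination (S.e b * u (S.π b) * u a) * S.sign a

theorem nr_smul (r : F) (u : Fin k → F) : S.nr (r • u) = (r * r) • S.nr u := by
  rw [nr, nr, S.dual_smul, Matrix.smul_vecMulVec, Matrix.vecMulVec_smul, smul_smul]

theorem nr_single (a : Fin k) : S.nr (Pi.single a 1) = S.e a • sg a (S.π a) := by
  rw [nr, S.dual_single, Matrix.vecMulVec_smul, ← Matrix.single_eq_single_vecMulVec_single]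

theorem nr_ne_zero {u : Fin k → F} (hu : u ≠ 0) : S.nr u ≠ 0 := by
  obtain ⟨a, ha⟩ := Function.ne_iff.1 hu
  obtain ⟨b, hb⟩ := Function.ne_iff.1 (S.dual_ne_zero hu)
  exact fun h => mul_ne_zero ha hb (by simpa [nr, Matrix.vecMulVec_apply] using congrFun (congrFun h a) b)

theorem dual_vecMul {a : GL (Fin k) F} (h : S.Iso a) (u : Fin k → F) :
    S.dual u ᵥ* (a⁻¹).val = S.dual (a.val *ᵥ u) := by
  funext b
  simp only [Iso.inv_val S h, Matrix.vecMul, dotProduct, dual, ad, Matrix.of_apply, Matrix.mulVec,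
    Finset.mul_sum, ← Finset.sum_neg_distrib]
  conv_rhs => rw [← Equiv.sum_comp S.πP]
  refine Finset.sum_congr rfl fun z _ => ?_
  show _ = -(S.e b * (a.val (S.π b) (S.π z) * u (S.π z)))
  linear_combination (-(S.e b * a.val (S.π b) (S.π z) * u (S.π z))) * S.sign z

theorem conjA_nr {a : GL (Fin k) F} (h : S.Iso a) (u : Fin k → F) :
    conjA a (S.nr u) = S.nr (a.val *ᵥ u) := by
  rw [conjA_apply, nr, Matrix.mul_vecMulVec, Matrix.vecMulVec_mul, S.dual_vecMul h, nr]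

/-- The symplectic transvection. -/
def trv (u : Fin k → F) (c : F) : GL (Fin k) F :=
  ⟨1 + c • S.nr u, 1 - c • S.nr u,
    by rw [(show ∀ X : Matrix (Fin k) (Fin k) F, (1 + X) * (1 - X) = 1 - X * X from fun X => by noncomm_ring),
      smul_mul_smul_comm, S.nr_mul_self, smul_zero, sub_zero],
    by rw [(show ∀ X : Matrix (Fin k) (Fin k) F, (1 - X) * (1 + X) = 1 - X * X from fun X => by noncomm_ring),
      smul_mul_smul_comm, S.nr_mul_self, smul_zero, sub_zero]⟩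

theorem trv_val (u : Fin k → F) (c : F) : (S.trv u c).val = 1 + c • S.nr u := rfl

theorem trv_inv_val (u : Fin k → F) (c : F) : ((S.trv u c)⁻¹).val = 1 - c • S.nr u := rfl

theorem iso_trv (u : Fin k → F) (c : F) : S.Iso (S.trv u c) := by
  show S.ad (1 + c • S.nr u) * _ = 1
  rw [S.ad_add, S.ad_one, S.ad_smul, S.ad_nr, smul_neg, ← sub_eq_add_neg]
  exact (S.trv u c).inv_mul

theorem trv_mulVec (u v : Fin k → F) (c : F) :
    (S.trv u c).val *ᵥ v = v + (c * (S.dual u ⬝ᵥ v)) • u := by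
  rw [trv_val, Matrix.add_mulVec, Matrix.one_mulVec, Matrix.smul_mulVec, nr, Matrix.vecMulVec_mulVec,
    op_smul_eq_smul, smul_smul]

/-- The isometries are transitive on non-zero vectors. -/
theorem exists_move {v w : Fin k → F} (hv : v ≠ 0) (hw : w ≠ 0) :
    ∃ a : GL (Fin k) F, S.Iso a ∧ a.val *ᵥ v = w := by
  have step : ∀ v w : Fin k → F, S.dual w ⬝ᵥ v ≠ 0 → ∃ a : GL (Fin k) F, S.Iso a ∧ a.val *ᵥ v = w := fun v w h =>
    ⟨S.trv (w - v) (S.dual w ⬝ᵥ v)⁻¹, S.iso_trv _ _, by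
      rw [trv_mulVec, show S.dual (w - v) = S.dual w - S.dual v by rw [eq_sub_iff_add_eq, ← S.dual_add, sub_add_cancel],
        sub_dotProduct, S.dual_dot_self, sub_zero, inv_mul_cancel₀ h, one_smul, add_sub_cancel]⟩
  obtain ⟨z1, h1⟩ := S.exists_dual_ne hv
  obtain ⟨z2, h2⟩ := S.exists_dual_ne hw
  obtain ⟨z, hz1, hz2⟩ : ∃ z, S.dual z ⬝ᵥ v ≠ 0 ∧ S.dual w ⬝ᵥ z ≠ 0 := by
    have h1' : S.dual z1 ⬝ᵥ v ≠ 0 := by rw [S.dual_dot_comm]; simpa using h1
    by_cases h3 : S.dual w ⬝ᵥ z1 = 0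
    · by_cases h4 : S.dual z2 ⬝ᵥ v = 0
      · exact ⟨z1 + z2, by rw [S.dual_add, add_dotProduct, h4, add_zero]; exact h1',
          by rw [dotProduct_add, h3, zero_add]; exact h2⟩
      · exact ⟨z2, h4, h2⟩
    · exact ⟨z1, h1', h3⟩
  obtain ⟨a, ha, hav⟩ := step v z hz1
  obtain ⟨b, hb, hbz⟩ := step z w hz2
  exact ⟨b * a, Iso.mul S hb ha, by rw [Units.val_mul, ← Matrix.mulVec_mulVec, hav, hbz]⟩

/-- The signs of a monomial isometry. -/
def dsg (ρ : Equiv.Perm (Fin k)) (a : Fin k) : F := if a < S.π a then S.e a * S.e (ρ a) else 1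

theorem dsg_mul {ρ : Equiv.Perm (Fin k)} (hρ : ∀ a, ρ (S.π a) = S.π (ρ a)) (a : Fin k) :
    S.dsg ρ a * S.dsg ρ (S.π a) = S.e a * S.e (ρ a) := by
  rcases lt_or_gt_of_ne (S.nofix a) with h | h
  · rw [dsg, if_neg h.not_gt, dsg, S.invol, if_pos h, hρ, S.anti, S.anti]; ring
  · rw [dsg, if_pos h, dsg, S.invol, if_neg h.not_gt, mul_one]

theorem dsg_sq (ρ : Equiv.Perm (Fin k)) (a : Fin k) : S.dsg ρ a * S.dsg ρ a = 1 := by
  rw [dsg]
  split_ifs
  · linear_combination (S.e (ρ a) * S.e (ρ a)) * S.sign a + S.sign (ρ a)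
  · exact one_mul 1

theorem monMat_iso {ρ : Equiv.Perm (Fin k)} (hρ : ∀ a, ρ (S.π a) = S.π (ρ a)) {d : Fin k → F}
    (hd : ∀ a, d a * d (S.π a) = S.e a * S.e (ρ a)) :
    S.ad (Matrix.of fun x y => if x = ρ y then d y else 0) * (Matrix.of fun x y => if x = ρ y then d y else 0) = 1 := by
  ext a b
  rw [Matrix.mul_apply, Finset.sum_eq_single (ρ b) (fun z _ hz => by simp [hz])
    (fun h => absurd (Finset.mem_univ _) h)]
  simp only [ad, Matrix.of_apply, if_true]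
  rw [← hρ, Matrix.one_apply]
  by_cases h : a = b
  · subst h
    rw [if_pos rfl, if_pos rfl]
    linear_combination (S.e a * S.e (ρ a)) * hd a + (S.e (ρ a) * S.e (ρ a)) * S.sign a + S.sign (ρ a)
  · rw [if_neg (fun e => h (S.π_inj (ρ.injective e)).symm), if_neg h]
    simp

/-- A monomial isometry. -/
noncomputable def mon (ρ : Equiv.Perm (Fin k)) (hρ : ∀ a, ρ (S.π a) = S.π (ρ a)) : GL (Fin k) F :=
  ⟨Matrix.of fun x y => if x = ρ y then S.dsg ρ y else 0,
    S.ad (Matrix.of fun x y => if x = ρ y then S.dsg ρ y else 0),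
    mul_eq_one_comm.1 (S.monMat_iso hρ (S.dsg_mul hρ)), S.monMat_iso hρ (S.dsg_mul hρ)⟩

theorem iso_mon (ρ : Equiv.Perm (Fin k)) (hρ : ∀ a, ρ (S.π a) = S.π (ρ a)) : S.Iso (S.mon ρ hρ) :=
  (S.mon ρ hρ).inv_mul

theorem conjA_mon (ρ : Equiv.Perm (Fin k)) (hρ : ∀ a, ρ (S.π a) = S.π (ρ a)) (a b : Fin k) :
    conjA (S.mon ρ hρ) (sg a b) = (S.dsg ρ a * S.dsg ρ b) • sg (ρ a) (ρ b) := by
  have h : (S.mon ρ hρ).val * sg a b = ((S.dsg ρ a * S.dsg ρ b) • sg (ρ a) (ρ b)) * (S.mon ρ hρ).val := by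
    ext x y
    rw [show (S.mon ρ hρ).val =
      (Matrix.of fun x y => if x = ρ y then S.dsg ρ y else 0 : Matrix (Fin k) (Fin k) F) from rfl]
    rw [Matrix.smul_mul, Matrix.smul_apply]
    by_cases hy : b = y
    · subst hy
      rw [Matrix.mul_single_apply_same]
      by_cases hx : x = ρ a
      · subst hx
        rw [Matrix.single_mul_apply_same]
        simp only [Matrix.of_apply, if_true, smul_eq_mul, mul_one, one_mul]
        linear_combination (-(S.dsg ρ a)) * S.dsg_sq ρ b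
      · rw [Matrix.single_mul_apply_of_ne _ _ _ _ _ hx]
        simp [hx]
    · rw [Matrix.mul_single_apply_of_ne _ _ _ _ _ (Ne.symm hy)]
      by_cases hx : x = ρ a
      · subst hx
        rw [Matrix.single_mul_apply_same]
        simp [hy, ρ.injective.eq_iff]
      · rw [Matrix.single_mul_apply_of_ne _ _ _ _ _ hx]
        simp
  rw [conjA_apply, h, mul_assoc, Units.mul_inv, mul_one]

/-- The pairing preserving permutations are transitive on indices in different pairs. -/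
theorem exists_rho {a b a' b' : Fin k} (h1 : b ≠ a) (h2 : b ≠ S.π a) (h1' : b' ≠ a') (h2' : b' ≠ S.π a') :
    ∃ ρ : Equiv.Perm (Fin k), (∀ x, ρ (S.π x) = S.π (ρ x)) ∧ ρ a = a' ∧ ρ b = b' := by
  have key : ∀ p q : Fin k, ∃ ρ : Equiv.Perm (Fin k), (∀ x, ρ (S.π x) = S.π (ρ x)) ∧ ρ p = q ∧
      ∀ z, z ≠ p → z ≠ S.π p → z ≠ q → z ≠ S.π q → ρ z = z := by
    intro p q
    rcases eq_or_ne q p with rfl | hqp
    · exact ⟨1, fun _ => rfl, rfl, fun z _ _ _ _ => rfl⟩
    rcases eq_or_ne q (S.π p) with rfl | hqπ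
    · refine ⟨Equiv.swap p (S.π p), fun x => ?_, Equiv.swap_apply_left _ _, fun z z1 z2 _ _ =>
        Equiv.swap_apply_of_ne_of_ne z1 z2⟩
      rcases eq_or_ne x p with rfl | hx
      · rw [Equiv.swap_apply_left, Equiv.swap_apply_right, S.invol]
      rcases eq_or_ne x (S.π p) with rfl | hx'
      · rw [Equiv.swap_apply_right, S.invol, Equiv.swap_apply_left]
      rw [Equiv.swap_apply_of_ne_of_ne hx hx', Equiv.swap_apply_of_ne_of_ne (fun e => hx' (by rw [← e, S.invol]))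
        (fun e => hx (S.π_inj e))]
    have e1 : S.π p ≠ p := S.nofix p
    have e2 : S.π q ≠ q := S.nofix q
    have e3 : S.π q ≠ p := fun e => hqπ (by rw [← e, S.invol])
    have e4 : S.π q ≠ S.π p := fun e => hqp (S.π_inj e)
    refine ⟨Equiv.swap p q * Equiv.swap (S.π p) (S.π q), fun x => ?_, ?_, fun z z1 z2 z3 z4 => ?_⟩
    · simp only [Equiv.Perm.mul_apply]
      rcases eq_or_ne x p with rfl | hx1
      · simp [Equiv.swap_apply_of_ne_of_ne e1.symm e3.symm, Equiv.swap_apply_of_ne_of_ne e3 e2]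
      rcases eq_or_ne x q with rfl | hx2
      · simp [Equiv.swap_apply_of_ne_of_ne hqπ e2.symm, Equiv.swap_apply_of_ne_of_ne e1 hqπ.symm]
      rcases eq_or_ne x (S.π p) with rfl | hx3
      · simp [S.invol, Equiv.swap_apply_of_ne_of_ne e1.symm e3.symm, Equiv.swap_apply_of_ne_of_ne e3 e2]
      rcases eq_or_ne x (S.π q) with rfl | hx4
      · simp [S.invol, Equiv.swap_apply_of_ne_of_ne hqπ e2.symm, Equiv.swap_apply_of_ne_of_ne e1 hqπ.symm]
      rw [Equiv.swap_apply_of_ne_of_ne hx3 hx4, Equiv.swap_apply_of_ne_of_ne hx1 hx2,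
        Equiv.swap_apply_of_ne_of_ne (fun e => hx1 (S.π_inj e)) (fun e => hx2 (S.π_inj e)),
        Equiv.swap_apply_of_ne_of_ne (fun e => hx3 (by rw [← e, S.invol])) (fun e => hx4 (by rw [← e, S.invol]))]
    · simp [Equiv.swap_apply_of_ne_of_ne e1.symm e3.symm]
    · rw [Equiv.Perm.mul_apply, Equiv.swap_apply_of_ne_of_ne z2 z4, Equiv.swap_apply_of_ne_of_ne z1 z3]
  obtain ⟨ρ, hρ, hρa, -⟩ := key a a'
  obtain ⟨τ, hτ, hτb, hτf⟩ := key (ρ b) b'
  have n1 : ρ b ≠ a' := fun e => h1 (ρ.injective (e.trans hρa.symm))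
  have n2 : ρ b ≠ S.π a' := fun e => h2 (ρ.injective (by rw [e, hρ, hρa]))
  refine ⟨τ * ρ, fun x => ?_, ?_, by rw [Equiv.Perm.mul_apply, hτb]⟩
  · rw [Equiv.Perm.mul_apply, Equiv.Perm.mul_apply, hρ, hτ]
  · rw [Equiv.Perm.mul_apply, hρa]
    exact hτf a' n1.symm (fun e => n2 (by rw [e, S.invol])) h1'.symm (fun e => h2' (by rw [e, S.invol]))

/-- A matrix is that of an isometry in the group. -/
def InI (G : Subgroup (GL (Idx k t) F)) (a : Matrix (Idx k t) (Idx k t) F) : Prop :=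
  InM G a ∧ S.IsoT a

/-- A group of similitudes containing the isometries of the factors and their even permutations. -/
structure SOver (G : Subgroup (GL (Idx k t) F)) : Prop where
  le : ∀ g ∈ G, ∃ c : F, S.adT g.val * g.val = c • 1
  sp : ∀ (i : Fin t) (a : GL (Fin k) F), S.Iso a → fu i a ∈ G
  perm : ∀ σ : Equiv.Perm (Fin t), Equiv.Perm.sign σ = 1 → ∃ g ∈ G,
    g.val = Matrix.of fun x y : Idx k t => if y = x ∘ σ then (1 : F) else 0

/-- All the permutations of the factors lie in the group. -/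
def AllPerm (G : Subgroup (GL (Idx k t) F)) : Prop :=
  ∀ σ : Equiv.Perm (Fin t), ∃ g ∈ G, g.val = Matrix.of fun x y : Idx k t => if y = x ∘ σ then (1 : F) else 0

variable {S} {G : Subgroup (GL (Idx k t) F)}

theorem InI.mul {a b : Matrix (Idx k t) (Idx k t) F} (h : S.InI G a) (h' : S.InI G b) : S.InI G (a * b) :=
  ⟨h.1.mul h'.1, IsoT.mul S h.2 h'.2⟩

theorem InI.one : S.InI G 1 := ⟨⟨1, G.one_mem, rfl⟩, by show S.adT 1 * 1 = 1; rw [S.adT_one, one_mul]⟩

theorem InI.inv {a b : Matrix (Idx k t) (Idx k t) F} (h : S.InI G a) (hab : a * b = 1) : S.InI G b := by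
  obtain ⟨⟨g, hg, rfl⟩, hi⟩ := h
  have hb : b = (g⁻¹).val := (left_inv_eq_right_inv g.inv_mul hab).symm
  refine ⟨⟨g⁻¹, G.inv_mem hg, hb.symm⟩, ?_⟩
  have e : S.adT g.val = b := left_inv_eq_right_inv hi hab
  show S.adT b * b = 1
  rw [← e, S.adT_adT, e, hab]

theorem InI.neg {n : Matrix (Idx k t) (Idx k t) F} (h : S.InI G (1 + n)) (hn : n * n = 0) : S.InI G (1 - n) :=
  h.inv (by rw [show (1 + n) * (1 - n) = 1 - n * n by noncomm_ring, hn, sub_zero])

theorem InI.conj (hG : S.SOver G) {a : Matrix (Idx k t) (Idx k t) F} (h : S.InI G a) {g : GL (Idx k t) F}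
    (hg : g ∈ G) : S.InI G (conjA g a) := by
  refine ⟨h.1.conj hg, ?_⟩
  obtain ⟨c, hc⟩ := hG.le g hg
  obtain ⟨c', hc'⟩ := hG.le g⁻¹ (G.inv_mem hg)
  show S.adT (conjA g a) * conjA g a = 1
  have h1 : c • (S.adT (g⁻¹).val * (g⁻¹).val) = 1 := by
    rw [← smul_mul_assoc, ← mul_one (S.adT (g⁻¹).val), ← mul_smul_comm, ← hc, ← mul_assoc,
      ← S.adT_mul, Units.mul_inv, S.adT_one, one_mul, Units.mul_inv]
  rw [conjA_apply, S.adT_mul, S.adT_mul]
  calc S.adT (g⁻¹).val * (S.adT a * S.adT g.val) * (g.val * a * (g⁻¹).val)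
      = S.adT (g⁻¹).val * (S.adT a * (S.adT g.val * g.val) * a) * (g⁻¹).val := by simp only [mul_assoc]
    _ = c • (S.adT (g⁻¹).val * (g⁻¹).val) := by
      rw [hc, mul_smul_comm, mul_one, smul_mul_assoc, h.2, mul_smul_comm, mul_one, smul_mul_assoc]
    _ = 1 := h1

theorem InI.of_fu (hG : S.SOver G) (i : Fin t) {a : GL (Fin k) F} (ha : S.Iso a) : S.InI G (fa i a.val) :=
  ⟨⟨fu i a, hG.sp i a ha, rfl⟩, S.isoT_fu ha i⟩

theorem InI.skew {n : Matrix (Idx k t) (Idx k t) F} (h : S.InI G (1 + n)) (hn : n * n = 0) : S.adT n = -n := by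
  have h1 : S.adT (1 + n) * (1 + n) = 1 := h.2
  have h2 : S.adT (1 + n) = 1 - n := by
    refine left_inv_eq_right_inv h1 ?_
    rw [show (1 + n) * (1 - n) = 1 - n * n by noncomm_ring, hn, sub_zero]
  rw [S.adT_add, S.adT_one, sub_eq_add_neg] at h2
  exact add_left_cancel h2

/-- The coefficient is available at every long root of the factor. -/
def Lg (S : Std k F) (G : Subgroup (GL (Idx k t) F)) (i : Fin t) (Φ : Matrix (Idx k t) (Idx k t) F) : Prop :=
  Com i Φ ∧ ∀ u : Fin k → F, S.InI G (1 + fa i (S.nr u) * Φ)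

/-- Only scalar coefficients are available. -/
def NR (S : Std k F) (G : Subgroup (GL (Idx k t) F)) : Prop :=
  ∀ i Φ, S.Lg G i Φ → ∃ c : F, Φ = c • 1

theorem lg_of_one (hG : S.SOver G) {i : Fin t} {Φ : Matrix (Idx k t) (Idx k t) F} (hΦ : Com i Φ)
    {u : Fin k → F} (hu : u ≠ 0) (h : S.InI G (1 + fa i (S.nr u) * Φ)) : S.Lg G i Φ := by
  refine ⟨hΦ, fun v => ?_⟩
  rcases eq_or_ne v 0 with rfl | hv
  · rw [show S.nr 0 = 0 by simp [nr], map_zero, zero_mul, add_zero]; exact InI.one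
  obtain ⟨a, ha, hav⟩ := S.exists_move hu hv
  have h1 := h.conj hG (hG.sp i a ha)
  rwa [map_add, map_one, map_mul, acts_fu i a, conjA_fu_com hΦ, S.conjA_nr ha, hav] at h1

theorem lg_of_sg (hG : S.SOver G) {i : Fin t} {Φ : Matrix (Idx k t) (Idx k t) F} (hΦ : Com i Φ)
    {a : Fin k} {r : F} (h : S.InI G (1 + fa i (sg a (S.π a)) * (r • Φ))) : S.Lg G i ((r * S.e a) • Φ) := by
  refine lg_of_one hG (hΦ.smul _) (u := Pi.single a 1) (by simp) ?_
  rw [S.nr_single, map_smul, smul_mul_smul_comm,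
    show S.e a * (r * S.e a) = r by rw [mul_left_comm, S.sign, mul_one], ← mul_smul_comm]
  exact h

theorem lg_scalar (hG : S.SOver G) (i : Fin t) (c : F) : S.Lg G i (c • 1) := by
  refine ⟨com_scalar i c, fun u => ?_⟩
  have := InI.of_fu hG i (S.iso_trv u c)
  rwa [S.trv_val, map_add, map_one, map_smul, ← mul_one (fa i (S.nr u)), ← mul_smul_comm] at this

theorem nr_fa_sq {i : Fin t} {Φ : Matrix (Idx k t) (Idx k t) F} (hΦ : Com i Φ) (u : Fin k → F)
    (Ψ : Matrix (Idx k t) (Idx k t) F) : fa i (S.nr u) * Φ * (fa i (S.nr u) * Ψ) = 0 := by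
  rw [mul_assoc (fa i (S.nr u)), ← mul_assoc Φ, ← (hΦ _).eq, mul_assoc (fa i (S.nr u)) Φ, ← mul_assoc,
    ← map_mul, S.nr_mul_self, map_zero, zero_mul]

theorem Lg.selfAd {i : Fin t} {Φ : Matrix (Idx k t) (Idx k t) F} (h : S.Lg G i Φ) (a : Fin k) :
    S.adT Φ = Φ := by
  have h1 := (h.2 (Pi.single a 1)).skew (nr_fa_sq h.1 _ _)
  rw [S.adT_fa_mul h.1, S.ad_nr, map_neg, neg_mul, neg_inj] at h1
  refine sub_eq_zero.1 (eq_zero_of_fa_mul (i := i) (S.nr_ne_zero (u := Pi.single a 1) (by simp))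
    ((S.com_adT h.1).sub h.1) ?_)
  rw [mul_sub, h1, sub_self]

theorem Lg.add {i : Fin t} {Φ Ψ : Matrix (Idx k t) (Idx k t) F} (h : S.Lg G i Φ) (h' : S.Lg G i Ψ) :
    S.Lg G i (Φ + Ψ) := by
  refine ⟨h.1.add h'.1, fun u => ?_⟩
  have h1 := (h.2 u).mul (h'.2 u)
  rw [add_mul, one_mul, mul_add, mul_one, nr_fa_sq h.1, add_zero] at h1
  rw [mul_add]
  convert h1 using 1
  abel

theorem Lg.neg {i : Fin t} {Φ : Matrix (Idx k t) (Idx k t) F} (h : S.Lg G i Φ) : S.Lg G i (-Φ) := by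
  refine ⟨by simpa using h.1.smul (-1 : F), fun u => ?_⟩
  have := (h.2 u).neg (nr_fa_sq h.1 _ _)
  rwa [mul_neg, ← sub_eq_add_neg]

theorem Lg.zero {i : Fin t} : S.Lg G i (0 : Matrix (Idx k t) (Idx k t) F) :=
  ⟨fun _ => Commute.zero_right _, fun u => by rw [mul_zero, add_zero]; exact InI.one⟩

theorem Lg.smul (h2 : (2 : F) ≠ 0) {i : Fin t} {Φ : Matrix (Idx k t) (Idx k t) F} (h : S.Lg G i Φ) (c : F) :
    S.Lg G i (c • Φ) := by
  have hsq : ∀ r : F, S.Lg G i ((r * r) • Φ) := fun r => ⟨h.1.smul _, fun u => by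
    have := h.2 (r • u)
    rwa [S.nr_smul, map_smul, smul_mul_assoc, ← mul_smul_comm] at this⟩
  have e : c • Φ = (((c + 1) / 2) * ((c + 1) / 2)) • Φ + -((((c - 1) / 2) * ((c - 1) / 2)) • Φ) := by
    rw [← sub_eq_add_neg, ← sub_smul]
    congr 1
    field_simp
    ring
  rw [e]
  exact (hsq _).add (hsq _).neg

theorem Lg.conj (hG : S.SOver G) {i : Fin t} {Φ : Matrix (Idx k t) (Idx k t) F} (h : S.Lg G i Φ)
    {g : GL (Idx k t) F} (hg : g ∈ G) (ha : Acts g i i 1) : S.Lg G i (conjA g Φ) := by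
  refine ⟨ha.com h.1, fun u => ?_⟩
  have := (h.2 u).conj hG hg
  rwa [map_add, map_one, map_mul, ha, conjA_one] at this

end Std

end Cfsg.Lib.Linear.SpWreath
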