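import Cfsg.Agent.Lib.Linear.SpWreath.Short

/-!
# Spaces of matrices invariant under the isometries of the factors

Such a space with a non-scalar element contains a tensor product of elementary pieces.
-/

set_option autoImplicit false
set_option linter.unusedSectionVars false

namespace Cfsg.Lib.Linear.SpWreath.Std

open Cfsg.Geo Cfsg.Lib.Linear.AschGen Cfsg.Lib.Linear.TWreath
open scoped Matrix MatrixGroups

variable {F : Type*} [Field F] {k t : ℕ} {S : Std k F}

/-- The space is invariant under the isometries of the factor. -/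
def Inv (S : Std k F) (l : Fin t) (W : Submodule F (Matrix (Idx k t) (Idx k t) F)) : Prop :=
  ∀ a : GL (Fin k) F, S.Iso a → ∀ Φ ∈ W, conjA (fu l a) Φ ∈ W

/-- An elementary piece. -/
def IsPiece (S : Std k F) (N : Matrix (Fin k) (Fin k) F) : Prop :=
  (∃ a, N = sg a (S.π a)) ∨ ∃ a b, b ≠ a ∧ b ≠ S.π a ∧ N = sg a b + S.ad (sg a b)

theorem comp_fa_mul {i : Fin t} {C : Matrix (Idx k t) (Idx k t) F} (hC : Com i C)
    (X : Matrix (Fin k) (Fin k) F) (p q : Fin k) : comp i (fa i X * C) p q = X p q • C := by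
  simp only [comp, mul_assoc, ← (hC _).eq]
  simp only [← mul_assoc, ← map_mul, sg_mul_mul, map_smul, ← Finset.sum_mul, ← Finset.smul_sum, ← map_sum,
    sum_sg, map_one, smul_mul_assoc, one_mul]

theorem comp_sum {i : Fin t} {α : Type*} (s : Finset α) (f : α → Matrix (Idx k t) (Idx k t) F) (p q : Fin k) :
    comp i (∑ x ∈ s, f x) p q = ∑ x ∈ s, comp i (f x) p q := by
  simp only [comp, Finset.mul_sum, Finset.sum_mul]
  exact Finset.sum_comm

theorem sg_ne (a b : Fin k) : (sg a b : Matrix (Fin k) (Fin k) F) ≠ 0 := fun e => by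
  simpa using congrFun (congrFun e a) b

variable {W : Submodule F (Matrix (Idx k t) (Idx k t) F)} {l : Fin t}

theorem Inv.sq_ops (hW : S.Inv l W) (h2 : (2 : F) ≠ 0) (u : Fin k → F) {Φ : Matrix (Idx k t) (Idx k t) F}
    (hΦ : Φ ∈ W) :
    fa l (S.nr u) * Φ * fa l (S.nr u) ∈ W ∧ fa l (S.nr u) * Φ - Φ * fa l (S.nr u) ∈ W := by
  have e : ∀ c : F, conjA (fu l (S.trv u c)) Φ = Φ + c • (fa l (S.nr u) * Φ - Φ * fa l (S.nr u)) -
      (c * c) • (fa l (S.nr u) * Φ * fa l (S.nr u)) := fun c => by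
    rw [conjA_apply, fu_val, fu_inv_val, S.trv_inv_val, S.trv_val, map_add, map_sub, map_one, map_smul]
    simp only [add_mul, mul_sub, one_mul, mul_one, smul_mul_assoc, mul_smul_comm]
    module
  set A := fa l (S.nr u) * Φ * fa l (S.nr u)
  set B := fa l (S.nr u) * Φ - Φ * fa l (S.nr u)
  have h1 : Φ + (1 : F) • B - ((1 : F) * 1) • A ∈ W := e 1 ▸ hW _ (S.iso_trv u 1) _ hΦ
  have h3 : Φ + (-1 : F) • B - ((-1 : F) * -1) • A ∈ W := e (-1) ▸ hW _ (S.iso_trv u (-1)) _ hΦ
  constructor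
  · have h4 := W.smul_mem (-(2 : F)⁻¹) (W.sub_mem (W.sub_mem (W.add_mem h1 h3) hΦ) hΦ)
    have e' : (-(2 : F)⁻¹) • (Φ + (1 : F) • B - ((1 : F) * 1) • A + (Φ + (-1 : F) • B - ((-1 : F) * -1) • A) - Φ - Φ) =
        ((2 : F)⁻¹ * 2) • A := by module
    rwa [e', inv_mul_cancel₀ h2, one_smul] at h4
  · have h4 := W.smul_mem (2 : F)⁻¹ (W.sub_mem h1 h3)
    have e' : (2 : F)⁻¹ • (Φ + (1 : F) • B - ((1 : F) * 1) • A - (Φ + (-1 : F) • B - ((-1 : F) * -1) • A)) =
        ((2 : F)⁻¹ * 2) • B := by module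
    rwa [e', inv_mul_cancel₀ h2, one_smul] at h4

theorem Inv.step (hW : S.Inv l W) (h2 : (2 : F) ≠ 0) {Φ : Matrix (Idx k t) (Idx k t) F} (hΦ : Φ ∈ W)
    (hn : ¬ Com l Φ) : ∃ N Ψ, S.IsPiece N ∧ Ψ ≠ 0 ∧ Com l Ψ ∧ (∀ l', l' ≠ l → Com l' Φ → Com l' Ψ) ∧
      fa l N * Ψ ∈ W := by
  have hE : ∀ (a : Fin k) (Φ' : Matrix (Idx k t) (Idx k t) F), Φ' ∈ W →
      fa l (sg a (S.π a)) * comp l Φ' (S.π a) a ∈ W := fun a Φ' hΦ' => by
    have h := (hW.sq_ops h2 (Pi.single a 1) hΦ').1
    rw [S.nr_single, map_smul, smul_mul_assoc, smul_mul_smul_comm, S.sign, one_smul] at h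
    rwa [sg_comp]
  have hcom : ∀ (x : GL (Fin k) F) (l' : Fin t), l' ≠ l → Com l' Φ → Com l' (conjA (fu l x) Φ) :=
    fun x l' hl' h => (acts_fu_ne hl' x).com h
  by_cases h1 : ∃ u, fa l (S.nr u) * Φ * fa l (S.nr u) ≠ 0
  · obtain ⟨u, hu⟩ := h1
    have hu0 : u ≠ 0 := by rintro rfl; simp [nr] at hu
    obtain ⟨a⟩ : Nonempty (Fin k) := ⟨(Function.ne_iff.1 hu0).choose⟩
    obtain ⟨x, hx, hxu⟩ := S.exists_move hu0 (w := Pi.single a 1) (by simp)
    have hne : comp l (conjA (fu l x) Φ) (S.π a) a ≠ 0 := fun h0 => hu (by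
      have h3 : conjA (fu l x) (fa l (S.nr u) * Φ * fa l (S.nr u)) = 0 := by
        rw [map_mul, map_mul, acts_fu, S.conjA_nr hx, hxu, S.nr_single, map_smul, smul_mul_assoc, smul_mul_smul_comm,
          S.sign, one_smul, ← sg_comp, h0, mul_zero]
      exact (conjA (fu l x)).injective (h3.trans (map_zero _).symm))
    exact ⟨_, _, Or.inl ⟨a, rfl⟩, hne, comp_com _ _ _ _,
      fun l' hl' h => comp_com_other l _ hl' (hcom x l' hl' h) _ _, hE a _ (hW x hx Φ hΦ)⟩
  push Not at h1
  have hz : ∀ Φ' : Matrix (Idx k t) (Idx k t) F, (∀ u, fa l (S.nr u) * Φ' * fa l (S.nr u) = 0) →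
      (∀ a, comp l Φ' (S.π a) a = 0) ∧
      ∀ a b, comp l Φ' (S.π b) a = (-(S.e a * S.e b)) • comp l Φ' (S.π a) b := by
    intro Φ' h
    have hd : ∀ a, comp l Φ' (S.π a) a = 0 := fun a => by
      have h3 := h (Pi.single a 1)
      rw [S.nr_single, map_smul, smul_mul_assoc, smul_mul_smul_comm, S.sign, one_smul, ← sg_comp] at h3
      exact eq_zero_of_fa_mul (sg_ne a _) (comp_com _ _ _ _) h3
    refine ⟨hd, fun a b => ?_⟩
    rcases eq_or_ne b a with rfl | hba
    · rw [hd, smul_zero]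
    have h3 := congrArg (fun M => fa l (sg a a) * M * fa l (sg (S.π a) a)) (h (Pi.single a 1 + Pi.single b 1))
    have eL : sg a a * S.nr (Pi.single a 1 + Pi.single b 1) = S.e a • sg a (S.π a) + S.e b • sg a (S.π b) := by
      rw [nr, Matrix.mul_vecMulVec, S.dual_add, S.dual_single, S.dual_single]
      have e : (sg a a : Matrix (Fin k) (Fin k) F) *ᵥ (Pi.single a 1 + Pi.single b 1) = Pi.single a 1 := by
        rw [Matrix.single_mulVec]; simp [Ne.symm hba]; rfl
      rw [e, Matrix.vecMulVec_add, Matrix.vecMulVec_smul, Matrix.vecMulVec_smul,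
        ← Matrix.single_eq_single_vecMulVec_single, ← Matrix.single_eq_single_vecMulVec_single]
    have eR : S.nr (Pi.single a 1 + Pi.single b 1) * sg (S.π a) a = S.e a • (sg a a + sg b a) := by
      rw [nr, Matrix.vecMulVec_mul, S.dual_add, S.dual_single, S.dual_single]
      have hne : S.π b ≠ S.π a := fun e => hba (S.π_inj e)
      have e : (S.e a • Pi.single (S.π a) (1 : F) + S.e b • Pi.single (S.π b) 1) ᵥ* sg (S.π a) a =
          S.e a • Pi.single a 1 := by
        ext z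
        simp [Matrix.vecMul, dotProduct, Matrix.single_apply, Pi.single_apply, ite_and, hne, hne.symm, eq_comm]
      rw [e, Matrix.vecMulVec_smul, Matrix.add_vecMulVec,
        ← Matrix.single_eq_single_vecMulVec_single, ← Matrix.single_eq_single_vecMulVec_single]
    simp only [mul_zero, zero_mul] at h3
    rw [← mul_assoc, ← mul_assoc, ← map_mul, mul_assoc _ (fa l (S.nr _)), ← map_mul, eL, eR, map_smul, map_add,
      map_add, map_smul, map_smul] at h3
    simp only [add_mul, mul_smul_comm, smul_mul_assoc, mul_add, ← sg_comp, hd, mul_zero, smul_zero, zero_add,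
      add_zero] at h3
    rw [smul_eq_zero, or_iff_right (S.e_ne a), ← mul_smul_comm, ← mul_smul_comm, ← mul_add] at h3
    have h4 := eq_zero_of_fa_mul (sg_ne a a) (((comp_com _ _ _ _).smul _).add ((comp_com _ _ _ _).smul _)) h3
    rw [add_eq_zero_iff_eq_neg'] at h4
    have h5 := congrArg (S.e b • ·) h4
    simp only [smul_smul, S.sign, one_smul, smul_neg] at h5
    rw [neg_smul, mul_comm (S.e a), h5, neg_neg]
  by_cases h3 : ∃ x : GL (Fin k) F, S.Iso x ∧ ∃ a b, b ≠ a ∧ b ≠ S.π a ∧ comp l (conjA (fu l x) Φ) (S.π a) b ≠ 0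
  · obtain ⟨x, hx, a, b, hba, hba', hne⟩ := h3
    set Φ' := conjA (fu l x) Φ with hΦ'
    have hz' : ∀ u, fa l (S.nr u) * Φ' * fa l (S.nr u) = 0 := fun u => by
      have h4 := congrArg (conjA (fu l x)) (h1 (((x⁻¹ : GL (Fin k) F).val) *ᵥ u))
      rwa [map_mul, map_mul, acts_fu, S.conjA_nr hx, Matrix.mulVec_mulVec, Units.mul_inv, Matrix.one_mulVec,
        map_zero] at h4
    have hrel := (hz Φ' hz').2 a b
    have h4 := (hW.sq_ops h2 (Pi.single a 1) (hW.sq_ops h2 (Pi.single b 1) (hW x hx Φ hΦ)).2).2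
    have g1 : sg a (S.π a) * sg b (S.π b) = (0 : Matrix (Fin k) (Fin k) F) := sg_mul_ne _ _ (Ne.symm hba')
    have g2 : sg b (S.π b) * sg a (S.π a) = (0 : Matrix (Fin k) (Fin k) F) :=
      sg_mul_ne _ _ (fun e => hba' (by rw [← e, S.invol]))
    have e : fa l (sg a (S.π a)) * (fa l (sg b (S.π b)) * Φ' - Φ' * fa l (sg b (S.π b))) -
        (fa l (sg b (S.π b)) * Φ' - Φ' * fa l (sg b (S.π b))) * fa l (sg a (S.π a)) =
        -(fa l (sg a (S.π b)) * comp l Φ' (S.π a) b + fa l (sg b (S.π a)) * comp l Φ' (S.π b) a) := by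
      simp only [mul_sub, sub_mul, ← mul_assoc, ← map_mul, g1, map_zero, zero_mul, zero_sub]
      simp only [mul_assoc, ← map_mul, g2, map_zero, mul_zero, sub_zero]
      simp only [← mul_assoc, ← sg_comp]
      abel
    rw [S.nr_single, S.nr_single, map_smul, map_smul] at h4
    simp only [mul_smul_comm, smul_mul_assoc, ← smul_sub] at h4
    rw [smul_comm (S.e b) (S.e a), ← smul_sub, ← smul_sub] at h4
    rw [← hΦ', e, smul_smul, hrel] at h4
    set Ψ := comp l Φ' (S.π a) b
    have h5 := W.smul_mem (-(S.e a * S.e b)) h4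
    rw [smul_smul, smul_neg, ← neg_smul, neg_mul, neg_neg,
      show S.e a * S.e b * (S.e a * S.e b) = 1 by linear_combination (S.e b * S.e b) * S.sign a + S.sign b,
      one_smul, mul_smul_comm, ← smul_mul_assoc, ← add_mul, ← map_smul, ← map_add] at h5
    refine ⟨_, Ψ, Or.inr ⟨a, S.π b, fun e => hba' (by rw [← e, S.invol]), fun e => hba (S.π_inj e), rfl⟩, hne,
      comp_com _ _ _ _, fun l' hl' h => comp_com_other l _ hl' (hcom x l' hl' h) _ _, ?_⟩
    rwa [S.ad_sg, S.invol, S.anti, mul_neg]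
  push Not at h3
  exfalso
  have hall : ∀ x : GL (Fin k) F, S.Iso x → ∀ p q, q ≠ p → comp l (conjA (fu l x) Φ) p q = 0 := by
    intro x hx p q hpq
    rcases eq_or_ne q (S.π p) with rfl | hq
    · have hz' : ∀ u, fa l (S.nr u) * conjA (fu l x) Φ * fa l (S.nr u) = 0 := fun u => by
        have h4 := congrArg (conjA (fu l x)) (h1 (((x⁻¹ : GL (Fin k) F).val) *ᵥ u))
        rwa [map_mul, map_mul, acts_fu, S.conjA_nr hx, Matrix.mulVec_mulVec, Units.mul_inv, Matrix.one_mulVec,
          map_zero] at h4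
      have h4 := (hz _ hz').1 (S.π p)
      rwa [S.invol] at h4
    · have h4 := h3 x hx (S.π p) q hq (by rwa [S.invol])
      rwa [S.invol] at h4
  have hΦd : Φ = ∑ p, fa l (sg p p) * comp l Φ p p := by
    have h0 := hall 1 (Iso.one S)
    simp only [map_one, conjA_one] at h0
    conv_lhs => rw [← sum_comp l Φ]
    refine Finset.sum_congr rfl fun p _ => ?_
    rw [Finset.sum_eq_single p (fun q _ hq => by rw [h0 p q hq, mul_zero]) (fun h => absurd (Finset.mem_univ _) h)]
  have heq : ∀ a b : Fin k, comp l Φ a a = comp l Φ b b := by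
    intro a b
    rcases eq_or_ne a b with rfl | hab
    · rfl
    obtain ⟨x, hx, X, hxv, hxi, hXab, hXrow, hXd⟩ : ∃ x : GL (Fin k) F, S.Iso x ∧ ∃ X : Matrix (Fin k) (Fin k) F,
        x.val = 1 + X ∧ (x⁻¹).val = 1 - X ∧ X a b = 1 ∧ (∀ z, z ≠ b → X a z = 0) ∧ ∀ p, X p p = 0 := by
      rcases eq_or_ne b (S.π a) with rfl | hb
      · refine ⟨S.trv (Pi.single a 1) (S.e a), S.iso_trv _ _, sg a (S.π a), ?_, ?_, by simp,
          fun z hz => Matrix.single_apply_of_ne _ _ _ _ _ (fun e => hz e.2.symm), fun p => Matrix.single_apply_of_ne _ _ _ _ _ (fun e => hab (e.1.trans e.2.symm))⟩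
        · rw [S.trv_val, S.nr_single, smul_smul, S.sign, one_smul]
        · rw [S.trv_inv_val, S.nr_single, smul_smul, S.sign, one_smul]
      set X : Matrix (Fin k) (Fin k) F := sg a b - S.ad (sg a b) with hX
      have hXX : X * X = 0 := by
        rw [hX, S.ad_sg]
        simp only [sub_mul, mul_sub, smul_mul_assoc, mul_smul_comm]
        rw [sg_mul_ne _ _ hab.symm, sg_mul_ne _ _ (fun e => S.nofix b e.symm), sg_mul_ne _ _ (S.nofix a),
          sg_mul_ne _ _ (fun e => hab (S.π_inj e))]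
        simp
      have hadd : S.ad (1 + X) = 1 - X := by
        rw [S.ad_add, S.ad_one, hX, S.ad_sub, S.ad_ad, sub_eq_add_neg (1 : Matrix (Fin k) (Fin k) F), neg_sub]
      have hiso : S.ad (1 + X) * (1 + X) = 1 := by
        rw [hadd, show (1 - X) * (1 + X) = 1 - X * X by noncomm_ring, hXX, sub_zero]
      refine ⟨⟨1 + X, S.ad (1 + X), mul_eq_one_comm.1 hiso, hiso⟩, hiso, X, rfl, hadd, ?_, fun z hz => ?_, fun p => ?_⟩
      · rw [hX, S.ad_sg]
        have : ¬ (S.π b = a ∧ S.π a = b) := fun e => hb e.2.symm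
        simp [Matrix.single_apply, this]
      · rw [hX, S.ad_sg]
        have h5 : ¬ (a = a ∧ b = z) := fun e => hz e.2.symm
        have h6 : ¬ (S.π b = a ∧ S.π a = z) := fun e => hb (by rw [← e.1, S.invol])
        simp [Matrix.single_apply, h5, h6, Ne.symm hz]
      · rw [hX, S.ad_sg]
        have h5 : ¬ (a = p ∧ b = p) := fun e => hab (e.1.trans e.2.symm)
        have h6 : ¬ (S.π b = p ∧ S.π a = p) := fun e => hab (S.π_inj (e.2.trans e.1.symm))
        simp [Matrix.single_apply, h5, h6]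
    have h4 := hall x hx a b (Ne.symm hab)
    rw [hΦd, map_sum] at h4
    have hax : ∀ X, conjA (fu l x) (fa (t := t) l X) = fa l (conjA x X) := acts_fu l x
    simp only [map_mul, hax, conjA_fu_com (comp_com l Φ _ _)] at h4
    rw [comp_sum] at h4
    simp only [comp_fa_mul (comp_com l Φ _ _)] at h4
    have hc : ∀ p, conjA x (sg p p) a b = (if p = b then 1 else 0) - (if p = a then 1 else 0) := fun p => by
      rw [conjA_apply, hxv, hxi]
      simp only [add_mul, mul_sub, one_mul, mul_one, Matrix.add_apply, Matrix.sub_apply]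
      have e1 : (X * sg p p : Matrix (Fin k) (Fin k) F) a b = if p = b then 1 else 0 := by
        by_cases h : p = b
        · subst h; rw [if_pos rfl, Matrix.mul_single_apply_same, mul_one, hXab]
        · rw [if_neg h, Matrix.mul_single_apply_of_ne _ _ _ _ _ (Ne.symm h)]
      have e2 : (sg p p * X : Matrix (Fin k) (Fin k) F) a b = if p = a then 1 else 0 := by
        by_cases h : p = a
        · subst h; rw [if_pos rfl, Matrix.single_mul_apply_same, one_mul, hXab]
        · rw [if_neg h, Matrix.single_mul_apply_of_ne _ _ _ _ _ (Ne.symm h)]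
      have e3 : (X * sg p p * X : Matrix (Fin k) (Fin k) F) a b = 0 := by
        rw [Matrix.mul_assoc, Matrix.mul_apply]
        refine Finset.sum_eq_zero fun z _ => ?_
        by_cases h : z = p
        · subst h
          rw [Matrix.single_mul_apply_same, one_mul]
          rcases eq_or_ne z b with rfl | hzb
          · rw [hXd, mul_zero]
          · rw [hXrow z hzb, zero_mul]
        · rw [Matrix.single_mul_apply_of_ne _ _ _ _ _ h, mul_zero]
      have e4 : (sg p p : Matrix (Fin k) (Fin k) F) a b = 0 :=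
        Matrix.single_apply_of_ne _ _ _ _ _ fun e => hab (e.1.symm.trans e.2)
      rw [e1, e2, e3, e4]
      ring
    simp only [hc, sub_smul, ite_smul, one_smul, zero_smul, Finset.sum_sub_distrib, Finset.sum_ite_eq',
      Finset.mem_univ, if_true] at h4
    exact (sub_eq_zero.1 h4).symm
  obtain ⟨a0⟩ : Nonempty (Fin k) := by
    by_contra hc
    haveI : IsEmpty (Idx k t) := ⟨fun x => hc ⟨x l⟩⟩
    exact hn fun X => Subsingleton.elim (α := Matrix (Idx k t) (Idx k t) F) _ _
  refine hn ?_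
  rw [hΦd, Finset.sum_congr rfl (fun p _ => by rw [heq p a0]), ← Finset.sum_mul, ← map_sum, sum_sg, map_one, one_mul]
  exact comp_com _ _ _ _

/-- An invariant space with a non-zero element contains a product of pieces. -/
theorem exists_pure (h2 : (2 : F) ≠ 0) (hk : 0 < k) : ∀ (D : Finset (Fin t))
    (W : Submodule F (Matrix (Idx k t) (Idx k t) F)), (∀ l ∈ D, ∀ Φ ∈ W, Com l Φ) →
    (∀ l, l ∉ D → S.Inv l W) → (∃ Φ ∈ W, Φ ≠ 0) →
    ∃ X : Fin t → Matrix (Fin k) (Fin k) F,
      (∀ l, X l = 1 ∨ S.IsPiece (X l)) ∧ (∀ l ∈ D, X l = 1) ∧ pureTens X ∈ W := by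
  intro D
  induction hn : Dᶜ.card using Nat.strong_induction_on generalizing D with
  | _ n ih =>
  intro W hcom hinv ⟨Φ, hΦ, hΦ0⟩
  by_cases hall : ∀ l, Com l Φ
  · obtain ⟨c, hc⟩ := scalar_of_com hk hall
    refine ⟨fun _ => 1, fun _ => Or.inl rfl, fun _ _ => rfl, ?_⟩
    have hc0 : c ≠ 0 := fun h => hΦ0 (by rw [hc, h, zero_smul])
    have := W.smul_mem c⁻¹ hΦ
    rwa [hc, smul_smul, inv_mul_cancel₀ hc0, one_smul, ← pureTens_one] at this
  push Not at hall
  obtain ⟨l, hl⟩ := hall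
  have hlD : l ∉ D := fun h => hl (hcom l h Φ hΦ)
  obtain ⟨N, Ψ, hN, hΨ0, hΨl, hΨo, hΨW⟩ := (hinv l hlD).step h2 hΦ hl
  let W' : Submodule F (Matrix (Idx k t) (Idx k t) F) :=
    { carrier := {Ψ | (∀ l' ∈ insert l D, Com l' Ψ) ∧ fa l N * Ψ ∈ W}
      add_mem' := fun hx hy => ⟨fun l' h => (hx.1 l' h).add (hy.1 l' h), by
        rw [mul_add]; exact W.add_mem hx.2 hy.2⟩
      zero_mem' := ⟨fun l' _ X => Commute.zero_right _, by rw [mul_zero]; exact W.zero_mem⟩
      smul_mem' := fun c x hx => ⟨fun l' h => (hx.1 l' h).smul c, by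
        rw [mul_smul_comm]; exact W.smul_mem c hx.2⟩ }
  have hlt : (insert l D)ᶜ.card < n := by
    rw [← hn, Finset.compl_insert]
    exact Finset.card_erase_lt_of_mem (Finset.mem_compl.2 hlD)
  obtain ⟨X, hX, hXD, hXW⟩ := ih _ hlt (insert l D) rfl W' (fun l' hl' x hx => hx.1 l' hl') (fun l' hl' a ha x hx => by
    have hne : l' ≠ l := fun e => hl' (e ▸ Finset.mem_insert_self l D)
    refine ⟨fun l'' h'' => (acts_fu_ne (fun e => hl' (by rw [← e]; exact h'')) a).com (hx.1 l'' h''), ?_⟩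
    have h := hinv l' (fun h => hl' (Finset.mem_insert_of_mem h)) a ha _ hx.2
    rwa [map_mul, acts_fu_ne hne.symm a, conjA_one] at h) ⟨Ψ, ⟨fun l' hl' => by
      rcases Finset.mem_insert.1 hl' with rfl | h'
      · exact hΨl
      · exact hΨo l' (fun e => hlD (e ▸ h')) (hcom l' h' Φ hΦ), hΨW⟩, hΨ0⟩
  refine ⟨Function.update X l N, fun l' => ?_, fun l' hl' => ?_, ?_⟩
  · rcases eq_or_ne l' l with rfl | h
    · exact Or.inr (by rw [Function.update_self]; exact hN)
    · rw [Function.update_of_ne h]; exact hX l'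
  · rw [Function.update_of_ne (fun e : l' = l => hlD (e ▸ hl'))]
    exact hXD l' (Finset.mem_insert_of_mem hl')
  · have e : fa l N * pureTens X = pureTens (Function.update X l N) := by
      rw [fa_apply, powStd, pureTens_mul]
      congr 1
      funext j
      rcases eq_or_ne j l with rfl | hj
      · simp [hXD j (Finset.mem_insert_self j D)]
      · simp [hj]
    exact e ▸ hXW.2

/-- An invariant space with a non-scalar element contains a non-trivial product of pieces. -/
theorem exists_pure_ne (h2 : (2 : F) ≠ 0) (hk : 0 < k) {i : Fin t} (hcom : ∀ Φ ∈ W, Com i Φ)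
    (hinv : ∀ l, l ≠ i → S.Inv l W) {Φ : Matrix (Idx k t) (Idx k t) F} (hΦ : Φ ∈ W) (hns : ∀ c : F, Φ ≠ c • 1) :
    ∃ X : Fin t → Matrix (Fin k) (Fin k) F,
      (∀ l, X l = 1 ∨ S.IsPiece (X l)) ∧ X i = 1 ∧ (∃ l, l ≠ i ∧ S.IsPiece (X l)) ∧ pureTens X ∈ W := by
  obtain ⟨l, hl⟩ : ∃ l, ¬ Com l Φ := by
    by_contra hc
    push Not at hc
    obtain ⟨c, hc⟩ := scalar_of_com hk hc
    exact hns c hc
  have hli : l ≠ i := fun e => hl (e ▸ hcom Φ hΦ)
  obtain ⟨N, Ψ, hN, hΨ0, hΨl, hΨo, hΨW⟩ := (hinv l hli).step h2 hΦ hl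
  let W' : Submodule F (Matrix (Idx k t) (Idx k t) F) :=
    { carrier := {Ψ | (∀ l' ∈ ({i, l} : Finset (Fin t)), Com l' Ψ) ∧ fa l N * Ψ ∈ W}
      add_mem' := fun hx hy => ⟨fun l' h => (hx.1 l' h).add (hy.1 l' h), by
        rw [mul_add]; exact W.add_mem hx.2 hy.2⟩
      zero_mem' := ⟨fun l' _ X => Commute.zero_right _, by rw [mul_zero]; exact W.zero_mem⟩
      smul_mem' := fun c x hx => ⟨fun l' h => (hx.1 l' h).smul c, by
        rw [mul_smul_comm]; exact W.smul_mem c hx.2⟩ }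
  obtain ⟨X, hX, hXD, hXW⟩ := exists_pure (S := S) h2 hk {i, l} W' (fun l' hl' x hx => hx.1 l' hl')
    (fun l' hl' a ha x hx => by
      simp only [Finset.mem_insert, Finset.mem_singleton, not_or] at hl'
      refine ⟨fun l'' h'' => (acts_fu_ne ?_ a).com (hx.1 l'' h''), ?_⟩
      · simp only [Finset.mem_insert, Finset.mem_singleton] at h''
        rcases h'' with rfl | rfl
        · exact Ne.symm hl'.1
        · exact Ne.symm hl'.2
      · have h := hinv l' hl'.1 a ha _ hx.2
        rwa [map_mul, acts_fu_ne (Ne.symm hl'.2) a, conjA_one] at h) ⟨Ψ, ⟨fun l' hl' => by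
      simp only [Finset.mem_insert, Finset.mem_singleton] at hl'
      rcases hl' with rfl | rfl
      · exact hΨo l' hli.symm (hcom Φ hΦ)
      · exact hΨl, hΨW⟩, hΨ0⟩
  refine ⟨Function.update X l N, fun l' => ?_, ?_, ⟨l, hli, by rw [Function.update_self]; exact hN⟩, ?_⟩
  · rcases eq_or_ne l' l with rfl | h
    · exact Or.inr (by rw [Function.update_self]; exact hN)
    · rw [Function.update_of_ne h]; exact hX l'
  · rw [Function.update_of_ne hli.symm]
    exact hXD i (by simp)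
  · have e : fa l N * pureTens X = pureTens (Function.update X l N) := by
      rw [fa_apply, powStd, pureTens_mul]
      congr 1
      funext j
      rcases eq_or_ne j l with rfl | hj
      · simp [hXD j (by simp)]
      · simp [hj]
    exact e ▸ hXW.2

end Cfsg.Lib.Linear.SpWreath.Std
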