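import Cfsg.Agent.Lib.Linear.SpWreath.Extract

/-!
# The radical of a vector in an overgroup without non-scalar coefficients

Short coefficients are then scalars, and the elements of the radical of the slab of a vector of one
factor lie in that factor.
-/

set_option autoImplicit false
set_option linter.unusedSectionVars false

namespace Cfsg.Lib.Linear.SpWreath.Std

open Cfsg.Geo Cfsg.Lib.Linear.AschGen Cfsg.Lib.Linear.TWreath
open scoped Matrix MatrixGroups

variable {F : Type*} [Field F] {k t : ℕ} {S : Std k F} {G : Subgroup (GL (Idx k t) F)}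

theorem conjA_ad {a : GL (Fin k) F} (h : S.Iso a) (X : Matrix (Fin k) (Fin k) F) :
    S.ad (conjA a X) = conjA a (S.ad X) := by
  rw [conjA_apply, conjA_apply, S.ad_mul, S.ad_mul, Iso.inv_val S h, S.ad_ad, mul_assoc]

theorem dsg_prod (ρ : Equiv.Perm (Fin k)) (a b : Fin k) :
    S.dsg ρ a * S.dsg ρ b = 1 ∨ S.dsg ρ a * S.dsg ρ b = -1 :=
  mul_self_eq_one_iff.1 (by linear_combination (S.dsg ρ b * S.dsg ρ b) * S.dsg_sq ρ a + S.dsg_sq ρ b)

theorem piece_d {a b : Fin k} : S.ad (sg a b + S.ad (sg a b)) = sg a b + S.ad (sg a b) := by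
  rw [S.ad_add, S.ad_ad, add_comm]

/-- Each piece has an opposite one, the products being sums of diagonal idempotents up to sign. -/
theorem IsPiece.opposite {N : Matrix (Fin k) (Fin k) F} (hN : S.IsPiece N) :
    ∃ (x : GL (Fin k) F) (s : F) (a : Fin k), S.Iso x ∧ s ≠ 0 ∧
      (∃ d : Fin k → F, N * conjA x N = Matrix.diagonal d ∧ d a = s) ∧
      ∀ a', N = sg a' (S.π a') → (∃ d : Fin k → F, N * conjA x N = Matrix.diagonal d ∧ ∀ r, r ≠ a' → d r = 0) ∧
        ∃ d : Fin k → F, conjA x N * N = Matrix.diagonal d ∧ d a = 0 ∧ ∀ r, r ≠ S.π a' → d r = 0 := by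
  rcases hN with ⟨a, rfl⟩ | ⟨a, b, h1, h2, rfl⟩
  · have hρ : ∀ x, Equiv.swap a (S.π a) (S.π x) = S.π (Equiv.swap a (S.π a) x) := by
      intro x
      rcases eq_or_ne x a with rfl | hx
      · rw [Equiv.swap_apply_left, Equiv.swap_apply_right, S.invol]
      rcases eq_or_ne x (S.π a) with rfl | hx'
      · rw [Equiv.swap_apply_right, S.invol, Equiv.swap_apply_left]
      rw [Equiv.swap_apply_of_ne_of_ne hx hx', Equiv.swap_apply_of_ne_of_ne (fun e => hx' (by rw [← e, S.invol]))
        (fun e => hx (S.π_inj e))]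
    set x := S.mon _ hρ
    set s := S.dsg (Equiv.swap a (S.π a)) a * S.dsg (Equiv.swap a (S.π a)) (S.π a) with hs
    have hx : conjA x (sg a (S.π a)) = s • (sg (S.π a) a : Matrix (Fin k) (Fin k) F) := by
      rw [S.conjA_mon, Equiv.swap_apply_left, Equiv.swap_apply_right]
    have hs0 : s ≠ 0 := by rcases dsg_prod (S := S) (Equiv.swap a (S.π a)) a (S.π a) with e | e <;> rw [hs, e] <;> simp
    have e1 : sg a (S.π a) * conjA x (sg a (S.π a)) = Matrix.diagonal (Pi.single a s) := by
      rw [hx, mul_smul_comm, sg_mul, Matrix.diagonal_single, Matrix.smul_single, smul_eq_mul, mul_one]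
    have e2 : conjA x (sg a (S.π a)) * sg a (S.π a) = Matrix.diagonal (Pi.single (S.π a) s) := by
      rw [hx, smul_mul_assoc, sg_mul, Matrix.diagonal_single, Matrix.smul_single, smul_eq_mul, mul_one]
    refine ⟨x, s, a, S.iso_mon _ hρ, hs0, ⟨_, e1, by simp⟩, fun a' ha' => ?_⟩
    have : a = a' := by
      have h := congrFun (congrFun ha' a) (S.π a)
      simp only [Matrix.single_apply, and_self, if_true] at h
      by_contra hne
      rw [if_neg (fun e => hne e.1.symm)] at h
      exact one_ne_zero h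
    subst this
    exact ⟨⟨_, e1, fun r hr => by simp [hr]⟩, _, e2, by simp [(S.nofix a).symm], fun r hr => by simp [hr]⟩
  · obtain ⟨ρ, hρ, ha, hb⟩ := S.exists_rho h1 h2 (a' := b) (b' := a) h1.symm (fun e => h2 (by rw [e, S.invol]))
    set x := S.mon ρ hρ
    set s := S.dsg ρ a * S.dsg ρ b with hs
    have hx : conjA x (sg a b + S.ad (sg a b)) = s • (sg b a + S.ad (sg b a) : Matrix (Fin k) (Fin k) F) := by
      rw [map_add, ← conjA_ad (S.iso_mon ρ hρ), S.conjA_mon, ha, hb, S.ad_smul, smul_add]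
    have hs0 : s ≠ 0 := by rcases dsg_prod (S := S) ρ a b with e | e <;> rw [hs, e] <;> simp
    have e1 : (sg a b + S.ad (sg a b)) * conjA x (sg a b + S.ad (sg a b)) =
        Matrix.diagonal (s • (Pi.single a 1 + Pi.single (S.π b) 1)) := by
      rw [hx, mul_smul_comm, S.ad_sg, S.ad_sg, Matrix.diagonal_smul,
        (show ∀ u v : Fin k → F, Matrix.diagonal (u + v) = Matrix.diagonal u + Matrix.diagonal v from fun u v => (Matrix.diagonal_add u v).symm), Matrix.diagonal_single,
        Matrix.diagonal_single]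
      congr 1
      simp only [add_mul, mul_add, smul_mul_assoc, mul_smul_comm, smul_smul, sg_mul]
      rw [sg_mul_ne _ _ (Ne.symm h2), sg_mul_ne _ _ h2, smul_add, smul_smul,
        show S.e b * S.e a * (S.e a * S.e b) = 1 by linear_combination (S.e b * S.e b) * S.sign a + S.sign b,
        smul_zero, smul_zero, add_zero, zero_add, one_smul]
    refine ⟨x, s, a, S.iso_mon _ hρ, hs0, ⟨_, e1, by
      have : a ≠ S.π b := fun e => h2 (by rw [e, S.invol])
      simp [this, Pi.single_eq_of_ne]⟩, fun a' ha' => ?_⟩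
    exfalso
    have h := congrFun (congrFun ha' a) b
    rw [S.ad_sg] at h
    have h5 : ¬ (S.π b = a ∧ S.π a = b) := fun e => h2 e.2.symm
    by_cases h6 : a' = a ∧ S.π a' = b
    · exact h2 (by rw [← h6.1, h6.2])
    · simp [Matrix.single_apply, h5, h6] at h

theorem pureTens_diagonal (d : Fin t → Fin k → F) :
    pureTens (fun l => Matrix.diagonal (d l)) = Matrix.diagonal fun x => ∏ l, d l (x l) := by
  ext x y
  simp only [pureTens, Matrix.of_apply]
  by_cases h : x = y
  · subst h; simp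
  · obtain ⟨l, hl⟩ := Function.ne_iff.1 h
    rw [Matrix.diagonal_apply_ne _ h]
    exact Finset.prod_eq_zero (Finset.mem_univ l) (Matrix.diagonal_apply_ne _ hl)

theorem IsPiece.ne_zero {N : Matrix (Fin k) (Fin k) F} (hN : S.IsPiece N) : N ≠ 0 := by
  obtain ⟨x, s, a, -, hs, ⟨d, hd, hda⟩, -⟩ := hN.opposite
  intro h
  rw [h, zero_mul] at hd
  have := congrFun (congrFun hd a) a
  rw [Matrix.diagonal_apply_eq, hda] at this
  exact hs this.symm

theorem pureTens_ne_zero (hk : 0 < k) {X : Fin t → Matrix (Fin k) (Fin k) F} (h : ∀ l, X l ≠ 0) :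
    pureTens X ≠ 0 := by
  have h' : ∀ l, ∃ p q, X l p q ≠ 0 := fun l => by
    by_contra hc
    push Not at hc
    exact h l (Matrix.ext hc)
  choose p q hpq using h'
  intro h0
  have := congrFun (congrFun h0 p) q
  simp only [pureTens, Matrix.of_apply, Matrix.zero_apply, Finset.prod_eq_zero_iff] at this
  obtain ⟨l, -, hl⟩ := this
  exact hpq l hl

theorem exists_iso_fu (hG : S.SOver G) {x : Fin t → GL (Fin k) F} (hx : ∀ l, S.Iso (x l)) (s : Finset (Fin t)) :
    ∃ g ∈ G, ∀ X : Fin t → Matrix (Fin k) (Fin k) F,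
      conjA g (pureTens X) = pureTens (fun l => if l ∈ s then conjA (x l) (X l) else X l) := by
  classical
  induction s using Finset.induction_on with
  | empty => exact ⟨1, G.one_mem, fun X => by simp [conjA_one]⟩
  | insert i s hi ih =>
    obtain ⟨g, hg, hgX⟩ := ih
    refine ⟨fu i (x i) * g, G.mul_mem (hG.sp i _ (hx i)) hg, fun X => ?_⟩
    rw [conjA_mul, hgX, conjA_apply, fu_val, fu_inv_val, fa_apply, fa_apply, powStd, powStd, pureTens_mul, pureTens_mul]
    congr 1
    funext l
    rcases eq_or_ne l i with rfl | hl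
    · simp [hi, conjA_apply]
    · simp [hl]

/-- Without non-scalar long coefficients the short ones are scalars. -/
theorem Sh.scalar (hG : S.SOver G) (hR : S.NR G) (h2 : (2 : F) ≠ 0) {i : Fin t}
    {Φ : Matrix (Idx k t) (Idx k t) F} (h : S.Sh G i Φ) {a b : Fin k} (h1 : b ≠ a) (h1' : b ≠ S.π a) :
    ∃ c : F, Φ = c • 1 := by
  classical
  have hk : 0 < k := Fin.pos a
  obtain ⟨c, hc⟩ := hR i _ (h.mul_sh hG h2 (sh_scalar hG i 1) h1 h1')
  rw [one_smul, mul_one, S.adT_one, one_mul] at hc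
  let W : Submodule F (Matrix (Idx k t) (Idx k t) F) :=
    { carrier := {Ψ | S.Sh G i Ψ ∧ S.adT Ψ = -Ψ}
      add_mem' := fun hx hy => ⟨hx.1.add hy.1, by rw [S.adT_add, hx.2, hy.2, neg_add]⟩
      zero_mem' := ⟨Sh.zero, by rw [S.adT_zero, neg_zero]⟩
      smul_mem' := fun r x hx => ⟨by
        have := hx.1.mul_lg hG h2 (lg_scalar hG i r) h1 h1'
        rwa [mul_smul_comm, mul_one] at this, by rw [S.adT_smul, hx.2, smul_neg]⟩ }
  set Φ' := Φ - (c / 2) • (1 : Matrix (Idx k t) (Idx k t) F) with hΦ'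
  by_cases h0 : Φ' = 0
  · exact ⟨c / 2, sub_eq_zero.1 h0⟩
  exfalso
  have hW : Φ' ∈ W := by
    refine ⟨?_, ?_⟩
    · rw [hΦ', sub_eq_add_neg]
      exact h.add (sh_scalar hG i _).neg
    · rw [hΦ', S.adT_sub, S.adT_smul, S.adT_one, eq_sub_of_add_eq' hc]
      match_scalars <;> field_simp <;> ring
  obtain ⟨X, hX, hXi, ⟨l1, hl1, hp1⟩, hXW⟩ := exists_pure_ne (W := W) h2 hk (i := i) (fun Ψ hΨ => hΨ.1.1)
    (fun l hl x hx Ψ hΨ => ⟨hΨ.1.conj hG (hG.sp l x hx) (acts_fu_ne hl.symm x), by
      rw [adT_conjA hG (hG.sp l x hx), hΨ.2, map_neg]⟩) hW fun r hr => h0 (by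
    have h3 := hW.2
    rw [hr, S.adT_smul, S.adT_one, ← neg_smul] at h3
    have : (2 : F) • (r • (1 : Matrix (Idx k t) (Idx k t) F)) = 0 := by
      rw [two_smul]; nth_rewrite 1 [h3]; rw [← add_smul, neg_add_cancel, zero_smul]
    rw [hr]; exact (smul_eq_zero.1 this).resolve_left h2)
  have hne : pureTens X ≠ 0 := pureTens_ne_zero hk fun l => by
    rcases hX l with e | e
    · rw [e]
      intro h3
      simpa using congrFun (congrFun h3 a) a
    · exact e.ne_zero
  obtain ⟨l0, a0, hl0⟩ : ∃ l a', X l = sg a' (S.π a') := by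
    by_contra hc'
    push Not at hc'
    refine hne ?_
    have h3 := hXW.2
    rw [S.adT_pureTens, show (fun l => S.ad (X l)) = X from funext fun l => by
      rcases hX l with e | ⟨a', ha'⟩ | ⟨p, q, -, -, e⟩
      · rw [e, S.ad_one]
      · exact absurd ha' (hc' l a')
      · rw [e, piece_d]] at h3
    have h4 : (2 : F) • pureTens X = 0 := by rw [two_smul]; nth_rewrite 1 [h3]; rw [neg_add_cancel]
    exact (smul_eq_zero.1 h4).resolve_left h2
  have hP : ∀ l, ∃ (x : GL (Fin k) F) (s : F) (p : Fin k) (d d' : Fin k → F), S.Iso x ∧ s ≠ 0 ∧ d p = s ∧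
      (X l = 1 ∨ X l * conjA x (X l) = Matrix.diagonal d) ∧ (X l = 1 → x = 1 ∧ d = fun _ => 1) ∧
      (X l = sg a0 (S.π a0) → conjA x (X l) * X l = Matrix.diagonal d' ∧ d' p = 0 ∧
        (∀ r, r ≠ a0 → d r = 0) ∧ ∀ r, r ≠ S.π a0 → d' r = 0) := by
    intro l
    rcases hX l with e | e
    · refine ⟨1, 1, a, fun _ => 1, fun _ => 1, Iso.one S, one_ne_zero, rfl, Or.inl e, fun _ => ⟨rfl, rfl⟩, fun h3 => ?_⟩
      rw [e] at h3
      have := congrFun (congrFun h3 a0) a0
      simp [(S.nofix a0)] at this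
    · obtain ⟨x, s, p, hx, hs, ⟨d, hd, hdp⟩, hlong⟩ := e.opposite
      by_cases hl : X l = sg a0 (S.π a0)
      · obtain ⟨⟨d1, hd1, hd1'⟩, d', hd', hd'p, hd'r⟩ := hlong a0 hl
        have hdd : d = d1 := by
          have := hd.symm.trans hd1
          exact Matrix.diagonal_injective this
        refine ⟨x, s, p, d, d', hx, hs, hdp, Or.inr hd, fun h3 => ?_, fun _ => ⟨hd', hd'p, hdd ▸ hd1', hd'r⟩⟩
        rw [hl] at h3
        have := congrFun (congrFun h3 a0) a0
        simp [(S.nofix a0)] at this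
      · refine ⟨x, s, p, d, d, hx, hs, hdp, Or.inr hd, fun h3 => ?_, fun h3 => absurd h3 hl⟩
        exfalso
        rcases e with ⟨a', ha'⟩ | ⟨p', q', hq1, -, ha'⟩
        · have := congrFun (congrFun (h3.symm.trans ha') a') a'
          simp [S.nofix a'] at this
        · have := congrFun (congrFun (h3.symm.trans ha') q') q'
          rw [S.ad_sg] at this
          have h5 : ¬ (p' = q' ∧ q' = q') := fun e => hq1 e.1.symm
          have h6 : ¬ (S.π q' = q' ∧ S.π p' = q') := fun e => S.nofix q' e.1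
          simp [Matrix.single_apply, h6] at this
          exact hq1 this.symm
  choose x s p d d' hx hs hdp hd hd1 hlong using hP
  obtain ⟨g, hg, hgX⟩ := exists_iso_fu hG hx ((Finset.univ : Finset (Fin t)).erase i)
  have hgi : conjA g (pureTens X) = pureTens fun l => conjA (x l) (X l) := by
    rw [hgX]
    congr 1
    funext l
    rcases eq_or_ne l i with rfl | hl
    · simp [hXi]
    · simp [hl]
  have hT' : S.Sh G i (conjA g (pureTens X)) ∧ S.adT (conjA g (pureTens X)) = -conjA g (pureTens X) := by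
    refine ⟨⟨?_, fun p' q' hp' hq' => ?_⟩, by rw [adT_conjA hG hg, hXW.2, map_neg]⟩
    · rw [hgi]
      intro Y
      show _ * _ = _ * _
      rw [fa_apply, powStd, pureTens_mul, pureTens_mul]
      congr 1
      funext l
      rcases eq_or_ne l i with rfl | hl <;> simp [*]
    · have hga : Acts g i i 1 := fun Y => by
        rw [conjA_one, fa_apply, powStd, hgX]
        congr 1
        funext l
        rcases eq_or_ne l i with rfl | hl
        · simp
        · simp [hl]
      have := (hXW.1.2 p' q' hp' hq').conj hG hg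
      rwa [map_add, map_one, conj_shm hG hg hga, conjA_one] at this
  obtain ⟨r, hr⟩ := hR i _ (hXW.1.mul_sh hG h2 hT'.1 h1 h1')
  rw [hT'.2, hXW.2, neg_mul_neg, hgi, pureTens_mul, pureTens_mul] at hr
  have hdl : ∀ l, X l * conjA (x l) (X l) = Matrix.diagonal (d l) := fun l => by
    rcases hd l with e | e
    · obtain ⟨hx1, hd2⟩ := hd1 l e
      rw [e, hd2, map_one, mul_one, Matrix.diagonal_one]
    · exact e
  rw [show (fun l => X l * conjA (x l) (X l)) = fun l => Matrix.diagonal (d l) from funext hdl,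
    pureTens_diagonal] at hr
  obtain ⟨hd'0, hd'p, hdr, hd'r⟩ := hlong l0 hl0
  have hval : ∀ y : Idx k t, (d' l0 (y l0) = 0) →
      (pureTens fun l => conjA (x l) (X l) * X l) y y = 0 := fun y hy => by
    simp only [pureTens, Matrix.of_apply]
    exact Finset.prod_eq_zero (Finset.mem_univ l0) (by rw [hd'0, Matrix.diagonal_apply_eq, hy])
  have hA := congrFun (congrFun hr p) p
  rw [Matrix.add_apply, Matrix.diagonal_apply_eq, hval p hd'p, add_zero, Matrix.smul_apply, Matrix.one_apply_eq,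
    smul_eq_mul, mul_one] at hA
  obtain ⟨z, hz, hz'⟩ : ∃ z : Fin k, z ≠ a0 ∧ z ≠ S.π a0 := by
    rcases eq_or_ne a a0 with rfl | ha
    · exact ⟨b, h1, h1'⟩
    rcases eq_or_ne a (S.π a0) with rfl | ha'
    · exact ⟨b, fun e => h1' (by rw [e, S.invol]), h1⟩
    exact ⟨a, ha, ha'⟩
  have hB := congrFun (congrFun hr (Function.update p l0 z)) (Function.update p l0 z)
  rw [Matrix.add_apply, Matrix.diagonal_apply_eq, hval _ (by rw [Function.update_self]; exact hd'r z hz'), add_zero,
    Matrix.smul_apply, Matrix.one_apply_eq, smul_eq_mul, mul_one,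
    Finset.prod_eq_zero (Finset.mem_univ l0) (by rw [Function.update_self]; exact hdr z hz)] at hB
  rw [← hB] at hA
  exact (Finset.prod_ne_zero_iff.2 fun l _ => (hdp l).symm ▸ hs l) hA

/-- The elements of the radical of a slab lie in the factor. -/
theorem transl (hG : S.SOver G) (hR : S.NR G) (h2 : (2 : F) ≠ 0) {i : Fin t} (a : Fin k)
    {n : Matrix (Idx k t) (Idx k t) F} (hn : S.InI G (1 + n)) (hl : fa i (sg a (S.π a)) * n = 0)
    (hr : n * fa i (sg a (S.π a)) = 0)
    (hmid : ∀ p q, p ≠ a → p ≠ S.π a → q ≠ a → q ≠ S.π a → fa i (sg p p) * n * fa i (sg q q) = 0) :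
    n ∈ (fa (F := F) (m := k) i).range := by
  classical
  set a' := S.π a with ha'
  set R := (fa (F := F) (m := k) i).range with hRdef
  have haa : a' ≠ a := S.nofix a
  have hrow : ∀ q, comp i n a' q = 0 := fun q => eq_zero_of_fa_mul (sg_ne a a) (comp_com _ _ _ _)
    (by rw [sg_comp, hl, zero_mul])
  have hcol : ∀ p, comp i n p a = 0 := fun p => eq_zero_of_fa_mul (sg_ne a' a') (comp_com _ _ _ _)
    (by rw [sg_comp, mul_assoc, hr, mul_zero])
  have hpq : ∀ p q, p ≠ a → p ≠ a' → q ≠ a → q ≠ a' → comp i n p q = 0 := fun p q p1 p2 q1 q2 =>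
    eq_zero_of_fa_mul (sg_ne p q) (comp_com _ _ _ _) (by rw [sg_comp]; exact hmid p q p1 p2 q1 q2)
  set mid := ((Finset.univ : Finset (Fin k)).erase a).erase a' with hmiddef
  have hmem : ∀ q, q ∈ mid ↔ q ≠ a ∧ q ≠ a' := fun q => by simp [hmiddef, and_comm]
  set M := fun q => comp i n a q with hM
  set M' := fun q => comp i n q a' with hM'
  set Ze := fa i (sg a a') * comp i n a a' with hZe
  set A := ∑ q ∈ mid, (fa i (sg a q) * M q + fa i (sg q a') * M' q) with hA
  have hsplit : n = Ze + A := by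
    conv_lhs => rw [← sum_comp i n]
    have hout : ∀ p, p ≠ a → p ≠ a' → (∑ q, fa i (sg p q) * comp i n p q) = fa i (sg p a') * M' p := fun p p1 p2 =>
      Finset.sum_eq_single a' (fun q _ hq => by
        rcases eq_or_ne q a with rfl | hq'
        · rw [hcol, mul_zero]
        · rw [hpq p q p1 p2 hq' hq, mul_zero]) (fun h => absurd (Finset.mem_univ _) h)
    rw [← Finset.add_sum_erase _ _ (Finset.mem_univ a), ← Finset.add_sum_erase _ _ (Finset.mem_univ a),
      ← Finset.add_sum_erase _ _ (show a' ∈ (Finset.univ : Finset (Fin k)).erase a by simp [haa]),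
      ← Finset.add_sum_erase _ _ (show a' ∈ (Finset.univ : Finset (Fin k)).erase a by simp [haa]), hcol a,
      mul_zero, zero_add, Finset.sum_eq_zero (f := fun q => fa i (sg a' q) * comp i n a' q) (fun q _ => by
        rw [hrow, mul_zero]), zero_add, Finset.sum_congr rfl (fun p hp => hout p ((hmem p).1 hp).1 ((hmem p).1 hp).2),
      hA, Finset.sum_add_distrib, add_assoc]
  have hcomM : ∀ q, Com i (M q) := fun q => comp_com _ _ _ _
  have hcomM' : ∀ q, Com i (M' q) := fun q => comp_com _ _ _ _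
  have hZA : Ze * A = 0 := by
    rw [hA, Finset.mul_sum]
    refine Finset.sum_eq_zero fun q hq => ?_
    rw [hZe, mul_add, fa_sg_ne (comp_com _ _ _ _) haa, fa_sg_ne (comp_com _ _ _ _) ((hmem q).1 hq).2.symm, add_zero]
  have hAZ : A * Ze = 0 := by
    rw [hA, Finset.sum_mul]
    refine Finset.sum_eq_zero fun q hq => ?_
    rw [hZe, add_mul, fa_sg_ne (hcomM q) ((hmem q).1 hq).1, fa_sg_ne (hcomM' q) haa, add_zero]
  have hZZ : Ze * Ze = 0 := fa_sg_ne (comp_com _ _ _ _) haa _
  set Q := ∑ q ∈ mid, M q * M' q with hQ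
  have hAA : A * A = fa i (sg a a') * Q := by
    rw [hA, Finset.sum_mul, hQ, Finset.mul_sum]
    refine Finset.sum_congr rfl fun q hq => ?_
    rw [Finset.mul_sum, Finset.sum_eq_single q (fun r hr hrq => ?_) (fun h => absurd hq h)]
    · rw [add_mul, mul_add, mul_add, fa_sg_ne (hcomM q) ((hmem q).1 hq).1, fa_sg_eq (hcomM q),
        fa_sg_ne (hcomM' q) haa, fa_sg_ne (hcomM' q) ((hmem q).1 hq).2.symm, zero_add, add_zero, add_zero]
    · rw [add_mul, mul_add, mul_add, fa_sg_ne (hcomM q) ((hmem q).1 hq).1, fa_sg_ne (hcomM q) hrq.symm,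
        fa_sg_ne (hcomM' q) haa, fa_sg_ne (hcomM' q) ((hmem r).1 hr).2.symm, add_zero, add_zero]
  let d : Fin k → F := fun x => if x = a ∨ x = a' then 1 else -1
  have hd : ∀ x, d x * d (S.π x) = 1 := fun x => by
    by_cases hx : x = a ∨ x = a'
    · have hx' : S.π x = a ∨ S.π x = a' := by
        rcases hx with rfl | rfl
        · exact Or.inr rfl
        · exact Or.inl (S.invol a)
      simp [d, hx, hx']
    · have hx' : ¬ (S.π x = a ∨ S.π x = a') := by
        rintro (e | e)
        · exact hx (Or.inr (by rw [ha', ← e, S.invol]))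
        · exact hx (Or.inl (S.π_inj e))
      simp [d, hx, hx']
  set D := fu (t := t) i (S.dia d hd)
  have hDG : D ∈ G := hG.sp i _ (iso_dia d hd)
  have da : d a = 1 := if_pos (Or.inl rfl)
  have da' : d a' = 1 := if_pos (Or.inr rfl)
  have dq : ∀ q ∈ mid, d q = -1 ∧ d (S.π q) = -1 := fun q hq => by
    have h := (hmem q).1 hq
    have h' := hd q
    have e : d q = -1 := if_neg (not_or.2 h)
    rw [e] at h'
    exact ⟨e, by linear_combination -h'⟩
  have hflip : ∀ (p q : Fin k) (Θ : Matrix (Idx k t) (Idx k t) F), Com i Θ →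
      conjA D (fa i (sg p q) * Θ) = (d p * d (S.π q)) • (fa i (sg p q) * Θ) := by
    intro p q Θ hΘ
    rw [map_mul, acts_fu, conjA_dia, conjA_fu_com hΘ, map_smul, smul_mul_assoc]
  have hflipZ : ∀ Θ : Matrix (Idx k t) (Idx k t) F, Com i Θ →
      conjA D (fa i (sg a a') * Θ) = fa i (sg a a') * Θ := fun Θ hΘ => by
    rw [hflip _ _ _ hΘ, ha', S.invol, da, one_mul, one_smul]
  have hflipA : conjA D A = -A := by
    rw [hA, map_sum, ← Finset.sum_neg_distrib]
    refine Finset.sum_congr rfl fun q hq => ?_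
    rw [map_add, hflip _ _ _ (hcomM q), hflip _ _ _ (hcomM' q), ha', S.invol, da, (dq q hq).1, (dq q hq).2, one_mul,
      mul_one, neg_one_smul, neg_one_smul]
    abel
  have hcomQ : Com i Q := fun X => Commute.sum_right _ _ _ fun q _ => ((hcomM q).mul (hcomM' q)) X
  -- the central part
  rw [hsplit] at hn
  have hn' := hn.conj hG hDG
  rw [map_add, map_one, map_add, hZe, hflipZ _ (comp_com _ _ _ _), ← hZe, hflipA] at hn'
  have hplus : S.InI G (1 + fa i (sg a a') * ((1 : F) • (comp i n a a' + comp i n a a' - Q))) := by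
    have h3 := hn.mul hn'
    have e : (1 + (Ze + A)) * (1 + (Ze + -A)) = 1 + (Ze + Ze - A * A) := by
      simp only [add_mul, mul_add, mul_neg, one_mul, mul_one, hZZ, hZA, hAZ]; abel
    rw [e, hAA, hZe, ← mul_add, ← mul_sub] at h3
    rwa [one_smul]
  obtain ⟨c0, hc0⟩ := hR i _ (lg_of_sg hG (((comp_com _ _ _ _).add (comp_com _ _ _ _)).sub hcomQ) hplus)
  have hA4 : A * A * A = 0 := by
    rw [hAA, hA, Finset.mul_sum]
    refine Finset.sum_eq_zero fun q hq => ?_
    rw [mul_add, fa_sg_ne hcomQ haa, fa_sg_ne hcomQ ((hmem q).1 hq).2.symm, add_zero]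
  have hminus : S.InI G (1 + ((A + A) + (A * A + A * A))) := by
    have h3 := hn.mul (hn'.inv (b := 1 - Ze + A + A * A) (by
      simp only [add_mul, mul_add, mul_sub, neg_mul, one_mul, mul_one, ← mul_assoc, hZZ, hZA, hAZ, hA4,
        zero_mul]
      abel))
    have e : (1 + (Ze + A)) * (1 - Ze + A + A * A) = 1 + ((A + A) + (A * A + A * A)) := by
      simp only [add_mul, mul_add, mul_sub, one_mul, mul_one, ← mul_assoc, hZZ, hZA, hAZ, hA4, zero_mul]
      abel
    rwa [e] at h3
  have hscal : ∀ q ∈ mid, ∃ c : F, M q = c • 1 ∧ ∃ c' : F, M' (S.π q) = c' • 1 := by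
    intro q hq
    set q' := S.π q with hq'
    have q1 : q ≠ a := ((hmem q).1 hq).1
    have q2 : q ≠ a' := ((hmem q).1 hq).2
    have p1 : q' ≠ a := fun e => q2 (by rw [ha', ← e, hq', S.invol])
    have p2 : q' ≠ a' := fun e => q1 (S.π_inj e)
    have hq'm : q' ∈ mid := (hmem q').2 ⟨p1, p2⟩
    set K := fa (t := t) i (sg q q' : Matrix (Fin k) (Fin k) F) with hK
    have hKK : K * K = 0 := by rw [hK, ← map_mul, sg_mul_ne _ _ (S.nofix q), map_zero]
    have hAK : A * K = fa i (sg a q') * M q := by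
      rw [hA, Finset.sum_mul, Finset.sum_eq_single q (fun r hr hrq => ?_) (fun h => absurd hq h)]
      · rw [add_mul, ← mul_one K, hK, fa_sg_eq (hcomM q), fa_sg_ne (hcomM' q) q2.symm, mul_one, add_zero]
      · rw [add_mul, ← mul_one K, hK, fa_sg_ne (hcomM r) hrq, fa_sg_ne (hcomM' r) q2.symm, add_zero]
    have hKA : K * A = fa i (sg q a') * M' q' := by
      rw [hA, Finset.mul_sum, Finset.sum_eq_single q' (fun r hr hrq => ?_) (fun h => absurd hq'm h)]
      · rw [mul_add, hK, ← mul_one (fa i (sg q q')), fa_sg_ne (com_one i) p1, fa_sg_eq (com_one i), one_mul, zero_add]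
      · rw [mul_add, hK, ← mul_one (fa i (sg q q')), fa_sg_ne (com_one i) p1, fa_sg_ne (com_one i) hrq.symm,
          add_zero]
    have hKAK : K * A * K = 0 := by
      rw [hKA, ← mul_one K, hK, fa_sg_ne (hcomM' q') q2.symm]
    set B := K * A - A * K with hB
    have hBe : B = fa i (sg q a') * M' q' - fa i (sg a q') * M q := by rw [hB, hKA, hAK]
    have hBB : B * B = 0 := by
      rw [hBe, sub_mul, mul_sub, mul_sub, fa_sg_ne (hcomM' q') q2.symm, fa_sg_ne (hcomM' q') haa,
        fa_sg_ne (hcomM q) (S.nofix q), fa_sg_ne (hcomM q) p1, sub_zero, sub_zero]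
    have hBA2 : B * A * A = 0 := by
      rw [mul_assoc, hAA, hBe, sub_mul, fa_sg_ne (hcomM' q') haa, fa_sg_ne (hcomM q) p1, sub_zero]
    -- conjugate by the long element of the middle
    have hKi : S.InI G (1 + K) := by
      have := InI.long (lg_scalar hG i (1 : F)) h2 q
      rwa [one_smul, mul_one] at this
    have hconj : S.InI G (1 + (((A + B) + (A + B)) + ((A + B) * (A + B) + (A + B) * (A + B)))) := by
      have h3 := (hKi.mul hminus).mul (hKi.neg hKK)
      have hA' : (1 + K) * A * (1 - K) = A + B := by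
        rw [hB]
        simp only [add_mul, mul_sub, one_mul, mul_one, hKAK]
        abel
      have h1K : (1 - K) * (1 + K) = 1 := by
        rw [show (1 - K) * (1 + K) = 1 - K * K by noncomm_ring, hKK, sub_zero]
      have h1K' : (1 + K) * (1 - K) = 1 := by
        rw [show (1 + K) * (1 - K) = 1 - K * K by noncomm_ring, hKK, sub_zero]
      have hA2 : (1 + K) * (A * A) * (1 - K) = (A + B) * (A + B) := by
        rw [← hA']
        calc (1 + K) * (A * A) * (1 - K) = (1 + K) * A * ((1 - K) * (1 + K)) * A * (1 - K) := by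
              rw [h1K, mul_one, ← mul_assoc (1 + K) A A]
          _ = _ := by simp only [mul_assoc]
      rw [mul_add (1 + K) 1, add_mul ((1 + K) * 1), mul_one, h1K'] at h3
      simp only [mul_add (1 + K), add_mul _ _ (1 - K)] at h3
      rwa [hA', hA2] at h3
    have hmid2 : ∃ W, Com i W ∧ S.InI G (1 + ((B + B) + fa i (sg a a') * W)) := by
      have eAB : A * B = fa i (sg a a') * (M q * M' q') := by
        rw [hBe, mul_sub, hA, Finset.sum_mul, Finset.sum_mul,
          Finset.sum_eq_single q (fun r hr hrq => by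
            rw [add_mul, fa_sg_ne (hcomM r) hrq, fa_sg_ne (hcomM' r) q2.symm, add_zero]) (fun h => absurd hq h),
          Finset.sum_eq_zero (fun r hr => by
            rw [add_mul, fa_sg_ne (hcomM r) ((hmem r).1 hr).1, fa_sg_ne (hcomM' r) haa, add_zero]),
          add_mul, fa_sg_eq (hcomM q), fa_sg_ne (hcomM' q) q2.symm, add_zero, sub_zero]
      have hABA : A * B * A = 0 := by
        rw [eAB, hA, Finset.mul_sum]
        exact Finset.sum_eq_zero fun r hr => by
          rw [mul_add, fa_sg_ne ((hcomM q).mul (hcomM' q')) haa,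
            fa_sg_ne ((hcomM q).mul (hcomM' q')) ((hmem r).1 hr).2.symm, add_zero]
      have h3 := hconj.mul (hminus.inv (b := 1 - (A + A) + (A * A + A * A)) (by
        simp only [add_mul, mul_add, mul_sub, sub_mul, one_mul, mul_one, ← mul_assoc, hA4, zero_mul]
        abel))
      have e : (1 + (((A + B) + (A + B)) + ((A + B) * (A + B) + (A + B) * (A + B)))) *
          (1 - (A + A) + (A * A + A * A)) = 1 + ((B + B) + ((A * B - B * A) + (A * B - B * A))) := by
        simp only [add_mul, mul_add, mul_sub, sub_mul, one_mul, mul_one, ← mul_assoc, hA4, hBB, hBA2, zero_mul,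
          show A * B * A * A = 0 by rw [mul_assoc A B A, mul_assoc A, hBA2, mul_zero],
          hABA, zero_mul]
        abel
      have eBA : B * A = fa i (sg a a') * (-(M q * M' q')) := by
        rw [hBe, sub_mul, hA, Finset.mul_sum, Finset.mul_sum,
          Finset.sum_eq_zero (fun r hr => by
            rw [mul_add, fa_sg_ne (hcomM' q') haa, fa_sg_ne (hcomM' q') ((hmem r).1 hr).2.symm, add_zero]),
          Finset.sum_eq_single q' (fun r hr hrq => by
            rw [mul_add, fa_sg_ne (hcomM q) p1, fa_sg_ne (hcomM q) hrq.symm, add_zero]) (fun h => absurd hq'm h),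
          mul_add, fa_sg_ne (hcomM q) p1, fa_sg_eq (hcomM q), zero_add, zero_sub, mul_neg]
      rw [e, eAB, eBA, ← mul_sub, ← mul_add] at h3
      exact ⟨_, ((((hcomM q).mul (hcomM' q'))).sub (by simpa using ((hcomM q).mul (hcomM' q')).smul (-1 : F))).add
        ((((hcomM q).mul (hcomM' q'))).sub (by simpa using ((hcomM q).mul (hcomM' q')).smul (-1 : F))), h3⟩
    obtain ⟨W, hW, hWI⟩ := hmid2
    set Zw := fa i (sg a a') * W with hZw
    have hBZ : B * Zw = 0 := by rw [hBe, hZw, sub_mul, fa_sg_ne (hcomM' q') haa, fa_sg_ne (hcomM q) p1, sub_zero]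
    have hZB : Zw * B = 0 := by rw [hBe, hZw, mul_sub, fa_sg_ne hW q2.symm, fa_sg_ne hW haa, sub_zero]
    have hZW2 : Zw * Zw = 0 := fa_sg_ne hW haa _
    have hflipB : conjA D B = -B := by
      rw [hBe, map_sub, hflip _ _ _ (hcomM' q'), hflip _ _ _ (hcomM q), ha', S.invol, hq', S.invol, da,
        (dq q hq).1, one_mul, mul_one, neg_one_smul, neg_one_smul]
      abel
    have hWI' := hWI.conj hG hDG
    rw [map_add, map_one, map_add, map_add, hflipB, hflipZ _ hW, ← hZw] at hWI'
    have hfin := hWI.mul (hWI'.inv (b := 1 + (B + B) - Zw) (by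
      simp only [add_mul, mul_add, mul_sub, neg_mul, one_mul, mul_one, hBB, hBZ, hZB, hZW2]
      abel))
    have e4 : (1 + (B + B + Zw)) * (1 + (B + B) - Zw) = 1 + ((B + B) + (B + B)) := by
      simp only [add_mul, mul_add, mul_sub, one_mul, mul_one, hBB, hBZ, hZB, hZW2]
      abel
    rw [e4] at hfin
    have hB4 : (B + B) + (B + B) = (4 : F) • B := by module
    rw [hB4] at hfin
    have h4 : (4 : F) ≠ 0 := by rw [show (4 : F) = 2 * 2 by norm_num]; exact mul_ne_zero h2 h2
    have hsk := hfin.skew (by rw [smul_mul_smul_comm, hBB, smul_zero])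
    rw [S.adT_smul, ← smul_neg] at hsk
    have hskB : S.adT B = -B := smul_right_injective _ h4 hsk
    rw [hBe, S.adT_sub, S.adT_mul, S.adT_mul, ← S.adT_mul, ← S.adT_mul, adT_sg_mul (hcomM q),
      adT_sg_mul (hcomM' q'), hq', S.invol, ha', S.invol] at hskB
    have h5 := congrArg (fa i (sg q q) * ·) hskB
    simp only [mul_sub, mul_neg, ← mul_assoc, ← map_mul, sg_mul, sg_mul_ne _ _ q1, sg_mul_ne _ _ q1.symm, map_zero,
      zero_mul, sub_zero, zero_sub, neg_inj] at h5
    have h6 : (S.e a * S.e q') • S.adT (M q) = M' q' := by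
      refine sub_eq_zero.1 (eq_zero_of_fa_mul (i := i) (sg_ne q a') (((S.com_adT (hcomM q)).smul _).sub (hcomM' q')) ?_)
      rw [mul_sub, ← hq', ← ha'] at *
      rw [h5, sub_self]
    have hBsh : (4 : F) • B = S.shm i a q' ((-(4 : F)) • M q) := by
      rw [shm_eq ((hcomM q).smul _), hBe, ← h6, S.adT_smul, hq', S.invol, ha']
      simp only [mul_smul_comm, smul_sub, smul_smul, neg_smul, neg_mul, mul_neg, neg_neg, ← hq', smul_neg]
      module
    rw [hBsh] at hfin
    obtain ⟨c, hc⟩ := (sh_of_one hG ((hcomM q).smul _) p1 p2 hfin).scalar hG hR h2 p1 p2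
    have h7 : M q = ((-(4 : F))⁻¹ * c) • 1 := by
      rw [← smul_smul, ← hc, smul_smul, inv_mul_cancel₀ (neg_ne_zero.2 h4), one_smul]
    refine ⟨_, h7, (S.e a * S.e q') * ((-(4 : F))⁻¹ * c), ?_⟩
    rw [← h6, h7, S.adT_smul, S.adT_one, smul_smul]
  have hfaR : ∀ X, fa i X ∈ R := fun X => ⟨X, rfl⟩
  have hAR : A ∈ R := by
    rw [hA]
    refine R.sum_mem fun q hq => R.add_mem ?_ ?_
    · obtain ⟨c, hc, -⟩ := hscal q hq
      rw [hc, mul_smul_comm, mul_one]
      exact R.smul_mem (hfaR _) c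
    · obtain ⟨-, -, c, hc⟩ := hscal (S.π q) ((hmem _).2 ⟨fun e => ((hmem q).1 hq).2 (by rw [ha', ← e, S.invol]),
        fun e => ((hmem q).1 hq).1 (S.π_inj e)⟩)
      rw [S.invol] at hc
      rw [hc, mul_smul_comm, mul_one]
      exact R.smul_mem (hfaR _) c
  have hZR : Ze + Ze ∈ R := by
    have e : Ze + Ze = fa i (sg a a') * ((1 * S.e a) * (1 * S.e a))⁻¹ • (((1 : F) * S.e a) • ((c0 : F) • (1 : Matrix (Idx k t) (Idx k t) F))) + A * A := by
      rw [← hc0, smul_smul, smul_smul]
      simp [S.sign, hAA, hZe, mul_add, mul_sub]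
    rw [e, smul_smul, smul_smul, mul_smul_comm, mul_one]
    exact R.add_mem (R.smul_mem (hfaR _) _) (R.mul_mem hAR hAR)
  rw [hsplit]
  refine R.add_mem ?_ hAR
  have := R.smul_mem hZR (2 : F)⁻¹
  rwa [← two_smul F, smul_smul, inv_mul_cancel₀ h2, one_smul] at this

end Cfsg.Lib.Linear.SpWreath.Std
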