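import Cfsg.Agent.Lib.Linear.SpWreath.Radical
import Cfsg.Agent.Lib.Linear.TWreath.Main

/-!
# A coefficient which is not a scalar gives transvections of the whole space

Products of long pieces at more and more factors are long root elements of the group.
-/

set_option autoImplicit false
set_option linter.unusedSectionVars false

namespace Cfsg.Lib.Linear.SpWreath.Std

open Cfsg.Geo Cfsg.Lib.Linear.AschGen Cfsg.Lib.Linear.TWreath
open scoped Matrix MatrixGroups

variable {F : Type*} [Field F] {k t : ℕ} {S : Std k F} {G : Subgroup (GL (Idx k t) F)}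

theorem pureTens_update (X : Fin t → Matrix (Fin k) (Fin k) F) (l : Fin t) (Y : Matrix (Fin k) (Fin k) F) :
    pureTens (Function.update X l Y) = fa l Y * pureTens (Function.update X l 1) := by
  rw [fa_apply, powStd, pureTens_mul]
  congr 1
  funext j
  rcases eq_or_ne j l with rfl | hj <;> simp [*]

theorem fa_mul_pureTens (X : Fin t → Matrix (Fin k) (Fin k) F) (l : Fin t) (Y : Matrix (Fin k) (Fin k) F) :
    fa l Y * pureTens X = pureTens (Function.update X l (Y * X l)) ∧
      pureTens X * fa l Y = pureTens (Function.update X l (X l * Y)) := by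
  constructor <;> rw [fa_apply, powStd, pureTens_mul] <;> congr 1 <;> funext j <;>
    rcases eq_or_ne j l with rfl | hj <;> simp [*]

theorem pureTens_smul (c : Fin t → F) (X : Fin t → Matrix (Fin k) (Fin k) F) :
    pureTens (fun l => c l • X l) = (∏ l, c l) • pureTens X := by
  ext x y
  simp [pureTens, Finset.prod_mul_distrib]

theorem com_pureTens {i : Fin t} {X : Fin t → Matrix (Fin k) (Fin k) F} (h : X i = 1) : Com i (pureTens X) := by
  intro Y
  show _ * _ = _ * _
  rw [(fa_mul_pureTens X i Y).1, (fa_mul_pureTens X i Y).2, h, one_mul, mul_one]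

theorem diagonal_mul_sg (d : Fin k → F) (p q : Fin k) :
    Matrix.diagonal d * sg p q = d p • (sg p q : Matrix (Fin k) (Fin k) F) ∧
      sg p q * Matrix.diagonal d = d q • (sg p q : Matrix (Fin k) (Fin k) F) := by
  constructor <;> ext x y <;>
    simp only [Matrix.diagonal_mul, Matrix.mul_diagonal, Matrix.smul_apply, smul_eq_mul, Matrix.single_apply,
      mul_ite, ite_mul, mul_one, one_mul, mul_zero, zero_mul] <;>
    by_cases h : p = x ∧ q = y <;> simp [h]

theorem ad_diagonal (d : Fin k → F) : S.ad (Matrix.diagonal d) = Matrix.diagonal (fun a => d (S.π a)) := by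
  ext a b
  simp only [ad, Matrix.of_apply, Matrix.diagonal_apply, S.π_inj.eq_iff]
  by_cases h : a = b
  · subst h; simp [S.sign]
  · simp [h, Ne.symm h]

theorem IsPiece.sign {N : Matrix (Fin k) (Fin k) F} (h : S.IsPiece N) :
    (∃ ε : F, ε * ε = 1 ∧ S.ad N = ε • N) ∧ N * N = 0 := by
  rcases h with ⟨a, rfl⟩ | ⟨a, b, h1, h2, rfl⟩
  · exact ⟨⟨-1, by ring, by rw [S.ad_sg_long, neg_smul, one_smul]⟩, sg_mul_ne _ _ (S.nofix a)⟩
  · refine ⟨⟨1, by ring, by rw [piece_d, one_smul]⟩, ?_⟩
    rw [S.ad_sg]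
    simp only [add_mul, mul_add, smul_mul_assoc, mul_smul_comm]
    rw [sg_mul_ne _ _ h1, sg_mul_ne _ _ (fun e => S.nofix b e.symm), sg_mul_ne _ _ (S.nofix a),
      sg_mul_ne _ _ (fun e => h1 (S.π_inj e.symm))]
    simp

/-- A piece and an opposite one have products separating a pair. -/
theorem IsPiece.opp {N : Matrix (Fin k) (Fin k) F} (h : S.IsPiece N) :
    ∃ (x : GL (Fin k) F) (d : Fin k → F) (p : Fin k), S.Iso x ∧ N * conjA x N = Matrix.diagonal d ∧
      conjA x N * N = Matrix.diagonal (fun a => d (S.π a)) ∧ d (S.π p) - d p ≠ 0 := by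
  obtain ⟨x, s, a, hx, hs, ⟨d, hd, hda⟩, -⟩ := h.opposite
  obtain ⟨⟨ε, hε, had⟩, hNN⟩ := h.sign
  have hrev : conjA x N * N = Matrix.diagonal (fun a => d (S.π a)) := by
    rw [← ad_diagonal, ← hd, S.ad_mul, conjA_ad hx, had, map_smul, smul_mul_smul_comm, hε, one_smul]
  by_cases hsym : ∃ p, d (S.π p) - d p ≠ 0
  · obtain ⟨p, hp⟩ := hsym
    exact ⟨x, d, p, hx, hd, hrev, hp⟩
  exfalso
  push Not at hsym
  rw [show (fun a => d (S.π a)) = d from funext fun a => sub_eq_zero.1 (hsym a), ← hd] at hrev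
  have h0 : Matrix.diagonal d * Matrix.diagonal d = 0 := by
    rw [← hd, mul_assoc, ← mul_assoc (conjA x N), hrev, ← mul_assoc, ← mul_assoc, hNN, zero_mul, zero_mul]
  have h1 := congrFun (congrFun h0 a) a
  rw [Matrix.diagonal_mul_diagonal, Matrix.diagonal_apply_eq, hda, Matrix.zero_apply, mul_self_eq_zero] at h1
  exact hs h1

variable {W : Submodule F (Matrix (Idx k t) (Idx k t) F)}

/-- The commutators with roots turn products of diagonal matrices into products of roots. -/
theorem ops (h2 : (2 : F) ≠ 0) (R : Finset (Fin t)) (p : Fin t → Fin k) (d : Fin t → Fin k → F) :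
    ∀ (Z Z' : Fin t → Matrix (Fin k) (Fin k) F) (s : F), (∀ l ∈ R, S.Inv l W) →
    (∀ l ∈ R, Z l = Matrix.diagonal (d l)) → (∀ l ∈ R, Z' l = Matrix.diagonal (fun a => d l (S.π a))) →
    (∀ l, l ∉ R → Z' l = Z l) → pureTens Z + s • pureTens Z' ∈ W →
    ((1 + s * (-1) ^ R.card) * ∏ l ∈ R, (d l (S.π (p l)) - d l (p l))) •
      pureTens (fun l => if l ∈ R then sg (p l) (S.π (p l)) else Z l) ∈ W := by
  classical
  induction R using Finset.induction_on with
  | empty =>
    intro Z Z' s _ _ _ hoff h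
    have e : Z' = Z := funext fun l => hoff l (by simp)
    rw [e] at h
    simp only [Finset.card_empty, pow_zero, mul_one, Finset.prod_empty, Finset.notMem_empty, if_false]
    rwa [add_smul, one_smul]
  | insert l R hl ih =>
    intro Z Z' s hinv hZ hZ' hoff h
    set E : Matrix (Fin k) (Fin k) F := sg (p l) (S.π (p l)) with hE
    set δ := d l (S.π (p l)) - d l (p l) with hδ
    rw [Finset.prod_insert hl, Finset.card_insert_of_notMem hl, pow_succ, ← hδ]
    rcases eq_or_ne δ 0 with h0 | h0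
    · rw [h0, zero_mul, mul_zero, zero_smul]; exact W.zero_mem
    have h1 : fa l E * (pureTens Z + s • pureTens Z') - (pureTens Z + s • pureTens Z') * fa l E ∈ W := by
      have h3 := W.smul_mem (S.e (p l)) ((hinv l (Finset.mem_insert_self l R)).sq_ops h2 (Pi.single (p l) 1) h).2
      rwa [S.nr_single, map_smul, smul_mul_assoc, mul_smul_comm, ← smul_sub, smul_smul, S.sign, one_smul] at h3
    have hop : ∀ (Y : Fin t → Matrix (Fin k) (Fin k) F) (v : Fin k → F), Y l = Matrix.diagonal v →
        fa l E * pureTens Y - pureTens Y * fa l E =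
          (v (S.π (p l)) - v (p l)) • pureTens (Function.update Y l E) := by
      intro Y v hY
      rw [(fa_mul_pureTens Y l E).1, (fa_mul_pureTens Y l E).2, hY, hE, (diagonal_mul_sg v _ _).1,
        (diagonal_mul_sg v _ _).2, pureTens_update Y l (_ • _), pureTens_update Y l (_ • _),
        pureTens_update Y l (sg _ _), map_smul, map_smul, smul_mul_assoc, smul_mul_assoc, sub_smul]
    have h2' : pureTens (Function.update Z l E) + (-s) • pureTens (Function.update Z' l E) ∈ W := by
      rw [mul_add, add_mul, mul_smul_comm, smul_mul_assoc, add_sub_add_comm, ← smul_sub,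
        hop Z _ (hZ l (Finset.mem_insert_self l R)), hop Z' _ (hZ' l (Finset.mem_insert_self l R))] at h1
      simp only [S.invol, ← hδ] at h1
      have h3 := W.smul_mem δ⁻¹ h1
      rw [show d l (p l) - d l (S.π (p l)) = -δ by rw [hδ, neg_sub]] at h3
      convert h3 using 1
      match_scalars <;> field_simp
    have h3 := W.smul_mem δ (ih _ _ (-s) (fun j hj => hinv j (Finset.mem_insert_of_mem hj))
      (fun j hj => by rw [Function.update_of_ne (ne_of_mem_of_not_mem hj hl)]; exact hZ j (Finset.mem_insert_of_mem hj))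
      (fun j hj => by rw [Function.update_of_ne (ne_of_mem_of_not_mem hj hl)]; exact hZ' j (Finset.mem_insert_of_mem hj))
      (fun j hj => by
        rcases eq_or_ne j l with rfl | hjl
        · simp
        · rw [Function.update_of_ne hjl, Function.update_of_ne hjl]
          exact hoff j (fun h => hj ((Finset.mem_insert.1 h).resolve_left hjl)))
      h2')
    rw [smul_smul] at h3
    convert h3 using 2
    · ring
    · congr 1
      funext j
      rcases eq_or_ne j l with rfl | hjl
      · simp [hl, hE]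
      · simp [hjl]

/-- The coefficients available at every long root. -/
def lgSub (S : Std k F) (G : Subgroup (GL (Idx k t) F)) (h2 : (2 : F) ≠ 0) (i : Fin t) :
    Submodule F (Matrix (Idx k t) (Idx k t) F) where
  carrier := {Φ | S.Lg G i Φ}
  add_mem' := Lg.add
  zero_mem' := Lg.zero
  smul_mem' c _ h := h.smul h2 c

theorem lgSub_inv (hG : S.SOver G) (h2 : (2 : F) ≠ 0) {i l : Fin t} (hl : l ≠ i) :
    S.Inv l (S.lgSub G h2 i) :=
  fun a ha _ h => Lg.conj hG h (hG.sp l a ha) (acts_fu_ne hl.symm a)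

/-- The Jordan product. -/
theorem Lg.jordan (hG : S.SOver G) (h2 : (2 : F) ≠ 0) {i : Fin t} {Φ Ψ : Matrix (Idx k t) (Idx k t) F}
    (h : S.Lg G i Φ) (h' : S.Lg G i Ψ) {a b : Fin k} (h1 : b ≠ a) (h1' : b ≠ S.π a) :
    S.Lg G i (Φ * Ψ + Ψ * Φ) := by
  have hs : ∀ {Θ : Matrix (Idx k t) (Idx k t) F}, S.Lg G i Θ → S.Sh G i Θ := fun {Θ} hΘ => by
    have := (sh_scalar hG i (1 : F)).mul_lg hG h2 hΘ h1 h1'
    rwa [one_smul, one_mul] at this
  have := (hs h).mul_sh hG h2 (hs h') h1 h1'
  rwa [h.selfAd a, h'.selfAd a] at this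

variable (S) in
/-- A product of roots at the given factors. -/
def rootProd (A : Finset (Fin t)) (f : Fin t → Fin k) : Matrix (Idx k t) (Idx k t) F :=
  pureTens fun l => if l ∈ A then (sg (f l) (S.π (f l)) : Matrix (Fin k) (Fin k) F) else 1

variable (S) in
/-- All products of roots at the given factors are long elements of the group. -/
def LT (G : Subgroup (GL (Idx k t) F)) (A : Finset (Fin t)) : Prop :=
  ∀ (f : Fin t → Fin k) (c : F), S.InI G (1 + c • S.rootProd A f)

theorem exists_even_perm (h3 : 3 ≤ t) {A B : Finset (Fin t)} (hcard : A.card = B.card) :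
    ∃ σ : Equiv.Perm (Fin t), (∀ l, σ l ∈ B ↔ l ∈ A) ∧ Equiv.Perm.sign σ = 1 := by
  classical
  set σ : Equiv.Perm (Fin t) := (Finset.equivOfCardEq hcard).extendSubtype
  have hmem : ∀ l, σ l ∈ B ↔ l ∈ A := fun l => by
    constructor
    · intro hl
      by_contra hne
      exact Equiv.extendSubtype_not_mem (Finset.equivOfCardEq hcard) l hne hl
    · exact fun hl => Equiv.extendSubtype_mem (Finset.equivOfCardEq hcard) l hl
  rcases Int.units_eq_one_or (Equiv.Perm.sign σ) with hs | hs
  · exact ⟨σ, hmem, hs⟩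
  obtain ⟨p, q, hpq, hiff⟩ : ∃ p q, p ≠ q ∧ (p ∈ A ↔ q ∈ A) := by
    by_contra hc
    push Not at hc
    have h1 := hc ⟨0, by omega⟩ ⟨1, by omega⟩ (by simp)
    have h2 := hc ⟨0, by omega⟩ ⟨2, by omega⟩ (by simp [Fin.ext_iff])
    have h4 := hc ⟨1, by omega⟩ ⟨2, by omega⟩ (by simp [Fin.ext_iff])
    tauto
  refine ⟨σ * Equiv.swap p q, fun l => ?_, by rw [map_mul, hs, Equiv.Perm.sign_swap hpq]; rfl⟩
  rw [Equiv.Perm.mul_apply, hmem]
  rcases eq_or_ne l p with rfl | hp
  · rw [Equiv.swap_apply_left]; exact hiff.symm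
  rcases eq_or_ne l q with rfl | hq
  · rw [Equiv.swap_apply_right]; exact hiff
  rw [Equiv.swap_apply_of_ne_of_ne hp hq]

theorem adT_rootProd (A : Finset (Fin t)) (f : Fin t → Fin k) :
    S.adT (S.rootProd A f) = (-1 : F) ^ A.card • S.rootProd A f := by
  classical
  rw [rootProd, S.adT_pureTens]
  have e : (fun l => S.ad (if l ∈ A then (sg (f l) (S.π (f l)) : Matrix (Fin k) (Fin k) F) else 1)) =
      fun l => (if l ∈ A then (-1 : F) else 1) •
        (if l ∈ A then (sg (f l) (S.π (f l)) : Matrix (Fin k) (Fin k) F) else 1) := by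
    funext l
    split_ifs
    · rw [S.ad_sg_long, neg_smul, one_smul]
    · rw [S.ad_one, one_smul]
  rw [e, pureTens_smul, Finset.prod_ite_mem, Finset.univ_inter, Finset.prod_const]

theorem rootProd_ne_zero (A : Finset (Fin t)) (f : Fin t → Fin k) (hk : 0 < k) : S.rootProd A f ≠ 0 :=
  pureTens_ne_zero hk fun l => by
    split_ifs
    · exact sg_ne _ _
    · intro h
      simpa using congrFun (congrFun h (f l)) (f l)

theorem even_of_lg (h2 : (2 : F) ≠ 0) {i : Fin t} {A : Finset (Fin t)} {f : Fin t → Fin k}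
    (h : S.Lg G i (S.rootProd A f)) : Even A.card := by
  have hk : 0 < k := Fin.pos (f i)
  have h1 := h.selfAd (f i)
  rw [adT_rootProd] at h1
  rcases Nat.even_or_odd A.card with he | ho
  · exact he
  rw [ho.neg_one_pow] at h1
  have h3 : (2 : F) • S.rootProd A f = 0 := by
    rw [two_smul]
    nth_rewrite 1 [← h1]
    rw [neg_smul, one_smul, neg_add_cancel]
  exact absurd ((smul_eq_zero.1 h3).resolve_left h2) (rootProd_ne_zero A f hk)

theorem rootProd_insert {i : Fin t} {A : Finset (Fin t)} (hi : i ∉ A) (f : Fin t → Fin k) :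
    fa i (sg (f i) (S.π (f i))) * S.rootProd A f = S.rootProd (insert i A) f := by
  rw [rootProd, rootProd, (fa_mul_pureTens _ i _).1]
  congr 1
  funext l
  rcases eq_or_ne l i with rfl | hl <;> simp [*]

theorem lt_of_lg (hG : S.SOver G) (h2 : (2 : F) ≠ 0) {i : Fin t} {A : Finset (Fin t)} (hi : i ∉ A)
    {f : Fin t → Fin k} (h : S.Lg G i (S.rootProd A f)) : S.LT G (insert i A) := by
  classical
  intro g c
  have hmove : ∀ l, ∃ x : GL (Fin k) F, ∃ s : F, S.Iso x ∧ s ≠ 0 ∧
      conjA x (sg (f l) (S.π (f l))) = s • (sg (g l) (S.π (g l)) : Matrix (Fin k) (Fin k) F) := fun l => by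
    obtain ⟨x, hx, hxv⟩ := S.exists_move (v := Pi.single (f l) 1) (w := Pi.single (g l) 1) (by simp) (by simp)
    have h1 := S.conjA_nr hx (Pi.single (f l) 1)
    rw [hxv, S.nr_single, S.nr_single, map_smul] at h1
    refine ⟨x, S.e (f l) * S.e (g l), hx, mul_ne_zero (S.e_ne _) (S.e_ne _), ?_⟩
    have h3 := congrArg (S.e (f l) • ·) h1
    simpa only [smul_smul, S.sign, one_smul] using h3
  choose x s hx hs hxs using hmove
  obtain ⟨y, hy, hyX⟩ := exists_iso_fu hG hx (insert i A)
  set r : F := ∏ l, if l ∈ insert i A then s l else 1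
  have hr : r ≠ 0 := Finset.prod_ne_zero_iff.2 fun l _ => by split_ifs; exacts [hs l, one_ne_zero]
  have h1 := ((InI.long (h.smul h2 (c / r)) h2 (f i))).conj hG hy
  rw [mul_smul_comm, rootProd_insert hi, map_add, map_one, map_smul, rootProd, hyX,
    show (fun l => if l ∈ insert i A then conjA (x l)
        (if l ∈ insert i A then (sg (f l) (S.π (f l)) : Matrix (Fin k) (Fin k) F) else 1) else
        (if l ∈ insert i A then (sg (f l) (S.π (f l)) : Matrix (Fin k) (Fin k) F) else 1)) =
      fun l => (if l ∈ insert i A then s l else 1) •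
        (if l ∈ insert i A then (sg (g l) (S.π (g l)) : Matrix (Fin k) (Fin k) F) else 1) from funext fun l => by
      split_ifs
      · exact hxs l
      · rw [one_smul],
    pureTens_smul, smul_smul, div_mul_cancel₀ _ hr] at h1
  exact h1

theorem LT.lg (hG : S.SOver G) {A : Finset (Fin t)} (h : S.LT G A) {i : Fin t} (hi : i ∈ A)
    (f : Fin t → Fin k) : S.Lg G i (S.rootProd (A.erase i) f) := by
  have hc : Com i (S.rootProd (A.erase i) f) := com_pureTens (by simp)
  have h1 := lg_of_sg (S := S) hG hc (a := f i) (r := S.e (f i)) (by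
    rw [mul_smul_comm, rootProd_insert (A.notMem_erase i), Finset.insert_erase hi]
    exact h f _)
  rwa [S.sign, one_smul] at h1

theorem LT.perm (hG : S.SOver G) (h3 : 3 ≤ t) {A B : Finset (Fin t)} (h : S.LT G A) (hcard : A.card = B.card) :
    S.LT G B := by
  classical
  intro f c
  obtain ⟨σ, hmem, hsign⟩ := exists_even_perm h3 hcard
  obtain ⟨g, hg, hgv⟩ := hG.perm σ hsign
  have e : g = permGL σ := Units.ext hgv
  have h1 := (h (fun l => f (σ l)) c).conj hG hg
  rw [map_add, map_one, map_smul] at h1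
  have e2 : conjA g (S.rootProd A fun l => f (σ l)) = S.rootProd B f := by
    rw [e, conjA_apply, show (permGL σ : GL (Idx k t) F).val = permMat σ from rfl, rootProd, permMat_pureTens,
      mul_assoc, show (permMat σ : Matrix (Idx k t) (Idx k t) F) * ((permGL σ : GL (Idx k t) F)⁻¹).val = 1 from
        Units.mul_inv (permGL σ : GL (Idx k t) F), mul_one, rootProd]
    congr 1
    funext l
    have := hmem (σ.symm l)
    rw [Equiv.apply_symm_apply] at this
    simp only [this, Equiv.apply_symm_apply]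
  rwa [e2] at h1

/-- One step up. -/
theorem LT.step (hG : S.SOver G) (h2 : (2 : F) ≠ 0) (hk : 0 < k) {A : Finset (Fin t)} (h : S.LT G A)
    (ho : Odd A.card) (h3 : 3 ≤ A.card) {y z : Fin t} (hy : y ∉ A) (hz : z ∉ A) (hyz : y ≠ z) :
    S.LT G (insert y (insert z A)) := by
  classical
  obtain ⟨i, hi⟩ := Finset.card_pos.1 (by omega : 0 < A.card)
  obtain ⟨x, hx⟩ := Finset.card_pos.1 (show 0 < (A.erase i).card by rw [Finset.card_erase_of_mem hi]; omega)
  set R := (A.erase i).erase x with hR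
  set B := insert y (insert z R) with hB
  set a : Fin k := ⟨0, hk⟩
  have hyR : y ∉ R := fun e => hy (Finset.mem_of_mem_erase (Finset.mem_of_mem_erase e))
  have hzR : z ∉ R := fun e => hz (Finset.mem_of_mem_erase (Finset.mem_of_mem_erase e))
  have hxi : x ≠ i := Finset.ne_of_mem_erase hx
  have hRc : R.card = A.card - 2 := by
    rw [hR, Finset.card_erase_of_mem hx, Finset.card_erase_of_mem hi]; omega
  have hBc : B.card = A.card := by
    rw [hB, Finset.card_insert_of_notMem (by simp [hyz, hyR]), Finset.card_insert_of_notMem hzR, hRc]; omega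
  have hiy : i ≠ y := fun e => hy (e ▸ hi)
  have hiz : i ≠ z := fun e => hz (e ▸ hi)
  have hiR : i ∉ R := fun e => Finset.notMem_erase i A (Finset.mem_of_mem_erase e)
  have hiB : i ∉ B := by simp [hB, hiy, hiz, hiR]
  set f : Fin t → Fin k := fun l => if l ∈ R then S.π a else a with hf
  set Φ := S.rootProd (A.erase i) (fun _ => a) with hΦ
  set m := S.rootProd B f with hm
  have hΦL : S.Lg G i Φ := h.lg hG hi _
  have hmG : ∀ c : F, S.InI G (1 + c • m) := fun c => (h.perm hG (by have := A.card_le_univ; rw [Fintype.card_fin] at this; omega) hBc.symm) f c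
  have hmc : Com i m := com_pureTens (by simp [hiB])
  obtain ⟨iB, hiB'⟩ : ∃ j, j ∈ B := ⟨y, by simp [hB]⟩
  have hmm : m * m = 0 := by
    rw [hm, rootProd, pureTens_mul]
    exact TWreath.pureTens_eq_zero (j := iB) (by simp [hiB', sg_mul_ne _ _ (S.nofix _)])
  have hcomm : m * Φ - Φ * m ∈ S.lgSub G h2 i := by
    have hconj : ∀ c : F, S.Lg G i (Φ + c • (m * Φ - Φ * m) - (c * c) • (m * Φ * m)) := fun c => by
      obtain ⟨⟨g, hg, hgv⟩, -⟩ := hmG c
      have hgi : (g⁻¹).val = 1 - c • m := left_inv_eq_right_inv (Units.inv_mul g) (by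
        rw [hgv, (show ∀ Z : Matrix (Idx k t) (Idx k t) F, (1 + Z) * (1 - Z) = 1 - Z * Z from
          fun Z => by noncomm_ring) (c • m), smul_mul_smul_comm, hmm, smul_zero, sub_zero])
      have hact : Acts g i i 1 := fun X => by
        rw [conjA_one, conjA_apply, hgv, ((((com_one i).add (hmc.smul c)) X)).eq.symm, mul_assoc, ← hgv,
          Units.mul_inv, mul_one]
      have h1 := hΦL.conj hG hg hact
      rw [conjA_apply, hgv, hgi] at h1
      convert h1 using 1
      simp only [add_mul, mul_sub, one_mul, mul_one, smul_mul_assoc, mul_smul_comm, mul_assoc]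
      module
    have h1 : (2 : F)⁻¹ • ((Φ + (1 : F) • (m * Φ - Φ * m) - ((1 : F) * 1) • (m * Φ * m)) -
        (Φ + (-1 : F) • (m * Φ - Φ * m) - ((-1 : F) * -1) • (m * Φ * m))) ∈ S.lgSub G h2 i :=
      Submodule.smul_mem _ _ ((S.lgSub G h2 i).sub_mem (hconj 1) (hconj (-1)))
    convert h1 using 1
    match_scalars <;> field_simp <;> ring
  rw [hm, hΦ, rootProd, rootProd, pureTens_mul, pureTens_mul, sub_eq_add_neg, ← neg_one_smul F] at hcomm
  set d : Fin t → Fin k → F := fun _ => Pi.single (S.π a) 1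
  have key := ops h2 R (fun _ => a) d _ _ (-1)
    (fun l hl => lgSub_inv hG h2 (fun e => by subst e; exact hiR hl))
    (fun l hl => ?_) (fun l hl => ?_) (fun l hl => ?_) hcomm
  · have hR1 : (-1 : F) * (-1) ^ R.card = 1 := by
      have : Odd R.card := by
        rw [hRc]; obtain ⟨r, hr⟩ := ho; exact ⟨r - 1, by omega⟩
      rw [this.neg_one_pow]; ring
    have hprod : ∏ l ∈ R, (d l (S.π a) - d l a) = 1 := Finset.prod_eq_one fun l _ => by
      simp [d, (S.nofix a).symm]
    rw [hR1, hprod, mul_one] at key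
    have key' := (S.lgSub G h2 i).smul_mem (2 : F)⁻¹ key
    rw [smul_smul, one_add_one_eq_two, inv_mul_cancel₀ h2, one_smul] at key'
    have hset : insert y (insert z A) = insert i (insert y (insert z (A.erase i))) := by
      ext l
      simp only [Finset.mem_insert, Finset.mem_erase]
      by_cases hli : l = i <;> simp [hli, hi]
    rw [hset]
    refine lt_of_lg hG h2 (by simp [hiy, hiz]) (f := fun _ => a) ?_
    show S.rootProd (insert y (insert z (A.erase i))) (fun _ => a) ∈ S.lgSub G h2 i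
    convert key' using 1
    rw [rootProd]
    congr 1
    funext l
    by_cases hlR : l ∈ R
    · have : l ∈ A.erase i := Finset.mem_of_mem_erase hlR
      simp [hlR, this]
    · by_cases hlB : l ∈ B
      · have hlyz : l = y ∨ l = z := by simpa [hB, hlR] using hlB
        have hlA : l ∉ A.erase i := fun e => by
          rcases hlyz with rfl | rfl
          · exact hy (Finset.mem_of_mem_erase e)
          · exact hz (Finset.mem_of_mem_erase e)
        rcases hlyz with rfl | rfl <;> simp [hlR, hlB, hlA, hf]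
      · have hl1 : l ≠ y := fun e => hlB (by simp [hB, e])
        have hl2 : l ≠ z := fun e => hlB (by simp [hB, e])
        simp [hlR, hlB, hl1, hl2]
  · have h1 : l ∈ A.erase i := Finset.mem_of_mem_erase hl
    have h1' : l ∈ B := by simp [hB, hl]
    simp [hl, h1, h1', hf, d, S.invol, Matrix.diagonal_single]
  · have h1 : l ∈ A.erase i := Finset.mem_of_mem_erase hl
    have h1' : l ∈ B := by simp [hB, hl]
    simp [hl, h1, h1', hf, d, S.invol]
    rw [show (fun b => (Pi.single (S.π a) (1 : F) : Fin k → F) (S.π b)) = Pi.single a 1 from funext fun b => by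
      simp [Pi.single_apply, S.π_inj.eq_iff], Matrix.diagonal_single]
  · by_cases h1 : l ∈ A.erase i
    · by_cases h1' : l ∈ B
      · exfalso
        have : l = y ∨ l = z := by simpa [hB, hl] using h1'
        rcases this with rfl | rfl
        · exact hy (Finset.mem_of_mem_erase h1)
        · exact hz (Finset.mem_of_mem_erase h1)
      · simp [h1, h1']
    · by_cases h1' : l ∈ B <;> simp [h1, h1']

/-- Products of roots at all factors. -/
theorem LT.univ (hG : S.SOver G) (h2 : (2 : F) ≠ 0) (hk : 0 < k) (ht : Odd t) :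
    ∀ (n : ℕ) (A : Finset (Fin t)), t - A.card = n → S.LT G A → Odd A.card → 3 ≤ A.card →
      S.LT G Finset.univ := by
  intro n
  induction n using Nat.strong_induction_on with
  | _ n ih =>
  intro A hn h ho h3
  have hle : A.card ≤ t := by simpa using A.card_le_univ
  by_cases he : A.card = t
  · rwa [Finset.eq_univ_of_card A (by simpa using he)] at h
  have hlt : 2 ≤ (Finset.univ \ A).card := by
    rw [Finset.card_sdiff, Finset.inter_univ, Finset.card_univ, Fintype.card_fin]
    obtain ⟨r, hr⟩ := ho; obtain ⟨r', hr'⟩ := ht; omega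
  obtain ⟨y, hy, z, hz, hyz⟩ := Finset.one_lt_card.1 hlt
  simp only [Finset.mem_sdiff, Finset.mem_univ, true_and] at hy hz
  have hc : (insert y (insert z A)).card = A.card + 2 := by
    rw [Finset.card_insert_of_notMem (by simp [hyz, hy]), Finset.card_insert_of_notMem hz]
  refine ih _ ?_ _ rfl (h.step hG h2 hk ho h3 hy hz hyz) ?_ (by omega)
  · omega
  · rw [hc]; obtain ⟨r, hr⟩ := ho; exact ⟨r + 1, by omega⟩

/-- An even number of pieces gives as many roots. -/
theorem even_pieces (hG : S.SOver G) (h2 : (2 : F) ≠ 0) {i : Fin t} {a b : Fin k} (h1 : b ≠ a) (h1' : b ≠ S.π a)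
    {R : Finset (Fin t)} (hi : i ∉ R) (he : Even R.card) {X : Fin t → Matrix (Fin k) (Fin k) F}
    (hX : ∀ l ∈ R, S.IsPiece (X l)) (hX1 : ∀ l, l ∉ R → X l = 1) (h : S.Lg G i (pureTens X)) :
    ∃ f, S.Lg G i (S.rootProd R f) := by
  classical
  have hopp : ∀ l, ∃ (x : GL (Fin k) F) (d : Fin k → F) (p : Fin k), S.Iso x ∧ (l ∈ R →
      X l * conjA x (X l) = Matrix.diagonal d ∧ conjA x (X l) * X l = Matrix.diagonal (fun a => d (S.π a)) ∧
        d (S.π p) - d p ≠ 0) := fun l => by
    by_cases hl : l ∈ R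
    · obtain ⟨x, d, p, hx, e1, e2, e3⟩ := (hX l hl).opp
      exact ⟨x, d, p, hx, fun _ => ⟨e1, e2, e3⟩⟩
    · exact ⟨1, 0, a, Iso.one S, fun e => absurd e hl⟩
  choose x d p hx hd using hopp
  obtain ⟨g, hg, hgX⟩ := exists_iso_fu hG hx R
  have hga : Acts g i i 1 := fun Y => by
    rw [conjA_one, fa_apply, powStd, hgX]
    congr 1
    funext l
    rcases eq_or_ne l i with rfl | hl
    · simp [hi]
    · simp [hl]
  have hJ : S.Lg G i _ := h.jordan hG h2 (h.conj hG hg hga) h1 h1'
  rw [hgX, pureTens_mul, pureTens_mul] at hJ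
  have hJ' := (show ∀ P Q, S.Lg G i (P + Q) → P + (1 : F) • Q ∈ S.lgSub G h2 i from fun P Q h => by
    rw [one_smul]; exact h) _ _ hJ
  have key := ops h2 R p d _ _ 1 (W := S.lgSub G h2 i) (fun l hl => lgSub_inv hG h2 (fun e => hi (e ▸ hl)))
    (fun l hl => by simp only [hl, if_true]; exact (hd l hl).1) (fun l hl => by simp only [hl, if_true]; exact (hd l hl).2.1)
    (fun l hl => by simp only [hl, if_false, hX1 l hl]) hJ'
  refine ⟨p, ?_⟩
  have hc : (1 + 1 * (-1 : F) ^ R.card) * ∏ l ∈ R, (d l (S.π (p l)) - d l (p l)) ≠ 0 := by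
    rw [he.neg_one_pow, one_mul, one_add_one_eq_two]
    exact mul_ne_zero h2 (Finset.prod_ne_zero_iff.2 fun l hl => (hd l hl).2.2)
  have key' := (S.lgSub G h2 i).smul_mem
    ((1 + 1 * (-1 : F) ^ R.card) * ∏ l ∈ R, (d l (S.π (p l)) - d l (p l)))⁻¹ key
  rw [smul_smul, inv_mul_cancel₀ hc, one_smul] at key'
  show S.rootProd R p ∈ S.lgSub G h2 i
  convert key' using 1
  rw [rootProd]
  congr 1
  funext l
  by_cases hl : l ∈ R
  · simp [hl]
  · simp [hl, hX1 l hl]

/-- An odd number of pieces gives one more. -/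
theorem odd_pieces (hG : S.SOver G) (hall : AllPerm G) (h2 : (2 : F) ≠ 0) (ht : Odd t) {i : Fin t} {a b : Fin k} (h1 : b ≠ a)
    (h1' : b ≠ S.π a) {R : Finset (Fin t)} (hi : i ∉ R) (ho : Odd R.card)
    {X : Fin t → Matrix (Fin k) (Fin k) F} (hX : ∀ l ∈ R, S.IsPiece (X l)) (hX1 : ∀ l, l ∉ R → X l = 1)
    (h : S.Lg G i (pureTens X)) :
    ∃ (R' : Finset (Fin t)) (Y : Fin t → Matrix (Fin k) (Fin k) F), i ∉ R' ∧ R'.Nonempty ∧ Even R'.card ∧
      (∀ l ∈ R', S.IsPiece (Y l)) ∧ (∀ l, l ∉ R' → Y l = 1) ∧ S.Lg G i (pureTens Y) := by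
  classical
  obtain ⟨l, hl⟩ := Finset.card_pos.1 ho.pos
  have hli : l ≠ i := fun e => hi (e ▸ hl)
  obtain ⟨l', hl'⟩ : ∃ l', l' ∉ insert i R := by
    by_contra hc
    push Not at hc
    have hu : insert i R = Finset.univ := Finset.eq_univ_of_forall hc
    have h3 := congrArg Finset.card hu
    rw [Finset.card_insert_of_notMem hi, Finset.card_univ, Fintype.card_fin] at h3
    obtain ⟨r, hr⟩ := ho; obtain ⟨r', hr'⟩ := ht; omega
  rw [Finset.mem_insert, not_or] at hl'
  have hll : l' ≠ l := fun e => hl'.2 (e ▸ hl)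
  set Q := R.erase l
  have hiQ : i ∉ Q := fun e => hi (Finset.mem_of_mem_erase e)
  have hopp : ∀ j, ∃ (x : GL (Fin k) F) (d : Fin k → F) (p : Fin k), S.Iso x ∧ (j ∈ Q →
      X j * conjA x (X j) = Matrix.diagonal d ∧ conjA x (X j) * X j = Matrix.diagonal (fun a => d (S.π a)) ∧
        d (S.π p) - d p ≠ 0) := fun j => by
    by_cases hj : j ∈ Q
    · obtain ⟨x, d, p, hx, e1, e2, e3⟩ := (hX j (Finset.mem_of_mem_erase hj)).opp
      exact ⟨x, d, p, hx, fun _ => ⟨e1, e2, e3⟩⟩
    · exact ⟨1, 0, a, Iso.one S, fun e => absurd e hj⟩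
  choose x d p hx hd using hopp
  obtain ⟨g, hg, hgX⟩ := exists_iso_fu hG hx Q
  have hga : Acts g i i 1 := fun Y => by
    rw [conjA_one, fa_apply, powStd, hgX]
    congr 1
    funext j
    rcases eq_or_ne j i with rfl | hj
    · simp [hiQ]
    · simp [hj]
  obtain ⟨P, hP, hPv⟩ := hall (Equiv.swap l l')
  have eP : P = permGL (Equiv.swap l l') := Units.ext hPv
  have hPa : Acts P i i 1 := by
    have := acts_permGL (F := F) (m := k) (Equiv.swap l l') i
    rw [Equiv.swap_apply_of_ne_of_ne hli.symm (Ne.symm hl'.1)] at this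
    exact eP ▸ this
  have hPX : conjA P (pureTens X) = pureTens (fun j => X ((Equiv.swap l l').symm j)) := by
    rw [eP, conjA_apply, show (permGL (Equiv.swap l l') : GL (Idx k t) F).val = permMat _ from rfl, permMat_pureTens,
      mul_assoc, show (permMat (Equiv.swap l l') : Matrix (Idx k t) (Idx k t) F) *
        ((permGL (Equiv.swap l l') : GL (Idx k t) F)⁻¹).val = 1 from Units.mul_inv (permGL _ : GL (Idx k t) F), mul_one]
  have hΨ : S.Lg G i (conjA g (conjA P (pureTens X))) := (h.conj hG hP hPa).conj hG hg hga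
  have hJ : S.Lg G i _ := h.jordan hG h2 hΨ h1 h1'
  rw [hPX, hgX, pureTens_mul, pureTens_mul] at hJ
  have hJ' := (show ∀ P Q, S.Lg G i (P + Q) → P + (1 : F) • Q ∈ S.lgSub G h2 i from fun P Q h => by
    rw [one_smul]; exact h) _ _ hJ
  have hsw : ∀ j ∈ Q, (Equiv.swap l l').symm j = j := fun j hj => by
    rw [Equiv.symm_swap, Equiv.swap_apply_of_ne_of_ne (Finset.ne_of_mem_erase hj)
      (fun e => hl'.2 (by subst e; exact Finset.mem_of_mem_erase hj))]
  have key := ops h2 Q p d _ _ 1 (W := S.lgSub G h2 i) (fun j hj => lgSub_inv hG h2 (fun e => hiQ (e ▸ hj)))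
    (fun j hj => by simp only [hj, if_true, hsw j hj]; exact (hd j hj).1)
    (fun j hj => by simp only [hj, if_true, hsw j hj]; exact (hd j hj).2.1)
    (fun j hj => ?_) hJ'
  swap
  · simp only [hj, if_false]
    by_cases e : j = l
    · subst e
      rw [Equiv.symm_swap, Equiv.swap_apply_left, hX1 l' hl'.2, one_mul, mul_one]
    · rw [hX1 j (fun h => hj (Finset.mem_erase.2 ⟨e, h⟩)), one_mul, mul_one]
  have hQc : Q.card = R.card - 1 := Finset.card_erase_of_mem hl
  have hQe : Even Q.card := by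
    obtain ⟨r, hr⟩ := ho; rw [hQc]; exact ⟨r, by omega⟩
  have hc : (1 + 1 * (-1 : F) ^ Q.card) * ∏ j ∈ Q, (d j (S.π (p j)) - d j (p j)) ≠ 0 := by
    rw [hQe.neg_one_pow, one_mul, one_add_one_eq_two]
    exact mul_ne_zero h2 (Finset.prod_ne_zero_iff.2 fun j hj => (hd j hj).2.2)
  have key' := (S.lgSub G h2 i).smul_mem
    ((1 + 1 * (-1 : F) ^ Q.card) * ∏ j ∈ Q, (d j (S.π (p j)) - d j (p j)))⁻¹ key
  rw [smul_smul, inv_mul_cancel₀ hc, one_smul] at key'
  refine ⟨insert l' R, fun j => if j ∈ Q then sg (p j) (S.π (p j)) else if j = l ∨ j = l' then X l else 1,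
    by simp [Ne.symm hl'.1, hi], Finset.insert_nonempty _ _, ?_, fun j hj => ?_, fun j hj => ?_, ?_⟩
  · rw [Finset.card_insert_of_notMem hl'.2]; exact ho.add_one
  · by_cases hjQ : j ∈ Q
    · simp only [hjQ, if_true]; exact Or.inl ⟨p j, rfl⟩
    · have : j = l ∨ j = l' := by
        rcases Finset.mem_insert.1 hj with e | e
        · exact Or.inr e
        · exact Or.inl (by_contra fun hne => hjQ (Finset.mem_erase.2 ⟨hne, e⟩))
      simp only [hjQ, if_false, this, if_true]
      exact hX l hl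
  · rw [Finset.mem_insert, not_or] at hj
    have hjQ : j ∉ Q := fun e => hj.2 (Finset.mem_of_mem_erase e)
    have : ¬ (j = l ∨ j = l') := by rintro (e | e); exacts [hj.2 (e ▸ hl), hj.1 e]
    simp only [hjQ, if_false, this]
  · show _ ∈ S.lgSub G h2 i
    convert key' using 1
    congr 1
    funext j
    by_cases hjQ : j ∈ Q
    · simp [hjQ]
    · by_cases e : j = l
      · subst e; simp [hjQ, hX1 l' hl'.2, Equiv.swap_apply_left]
      · by_cases e' : j = l'
        · subst e'; simp [hjQ, hX1 j hl'.2, Equiv.swap_apply_right]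
        · have : j ∉ R := fun h => hjQ (Finset.mem_erase.2 ⟨e, h⟩)
          simp [hjQ, e, e', hX1 j this, Equiv.swap_apply_of_ne_of_ne e e']

/-- A non-scalar coefficient gives the transvections at all the basis vectors. -/
theorem exists_transvection (hG : S.SOver G) (hall : AllPerm G) (h2 : (2 : F) ≠ 0) (hk : 2 ≤ k) (ht : Odd t) (hR : ¬ S.NR G)
    (x : Idx k t) (c : F) : S.InI G (1 + c • Matrix.single x (S.πT x) 1) := by
  classical
  simp only [NR, not_forall, not_exists] at hR
  obtain ⟨i, Φ, hΦ, hns⟩ := hR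
  obtain ⟨X, hX, hXi, ⟨l0, hl0i, hl0⟩, hXW⟩ := exists_pure_ne (W := S.lgSub G h2 i) h2 (by omega) (i := i)
    (fun Ψ hΨ => hΨ.1) (fun l hl => lgSub_inv hG h2 hl) (show Φ ∈ S.lgSub G h2 i from hΦ) hns
  set R := Finset.univ.filter (fun l => S.IsPiece (X l) ∧ l ≠ i) with hRdef
  have hiR : i ∉ R := by simp [hRdef]
  have hRne : R.Nonempty := ⟨l0, by simp [hRdef, hl0, hl0i]⟩
  have hXR : ∀ l ∈ R, S.IsPiece (X l) := fun l hl => (Finset.mem_filter.1 hl).2.1
  have hX1 : ∀ l, l ∉ R → X l = 1 := fun l hl => by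
    rcases eq_or_ne l i with rfl | hli
    · exact hXi
    · exact (hX l).resolve_right fun e => hl (by simp [hRdef, e, hli])
  set a : Fin k := ⟨0, by omega⟩
  obtain ⟨A, f, hiA, hAne, hAe, hA⟩ : ∃ (A : Finset (Fin t)) (f : Fin t → Fin k),
      i ∉ A ∧ A.Nonempty ∧ Even A.card ∧ S.Lg G i (S.rootProd A f) := by
    by_cases hb : ∃ b, b ≠ a ∧ b ≠ S.π a
    · obtain ⟨b, hb1, hb2⟩ := hb
      rcases Nat.even_or_odd R.card with he | ho
      · obtain ⟨f, hf⟩ := even_pieces hG h2 hb1 hb2 hiR he hXR hX1 hXW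
        exact ⟨R, f, hiR, hRne, he, hf⟩
      · obtain ⟨R', Y, hiR', hne, he, hY, hY1, hYW⟩ := odd_pieces hG hall h2 ht hb1 hb2 hiR ho hXR hX1 hXW
        obtain ⟨f, hf⟩ := even_pieces hG h2 hb1 hb2 hiR' he hY hY1 hYW
        exact ⟨R', f, hiR', hne, he, hf⟩
    · push Not at hb
      have hall : ∀ l, ∃ p, l ∈ R → X l = sg p (S.π p) := fun l => by
        by_cases hl : l ∈ R
        · rcases hXR l hl with ⟨p, hp⟩ | ⟨p, q, hq1, hq2, -⟩
          · exact ⟨p, fun _ => hp⟩
          · exfalso
            have hp : p = a ∨ p = S.π a := or_iff_not_imp_left.2 (hb p)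
            have hq : q = a ∨ q = S.π a := or_iff_not_imp_left.2 (hb q)
            rcases hp with rfl | rfl <;> rcases hq with rfl | rfl <;> simp [S.invol] at hq1 hq2
        · exact ⟨a, fun e => absurd e hl⟩
      choose f hf using hall
      have e : pureTens X = S.rootProd R f := by
        rw [rootProd]
        congr 1
        funext l
        by_cases hl : l ∈ R
        · simp [hl, hf l hl]
        · simp [hl, hX1 l hl]
      have hL : S.Lg G i (S.rootProd R f) := e ▸ hXW
      exact ⟨R, f, hiR, hRne, even_of_lg h2 hL, hL⟩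
  have hLT := lt_of_lg hG h2 hiA hA
  have hc : (insert i A).card = A.card + 1 := Finset.card_insert_of_notMem hiA
  have hU := LT.univ hG h2 (by omega) ht _ _ rfl hLT (by rw [hc]; exact hAe.add_one) (by
    rw [hc]; obtain ⟨r, hr⟩ := hAe; have := hAne.card_pos; omega)
  have h := hU x c
  rwa [show S.rootProd Finset.univ x = Matrix.single x (S.πT x) 1 by
    rw [rootProd, single_eq_pureTens]; simp [πT]] at h

end Cfsg.Lib.Linear.SpWreath.Std
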