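import Cfsg.Agent.Lib.Linear.SpWreath.Basic

/-!
# The coefficients of short root elements of one factor
-/

set_option autoImplicit false
set_option linter.unusedSectionVars false

namespace Cfsg.Lib.Linear.SpWreath.Std

open Cfsg.Geo Cfsg.Lib.Linear.AschGen Cfsg.Lib.Linear.TWreath
open scoped Matrix MatrixGroups

variable {F : Type*} [Field F] {k t : ℕ} {S : Std k F} {G : Subgroup (GL (Idx k t) F)} {i : Fin t}

theorem fa_sg_ne {Φ : Matrix (Idx k t) (Idx k t) F} (hΦ : Com i Φ) {a b c d : Fin k} (h : b ≠ c)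
    (Ψ : Matrix (Idx k t) (Idx k t) F) : fa i (sg a b) * Φ * (fa i (sg c d) * Ψ) = 0 :=
  fa_mul_zero hΦ (sg_mul_ne _ _ h) _

theorem fa_sg_eq {Φ : Matrix (Idx k t) (Idx k t) F} (hΦ : Com i Φ) (a b d : Fin k)
    (Ψ : Matrix (Idx k t) (Idx k t) F) : fa i (sg a b) * Φ * (fa i (sg b d) * Ψ) = fa i (sg a d) * (Φ * Ψ) := by
  rw [fa_mul_fa hΦ, sg_mul]

variable (S) in
/-- The short root matrix of a pair. -/
def shm (i : Fin t) (a b : Fin k) (Φ : Matrix (Idx k t) (Idx k t) F) : Matrix (Idx k t) (Idx k t) F :=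
  fa i (sg a b) * Φ - S.adT (fa i (sg a b) * Φ)

theorem adT_sg_mul {Φ : Matrix (Idx k t) (Idx k t) F} (hΦ : Com i Φ) (a b : Fin k) :
    S.adT (fa i (sg a b) * Φ) = fa i (sg (S.π b) (S.π a)) * ((S.e a * S.e b) • S.adT Φ) := by
  rw [S.adT_fa_mul hΦ, S.ad_sg, map_smul, smul_mul_assoc, mul_smul_comm]

theorem shm_eq {Φ : Matrix (Idx k t) (Idx k t) F} (hΦ : Com i Φ) (a b : Fin k) :
    S.shm i a b Φ = fa i (sg a b) * Φ + fa i (sg (S.π b) (S.π a)) * ((-(S.e a * S.e b)) • S.adT Φ) := by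
  rw [shm, adT_sg_mul hΦ, neg_smul, mul_neg, sub_eq_add_neg]

theorem shm_mul_shm {Φ Ψ : Matrix (Idx k t) (Idx k t) F} (hΦ : Com i Φ) (hΨ : Com i Ψ) {a b : Fin k}
    (h1 : b ≠ a) (h2 : b ≠ S.π a) : S.shm i a b Φ * S.shm i a b Ψ = 0 := by
  rw [shm_eq hΦ, shm_eq hΨ, add_mul, mul_add, mul_add, fa_sg_ne hΦ h1, fa_sg_ne hΦ (fun e => S.nofix b e.symm),
    fa_sg_ne ((S.com_adT hΦ).smul _) (S.nofix a), fa_sg_ne ((S.com_adT hΦ).smul _) (fun e => h1 (S.π_inj e.symm)),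
    add_zero, add_zero]

theorem adT_shm (a b : Fin k) (Φ : Matrix (Idx k t) (Idx k t) F) : S.adT (S.shm i a b Φ) = -S.shm i a b Φ := by
  rw [shm, S.adT_sub, S.adT_adT, neg_sub]

variable (S) in
/-- The coefficient is available at every short root of the factor. -/
def Sh (G : Subgroup (GL (Idx k t) F)) (i : Fin t) (Φ : Matrix (Idx k t) (Idx k t) F) : Prop :=
  Com i Φ ∧ ∀ a b : Fin k, b ≠ a → b ≠ S.π a → S.InI G (1 + S.shm i a b Φ)

theorem adT_conjA (hG : S.SOver G) {g : GL (Idx k t) F} (hg : g ∈ G) (M : Matrix (Idx k t) (Idx k t) F) :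
    S.adT (conjA g M) = conjA g (S.adT M) := by
  obtain ⟨c, hc⟩ := hG.le g hg
  have e1 : S.adT g.val = c • (g⁻¹).val := by
    have := congrArg (· * (g⁻¹).val) hc
    simpa only [mul_assoc, Units.mul_inv, mul_one, smul_mul_assoc, one_mul] using this
  have e2 : c • S.adT (g⁻¹).val = g.val := by
    have h2 := congrArg S.adT e1
    rw [S.adT_adT, S.adT_smul] at h2
    exact h2.symm
  rw [conjA_apply, conjA_apply, S.adT_mul, S.adT_mul, e1, mul_smul_comm, mul_smul_comm, ← smul_mul_assoc, e2, mul_assoc]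

theorem conj_shm (hG : S.SOver G) {g : GL (Idx k t) F} (hg : g ∈ G) {a : GL (Fin k) F} (ha : Acts g i i a)
    (p q : Fin k) (Φ : Matrix (Idx k t) (Idx k t) F) :
    conjA g (S.shm i p q Φ) = fa i (conjA a (sg p q)) * conjA g Φ - S.adT (fa i (conjA a (sg p q)) * conjA g Φ) := by
  rw [shm, map_sub, ← adT_conjA hG hg, map_mul, ha]

theorem InI.shm_neg {Φ : Matrix (Idx k t) (Idx k t) F} (hΦ : Com i Φ) {a b : Fin k} (h1 : b ≠ a)
    (h2 : b ≠ S.π a) (h : S.InI G (1 + S.shm i a b Φ)) : S.InI G (1 + S.shm i a b (-Φ)) := by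
  have := h.neg (shm_mul_shm hΦ hΦ h1 h2)
  rwa [sub_eq_add_neg, show -S.shm i a b Φ = S.shm i a b (-Φ) by
    rw [shm, shm, mul_neg, S.adT_neg]; abel] at this

theorem sh_of_one (hG : S.SOver G) {Φ : Matrix (Idx k t) (Idx k t) F} (hΦ : Com i Φ) {a b : Fin k}
    (h1 : b ≠ a) (h2 : b ≠ S.π a) (h : S.InI G (1 + S.shm i a b Φ)) : S.Sh G i Φ := by
  refine ⟨hΦ, fun a' b' h1' h2' => ?_⟩
  obtain ⟨ρ, hρ, rfl, rfl⟩ := S.exists_rho h1 h2 h1' h2'
  have h3 := h.conj hG (hG.sp i _ (S.iso_mon ρ hρ))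
  rw [map_add, map_one, conj_shm hG (hG.sp i _ (S.iso_mon ρ hρ)) (acts_fu i _), conjA_fu_com hΦ, S.conjA_mon,
    map_smul, smul_mul_assoc, ← mul_smul_comm] at h3
  change S.InI G (1 + S.shm i (ρ a) (ρ b) ((S.dsg ρ a * S.dsg ρ b) • Φ)) at h3
  have hsq : (S.dsg ρ a * S.dsg ρ b) * (S.dsg ρ a * S.dsg ρ b) = 1 := by
    linear_combination (S.dsg ρ b * S.dsg ρ b) * S.dsg_sq ρ a + S.dsg_sq ρ b
  rcases mul_self_eq_one_iff.1 hsq with e | e <;> rw [e] at h3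
  · rwa [one_smul] at h3
  · rw [neg_smul, one_smul] at h3
    simpa using h3.shm_neg (by simpa using hΦ.smul (-1 : F)) h1' h2'

theorem Sh.add {Φ Ψ : Matrix (Idx k t) (Idx k t) F} (h : S.Sh G i Φ) (h' : S.Sh G i Ψ) : S.Sh G i (Φ + Ψ) := by
  refine ⟨h.1.add h'.1, fun a b h1 h2 => ?_⟩
  have h3 := (h.2 a b h1 h2).mul (h'.2 a b h1 h2)
  rw [add_mul, one_mul, mul_add, mul_one, shm_mul_shm h.1 h'.1 h1 h2, add_zero] at h3
  rw [show S.shm i a b (Φ + Ψ) = S.shm i a b Φ + S.shm i a b Ψ by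
    simp only [shm, mul_add, S.adT_add]; abel]
  convert h3 using 1
  abel

theorem Sh.zero : S.Sh G i (0 : Matrix (Idx k t) (Idx k t) F) :=
  ⟨fun _ => Commute.zero_right _, fun a b _ _ => by
    rw [shm, mul_zero, S.adT_zero, sub_zero, add_zero]; exact InI.one⟩

theorem Sh.neg {Φ : Matrix (Idx k t) (Idx k t) F} (h : S.Sh G i Φ) : S.Sh G i (-Φ) :=
  ⟨by simpa using h.1.smul (-1 : F), fun a b h1 h2 => (h.2 a b h1 h2).shm_neg h.1 h1 h2⟩

theorem Sh.conj (hG : S.SOver G) {Φ : Matrix (Idx k t) (Idx k t) F} (h : S.Sh G i Φ)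
    {g : GL (Idx k t) F} (hg : g ∈ G) (ha : Acts g i i 1) : S.Sh G i (conjA g Φ) := by
  refine ⟨ha.com h.1, fun a b h1 h2 => ?_⟩
  have := (h.2 a b h1 h2).conj hG hg
  rwa [map_add, map_one, conj_shm hG hg ha, conjA_one] at this

theorem sh_scalar (hG : S.SOver G) (i : Fin t) (c : F) : S.Sh G i (c • 1) := by
  refine ⟨com_scalar i c, fun a b h1 h2 => ?_⟩
  set X : Matrix (Fin k) (Fin k) F := c • sg a b - S.ad (c • sg a b) with hX
  have hXX : X * X = 0 := by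
    rw [hX, S.ad_smul, S.ad_sg, smul_smul]
    simp only [sub_mul, mul_sub, smul_mul_smul_comm]
    rw [sg_mul_ne _ _ h1, sg_mul_ne _ _ (fun e => S.nofix b e.symm), sg_mul_ne _ _ (S.nofix a),
      sg_mul_ne _ _ (fun e => h1 (S.π_inj e.symm))]
    simp
  have hiso : S.ad (1 + X) * (1 + X) = 1 := by
    rw [S.ad_add, S.ad_one, show S.ad X = -X by rw [hX, S.ad_sub, S.ad_ad, neg_sub], ← sub_eq_add_neg,
      show (1 - X) * (1 + X) = 1 - X * X by noncomm_ring, hXX, sub_zero]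
  have h3 := InI.of_fu hG i (a := ⟨1 + X, S.ad (1 + X), mul_eq_one_comm.1 hiso, hiso⟩) hiso
  have e : fa i (1 + X) = 1 + S.shm i a b (c • 1) := by
    rw [map_add, map_one, hX, map_sub, ← S.adT_fa, shm, mul_smul_comm, mul_one, map_smul]
  rwa [e] at h3

theorem InI.long {Φ : Matrix (Idx k t) (Idx k t) F} (h : S.Lg G i Φ) (h2 : (2 : F) ≠ 0) (a : Fin k) :
    S.InI G (1 + fa i (sg a (S.π a)) * Φ) := by
  have h1 := (h.smul h2 (S.e a)).2 (Pi.single a 1)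
  rwa [S.nr_single, map_smul, smul_mul_smul_comm, S.sign, one_smul] at h1

theorem comm_eq {R : Type*} [Ring R] (X Y : R) :
    (1 + X) * (1 + Y) * (1 - X) * (1 - Y) = 1 + (X * Y - Y * X) - X * Y * X + Y * X * Y + X * Y * (X * Y)
      - X * X - Y * Y + X * X * Y - X * (Y * Y) := by noncomm_ring

/-- Two short root elements give a long one. -/
theorem Sh.mul_sh (hG : S.SOver G) (h2' : (2 : F) ≠ 0) {Φ Ψ : Matrix (Idx k t) (Idx k t) F} (h : S.Sh G i Φ)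
    (h' : S.Sh G i Ψ) {a b : Fin k} (h1 : b ≠ a) (h2 : b ≠ S.π a) :
    S.Lg G i (Φ * Ψ + S.adT Ψ * S.adT Φ) := by
  set X := S.shm i a b Φ with hX
  set Y := S.shm i b (S.π a) Ψ with hY
  have g1 : S.π a ≠ b := Ne.symm h2
  have g2 : S.π a ≠ S.π b := fun e => h1 (S.π_inj e).symm
  have hXX : X * X = 0 := shm_mul_shm h.1 h.1 h1 h2
  have hYY : Y * Y = 0 := shm_mul_shm h'.1 h'.1 g1 g2
  set c := S.e a * S.e b with hc
  have hXe : X = fa i (sg a b) * Φ + fa i (sg (S.π b) (S.π a)) * ((-c) • S.adT Φ) := shm_eq h.1 a b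
  have hYe : Y = fa i (sg b (S.π a)) * Ψ + fa i (sg a (S.π b)) * (c • S.adT Ψ) := by
    rw [hY, shm_eq h'.1, S.invol, S.anti, mul_neg, neg_neg, hc, mul_comm (S.e a)]
  have cΦ := (S.com_adT h.1).smul (-c)
  have cΨ := (S.com_adT h'.1).smul c
  have hcc : c * c = 1 := by rw [hc]; linear_combination (S.e b * S.e b) * S.sign a + S.sign b
  have hXY : X * Y = fa i (sg a (S.π a)) * (Φ * Ψ) := by
    rw [hXe, hYe, add_mul, mul_add, mul_add, fa_sg_eq h.1, fa_sg_ne h.1 h1, fa_sg_ne cΦ g1,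
      fa_sg_ne cΦ (S.nofix a), add_zero, add_zero, add_zero]
  have hYX : Y * X = fa i (sg a (S.π a)) * (-(S.adT Ψ * S.adT Φ)) := by
    rw [hXe, hYe, add_mul, mul_add, mul_add, fa_sg_ne h'.1 (S.nofix a), fa_sg_ne h'.1 g2,
      fa_sg_ne cΨ (fun e => h2 (by rw [← e, S.invol])), fa_sg_eq cΨ, smul_mul_smul_comm, mul_neg, hcc, neg_smul,
      one_smul, zero_add, zero_add, zero_add]
  have hXYX : X * Y * X = 0 := by
    rw [hXY, hXe, mul_add, fa_sg_ne (h.1.mul h'.1) (S.nofix a), fa_sg_ne (h.1.mul h'.1) g2, add_zero]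
  have hYXY : Y * X * Y = 0 := by
    have hc' : Com i (-(S.adT Ψ * S.adT Φ)) := by simpa using ((S.com_adT h'.1).mul (S.com_adT h.1)).smul (-1 : F)
    rw [hYX, hYe, mul_add, fa_sg_ne hc' g1, fa_sg_ne hc' (S.nofix a), add_zero]
  have h3 := (((h.2 a b h1 h2).mul (h'.2 b (S.π a) g1 g2)).mul ((h.2 a b h1 h2).neg hXX)).mul
    ((h'.2 b (S.π a) g1 g2).neg hYY)
  have hXYXY : X * Y * (X * Y) = 0 := by rw [← mul_assoc, hXYX, zero_mul]
  rw [← hX, ← hY, comm_eq, hXX, hYY, hXYX, hYXY, hXYXY, hXY, hYX] at h3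
  simp only [zero_mul, mul_zero, sub_zero, add_zero, mul_neg, sub_neg_eq_add, ← mul_add] at h3
  have h4 := lg_of_sg hG (r := (1 : F)) ((h.1.mul h'.1).add ((S.com_adT h'.1).mul (S.com_adT h.1)))
    (by rwa [one_smul])
  have h5 := h4.smul h2' (S.e a)
  rwa [one_mul, smul_smul, S.sign, one_smul] at h5

/-- A diagonal isometry. -/
def dia (S : Std k F) (d : Fin k → F) (hd : ∀ a, d a * d (S.π a) = 1) : GL (Fin k) F :=
  have h : S.ad (Matrix.diagonal d) * Matrix.diagonal d = 1 := by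
    have h1 := S.monMat_iso (ρ := 1) (fun _ => rfl) (d := d) (fun a => by rw [hd]; exact (S.sign a).symm)
    have e : (Matrix.of fun x y => if x = (1 : Equiv.Perm (Fin k)) y then d y else 0) = Matrix.diagonal d := by
      ext x y
      by_cases h : x = y
      · subst h; simp
      · simp [h]
    rwa [e] at h1
  ⟨Matrix.diagonal d, S.ad (Matrix.diagonal d), mul_eq_one_comm.1 h, h⟩

theorem iso_dia (d : Fin k → F) (hd : ∀ a, d a * d (S.π a) = 1) : S.Iso (S.dia d hd) := (S.dia d hd).inv_mul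

theorem conjA_dia (d : Fin k → F) (hd : ∀ a, d a * d (S.π a) = 1) (p q : Fin k) :
    conjA (S.dia d hd) (sg p q) = (d p * d (S.π q)) • sg p q := by
  have h : (S.dia d hd).val * sg p q = ((d p * d (S.π q)) • sg p q) * (S.dia d hd).val := by
    show Matrix.diagonal d * _ = _ * Matrix.diagonal d
    ext x y
    rw [Matrix.diagonal_mul, Matrix.mul_diagonal, Matrix.smul_apply, smul_eq_mul]
    simp only [Matrix.single_apply, mul_ite, ite_mul, mul_one, mul_zero, zero_mul]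
    by_cases h : p = x ∧ q = y
    · obtain ⟨rfl, rfl⟩ := h
      simp only [and_self, if_true]
      linear_combination (-(d p)) * hd q
    · rw [if_neg h, if_neg h]
  rw [conjA_apply, h, mul_assoc, Units.mul_inv, mul_one]

/-- A short root element and a long one give a short one. -/
theorem Sh.mul_lg (hG : S.SOver G) (h2' : (2 : F) ≠ 0) {Φ Ψ : Matrix (Idx k t) (Idx k t) F} (h : S.Sh G i Φ)
    (h' : S.Lg G i Ψ) {a b : Fin k} (h1 : b ≠ a) (h2 : b ≠ S.π a) : S.Sh G i (Φ * Ψ) := by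
  have g1 : S.π a ≠ b := Ne.symm h2
  have g2 : S.π a ≠ S.π b := fun e => h1 (S.π_inj e).symm
  have g3 : S.π b ≠ a := fun e => h2 (by rw [← e, S.invol])
  set Ψ' := (2 : F)⁻¹ • Ψ with hΨ'
  have hΨ'L : S.Lg G i Ψ' := h'.smul h2' _
  set X := S.shm i a b Φ with hX
  set K := fa i (sg b (S.π b)) * Ψ' with hK
  set c := S.e a * S.e b with hc
  have hXe : X = fa i (sg a b) * Φ + fa i (sg (S.π b) (S.π a)) * ((-c) • S.adT Φ) := shm_eq h.1 a b
  have hXX : X * X = 0 := shm_mul_shm h.1 h.1 h1 h2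
  have hKK : K * K = 0 := fa_sg_ne hΨ'L.1 (S.nofix b) _
  have cΦ := (S.com_adT h.1).smul (-c)
  have hXK : X * K = fa i (sg a (S.π b)) * (Φ * Ψ') := by
    rw [hXe, hK, add_mul, fa_sg_eq h.1, fa_sg_ne cΦ g1, add_zero]
  have hKX : K * X = fa i (sg b (S.π a)) * (Ψ' * ((-c) • S.adT Φ)) := by
    rw [hXe, hK, mul_add, fa_sg_ne hΨ'L.1 g3, fa_sg_eq hΨ'L.1, zero_add]
  have hXKX : X * K * X = fa i (sg a (S.π a)) * (Φ * Ψ' * ((-c) • S.adT Φ)) := by
    rw [hXK, hXe, mul_add, fa_sg_ne (h.1.mul hΨ'L.1) g3, fa_sg_eq (h.1.mul hΨ'L.1), zero_add]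
  have hKXK : K * X * K = 0 := by rw [hKX, hK, fa_sg_ne (hΨ'L.1.mul cΦ) g1]
  have hXKXK : X * K * (X * K) = 0 := by
    rw [hXK, fa_sg_ne (h.1.mul hΨ'L.1) g3]
  have hLK := InI.long hΨ'L h2' b
  have h3 := (((h.2 a b h1 h2).mul hLK).mul ((h.2 a b h1 h2).neg hXX)).mul (hLK.neg hKK)
  rw [← hX, ← hK, comm_eq, hXX, hKK, hKXK, hXKXK] at h3
  simp only [zero_mul, mul_zero, sub_zero, add_zero] at h3
  set n := X * K - K * X with hn
  set Z := X * K * X with hZ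
  let d : Fin k → F := fun x => if x = b ∨ x = S.π b then -1 else 1
  have hd : ∀ x, d x * d (S.π x) = 1 := fun x => by
    simp only [d, S.π_inj.eq_iff, show S.π x = b ↔ x = S.π b from ⟨fun e => by rw [← e, S.invol], fun e => by rw [e, S.invol]⟩]
    by_cases hx : x = b ∨ x = S.π b
    · rw [if_pos hx, if_pos (Or.symm hx)]; ring
    · rw [if_neg hx, if_neg (fun e => hx (Or.symm e))]; ring
  have hflip : ∀ (p q : Fin k) (Θ : Matrix (Idx k t) (Idx k t) F), Com i Θ →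
      conjA (fu i (S.dia d hd)) (fa i (sg p q) * Θ) = (d p * d (S.π q)) • (fa i (sg p q) * Θ) := by
    intro p q Θ hΘ
    rw [map_mul, acts_fu, conjA_dia, conjA_fu_com hΘ, map_smul, smul_mul_assoc]
  have da : d a = 1 := if_neg (by rintro (e | e); exacts [h1 e.symm, g3 e.symm])
  have db : d b = -1 := if_pos (Or.inl rfl)
  have hn' : conjA (fu i (S.dia d hd)) n = -n := by
    rw [hn, hXK, hKX, map_sub, hflip _ _ _ (h.1.mul hΨ'L.1), hflip _ _ _ (hΨ'L.1.mul cΦ), S.invol, S.invol, da, db,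
      one_mul, mul_one, neg_one_smul, neg_one_smul]
    abel
  have hZ' : conjA (fu i (S.dia d hd)) Z = Z := by
    rw [hXKX, hflip _ _ _ ((h.1.mul hΨ'L.1).mul cΦ), S.invol, da, one_mul, one_smul]
  have h4 := h3.conj hG (hG.sp i _ (iso_dia d hd))
  rw [map_sub, map_add, map_one, hn', hZ'] at h4
  have hnn : n * n = 0 := by
    rw [hn, hXK, hKX, sub_mul, mul_sub, mul_sub, fa_sg_ne (h.1.mul hΨ'L.1) g3, fa_sg_ne (h.1.mul hΨ'L.1) (S.nofix b),
      fa_sg_ne (hΨ'L.1.mul cΦ) (S.nofix a), fa_sg_ne (hΨ'L.1.mul cΦ) g1, sub_zero, sub_zero]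
  have hnZ : n * Z = 0 := by
    rw [hn, hXK, hKX, hXKX, sub_mul, fa_sg_ne (h.1.mul hΨ'L.1) g3, fa_sg_ne (hΨ'L.1.mul cΦ) (S.nofix a), sub_zero]
  have hZn : Z * n = 0 := by
    rw [hn, hXK, hKX, hXKX, mul_sub, fa_sg_ne ((h.1.mul hΨ'L.1).mul cΦ) (S.nofix a),
      fa_sg_ne ((h.1.mul hΨ'L.1).mul cΦ) g1, sub_zero]
  have hZZ : Z * Z = 0 := by
    rw [hXKX, fa_sg_ne ((h.1.mul hΨ'L.1).mul cΦ) (S.nofix a)]
  have h5 := h3.mul (h4.inv (b := 1 + n + Z) (by
    rw [show (1 + -n - Z) * (1 + n + Z) = 1 - n * n - n * Z - Z * n - Z * Z by noncomm_ring, hnn, hnZ, hZn, hZZ]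
    simp))
  have e : (1 + n - Z) * (1 + n + Z) = 1 + (n + n) := by
    rw [show (1 + n - Z) * (1 + n + Z) = 1 + (n + n) + n * n + n * Z - Z * n - Z * Z by noncomm_ring,
      hnn, hnZ, hZn, hZZ]
    simp
  rw [e] at h5
  refine sh_of_one hG (h.1.mul h'.1) (a := a) (b := S.π b) g3 (fun e => h1 (S.π_inj e)) ?_
  have hfin : S.shm i a (S.π b) (Φ * Ψ) = n + n := by
    rw [shm_eq (h.1.mul h'.1), S.invol, S.anti, S.adT_mul, h'.selfAd a, hn, hXK, hKX, hΨ', ← two_smul F]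
    simp only [mul_smul_comm, smul_mul_assoc, smul_add, smul_sub, smul_smul, mul_inv_cancel₀ h2', one_smul, hc, mul_neg,
      neg_neg, neg_smul, sub_neg_eq_add]
    congr 2
    field_simp
  rwa [hfin]

end Cfsg.Lib.Linear.SpWreath.Std
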