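import Cfsg.Agent.Lib.Linear.SpWreath.Radical
import Cfsg.Agent.Lib.Linear.TWreath.Main

/-!
# Elements of an overgroup carrying a transvection of a factor to one

Without non-scalar coefficients they permute the factors.
-/

set_option autoImplicit false
set_option linter.unusedSectionVars false

namespace Cfsg.Lib.Linear.SpWreath.Std

open Cfsg.Geo Cfsg.Lib.Linear.AschGen Cfsg.Lib.Linear.TWreath
open scoped Matrix MatrixGroups

variable {F : Type*} [Field F] {k t : ℕ} {S : Std k F} {G : Subgroup (GL (Idx k t) F)}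

/-- The matrices of a factor carried into the factor. -/
noncomputable def carr (x : GL (Idx k t) F) (i : Fin t) : Subalgebra F (Matrix (Fin k) (Fin k) F) :=
  ((fa (F := F) (m := k) i).range).comap ((conjA x).toAlgHom.comp (fa i))

theorem mem_carr {x : GL (Idx k t) F} {i : Fin t} {X : Matrix (Fin k) (Fin k) F} :
    X ∈ carr x i ↔ conjA x (fa i X) ∈ (fa (F := F) (m := k) i).range := Iff.rfl

theorem mem_carr' {x : GL (Idx k t) F} {i : Fin t} {X : Matrix (Fin k) (Fin k) F} :
    X ∈ carr x i ↔ ∃ Y, fa i Y = conjA x (fa i X) := Iff.rfl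

theorem carr_fu (x : GL (Idx k t) F) (i : Fin t) (s : GL (Fin k) F) : carr (fu i s * x) i = carr x i := by
  ext X
  rw [mem_carr, mem_carr, conjA_mul]
  constructor
  · rintro ⟨Y, hY⟩
    refine ⟨conjA s⁻¹ Y, ?_⟩
    have h := congrArg (conjA (fu i s)⁻¹) hY
    change conjA (fu i s)⁻¹ (fa i Y) = _ at h
    rwa [(acts_fu i s).inv, conjA_inv] at h
  · rintro ⟨Y, hY⟩
    exact ⟨conjA s Y, ((acts_fu i s) Y).symm.trans (congrArg (conjA (fu i s)) hY)⟩

section Norm

variable {x : GL (Idx k t) F} {i : Fin t} {a : Fin k} {ρ : F} (hρ : ρ ≠ 0)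
  (hE : conjA x (fa i (sg a (S.π a))) = ρ • fa i (sg a (S.π a)))
include hρ hE

theorem conj_left (Y : Matrix (Fin k) (Fin k) F) :
    conjA x (fa i (sg a (S.π a) * Y)) = fa i (sg a (S.π a)) * (ρ • conjA x (fa i Y)) := by
  rw [map_mul, map_mul, hE, smul_mul_assoc, mul_smul_comm]

theorem conj_right (Y : Matrix (Fin k) (Fin k) F) :
    conjA x (fa i (Y * sg a (S.π a))) = (ρ • conjA x (fa i Y)) * fa i (sg a (S.π a)) := by
  rw [map_mul, map_mul, hE, smul_mul_assoc, mul_smul_comm]

theorem E_mem : sg a (S.π a) ∈ carr x i :=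
  mem_carr'.2 ⟨ρ • sg a (S.π a), by rw [map_smul]; exact hE.symm⟩

theorem mul_conj_E (Y : Matrix (Fin k) (Fin k) F) :
    fa i (sg a (S.π a)) * conjA x (fa i Y) = ρ⁻¹ • conjA x (fa i (sg a (S.π a) * Y)) := by
  rw [conj_left hρ hE, mul_smul_comm, smul_smul, inv_mul_cancel₀ hρ, one_smul]

theorem conj_mul_E (Y : Matrix (Fin k) (Fin k) F) :
    conjA x (fa i Y) * fa i (sg a (S.π a)) = ρ⁻¹ • conjA x (fa i (Y * sg a (S.π a))) := by
  rw [conj_right hρ hE, smul_mul_assoc, smul_smul, inv_mul_cancel₀ hρ, one_smul]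

/-- The image of an element of the radical has no middle part. -/
theorem conj_mid (X Y₁ Y₂ : Matrix (Fin k) (Fin k) F) (hX : X = sg a (S.π a) * Y₁ + Y₂ * sg a (S.π a))
    {p q : Fin k} (hp : p ≠ a) (hq : q ≠ S.π a) :
    fa i (sg p p) * conjA x (fa i X) * fa i (sg q q) = 0 := by
  rw [hX, map_add, map_add, conj_left hρ hE, conj_right hρ hE, mul_add, add_mul, ← mul_assoc, ← map_mul,
    sg_mul_ne _ _ hp, map_zero, zero_mul, zero_mul, mul_assoc, mul_assoc, ← map_mul (fa i),
    sg_mul_ne _ _ hq.symm, map_zero, mul_zero, mul_zero, add_zero]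

/-- The products through the opposite root stay in the factor. -/
theorem sandwich {u v U V : Matrix (Fin k) (Fin k) F} (hu : u ∈ carr x i) (hv : v ∈ carr x i)
    (hU : u = U * sg a (S.π a)) (hV : v = sg a (S.π a) * V) : u * sg (S.π a) a * v ∈ carr x i := by
  rw [mem_carr, map_mul, map_mul, map_mul, map_mul]
  set M := conjA x (fa i (sg (S.π a) a))
  set E := fa (t := t) i (sg a (S.π a) : Matrix (Fin k) (Fin k) F) with hEdef
  have hEME : E * M * E = ρ⁻¹ • E := by
    rw [hEdef, mul_conj_E hρ hE, smul_mul_assoc, conj_mul_E hρ hE, sg_mul, sg_mul, hE, smul_smul, smul_smul]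
    congr 1
    field_simp
  set L₁ := conjA x (fa i u) with hL₁
  set L₂ := conjA x (fa i v) with hL₂
  have e1 : L₁ = L₁ * fa i (sg (S.π a) a) * E := by
    rw [mul_assoc, hEdef, ← map_mul, sg_mul, hL₁, hU, conj_right hρ hE, mul_assoc, ← map_mul, sg_mul]
  have e2 : L₂ = E * (fa i (sg (S.π a) a) * L₂) := by
    rw [← mul_assoc, hEdef, ← map_mul, sg_mul, hL₂, hV, conj_left hρ hE, ← mul_assoc, ← map_mul, sg_mul]
  have e : L₁ * M * L₂ = L₁ * fa i (sg (S.π a) a) * (E * M * E) * (fa i (sg (S.π a) a) * L₂) := by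
    conv_lhs => rw [e1, e2]
    simp only [mul_assoc]
  rw [e, hEME]
  exact (fa i).range.mul_mem ((fa i).range.mul_mem ((fa i).range.mul_mem hu ⟨_, rfl⟩)
    ((fa i).range.smul_mem ⟨_, rfl⟩ _)) ((fa i).range.mul_mem ⟨_, rfl⟩ hv)

/-- A radical isometry of the factor is carried into the factor. -/
theorem rad_mem (hG : S.SOver G) (hR : S.NR G) (h2 : (2 : F) ≠ 0) (hx : x ∈ G) {X Y₁ Y₂ : Matrix (Fin k) (Fin k) F}
    (hX : X = sg a (S.π a) * Y₁ + Y₂ * sg a (S.π a)) (h1 : sg a (S.π a) * X = 0) (h1' : X * sg a (S.π a) = 0)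
    (hI : S.InI G (1 + fa i X)) : X ∈ carr x i := by
  have h := hI.conj hG hx
  rw [map_add, map_one] at h
  refine mem_carr.2 (transl (n := conjA x (fa i X)) hG hR h2 a h ?_ ?_ fun p q p1 _ _ q2 => conj_mid hρ hE X Y₁ Y₂ hX p1 q2)
  · rw [mul_conj_E hρ hE, h1, map_zero, map_zero, smul_zero]
  · rw [conj_mul_E hρ hE, h1', map_zero, map_zero, smul_zero]

/-- The middle of an element normalising a root. -/
theorem norm_mid (hG : S.SOver G) (hR : S.NR G) (h2 : (2 : F) ≠ 0) (hx : x ∈ G) :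
    (∀ q r, q ≠ a → q ≠ S.π a → r ≠ a → r ≠ S.π a → sg q r ∈ carr x i) ∧
      ∀ q, q ≠ a → q ≠ S.π a → sg a q ∈ carr x i ∧ sg q (S.π a) ∈ carr x i := by
  classical
  set a' := S.π a with ha'
  have haa : a' ≠ a := S.nofix a
  let d : Fin k → F := fun z => if z = a ∨ z = a' then 1 else -1
  have hd : ∀ z, d z * d (S.π z) = 1 := fun z => by
    have hiff : (S.π z = a ∨ S.π z = a') ↔ (z = a ∨ z = a') := by
      constructor
      · rintro (e | e)
        · exact Or.inr (by rw [ha', ← e, S.invol])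
        · exact Or.inl (S.π_inj e)
      · rintro (e | e)
        · exact Or.inr (by rw [e])
        · exact Or.inl (by rw [e, ha', S.invol])
    simp only [d, hiff]
    split_ifs <;> ring
  set H := (S.dia d hd).val with hH
  have hHd : H = Matrix.diagonal d := rfl
  have hHH : H * H = 1 := by
    rw [hHd, Matrix.diagonal_mul_diagonal, ← Matrix.diagonal_one]
    congr 1
    funext z
    simp only [d]
    split_ifs <;> ring
  set P : Matrix (Fin k) (Fin k) F := sg a a + sg a' a' with hP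
  have hHP : H = (2 : F) • P - 1 := by
    ext p q
    rw [hHd, hP, Matrix.sub_apply, Matrix.smul_apply, Matrix.add_apply]
    by_cases hpq : p = q
    · subst hpq
      by_cases h : p = a <;> by_cases h' : p = a' <;>
        simp [d, h, h', Ne.symm haa, Ne.symm, haa, Matrix.single_apply] <;> norm_num
    · rw [Matrix.diagonal_apply_ne _ hpq, Matrix.one_apply_ne hpq]
      have g : ∀ c : Fin k, (sg c c : Matrix (Fin k) (Fin k) F) p q = 0 := fun c =>
        Matrix.single_apply_of_ne _ _ _ _ _ fun e => hpq (e.1.symm.trans e.2)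
      rw [g, g]; simp
  have hPE : P * sg a a' = sg a a' := by
    rw [hP, add_mul, sg_mul, sg_mul_ne _ _ haa, add_zero]
  have hEP : sg a a' * P = sg a a' := by
    rw [hP, mul_add, sg_mul_ne _ _ haa, sg_mul, zero_add]
  have hHE : H * sg a a' = sg a a' := by rw [hHP, sub_mul, smul_mul_assoc, hPE, one_mul, two_smul, add_sub_cancel_right]
  have hI : S.InI G (fa i H) := InI.of_fu hG i (iso_dia d hd)
  set Δ := conjA x (fa i P) - fa i P with hΔ
  set n := conjA x (fa i H) * fa i H - 1 with hn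
  have hnΔ : n = (2 : F) • (Δ * fa i H) := by
    rw [hn, ← map_one (fa i), ← hHH, map_mul, ← sub_mul, ← smul_mul_assoc, hΔ]
    congr 1
    rw [hHP, map_sub, map_sub, map_one, map_one, map_smul, map_smul, smul_sub]
    abel
  have hn1 : S.InI G (1 + n) := by
    rw [hn, add_sub_cancel]
    exact (hI.conj hG hx).mul hI
  have hPrange : P ∈ carr x i := by
    obtain ⟨N, (hN : fa i N = n)⟩ := transl hG hR h2 a hn1 (by
      rw [hnΔ, mul_smul_comm, ← mul_assoc, hΔ, mul_sub, mul_conj_E hρ hE, hEP, hE, smul_smul, inv_mul_cancel₀ hρ,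
        one_smul, ← map_mul, hEP, sub_self, zero_mul, smul_zero]) (by
      rw [hnΔ, smul_mul_assoc, mul_assoc, ← map_mul, hHE, hΔ, sub_mul, conj_mul_E hρ hE, hPE, hE, smul_smul,
        inv_mul_cancel₀ hρ, one_smul, ← map_mul, hPE, sub_self, smul_zero]) (fun p q p1 p2 q1 q2 => by
      rw [hnΔ, mul_smul_comm, smul_mul_assoc, mul_assoc, mul_assoc Δ, ← map_mul]
      have e : H * sg q q = d q • sg q q := by
        rw [hHd]; ext r s
        rw [Matrix.diagonal_mul, Matrix.smul_apply, smul_eq_mul]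
        simp only [Matrix.single_apply]
        by_cases h : q = r ∧ q = s
        · rw [if_pos h, h.1]
        · rw [if_neg h, mul_zero, mul_zero]
      rw [e, map_smul, mul_smul_comm, mul_smul_comm, ← mul_assoc, hΔ, mul_sub, sub_mul,
        conj_mid hρ hE P (sg a' a) (sg a' a) (by rw [hP, sg_mul, sg_mul]) p1 q2, ← map_mul, ← map_mul, hP, mul_add,
        sg_mul_ne _ _ p1, sg_mul_ne _ _ p2, add_zero, zero_mul, map_zero, sub_zero, smul_zero, smul_zero])
    refine mem_carr'.2 ⟨(2 : F)⁻¹ • (N * H) + P, ?_⟩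
    rw [map_add, map_smul, map_mul]
    show (2 : F)⁻¹ • (fa i N * fa i H) + fa i P = conjA x (fa i P)
    rw [show fa i N = n from hN, hnΔ, smul_mul_assoc, smul_smul, inv_mul_cancel₀ h2, one_smul, mul_assoc, ← map_mul,
      hHH, map_one, mul_one, hΔ, sub_add_cancel]
  have hX : ∀ q, q ≠ a → q ≠ a' → sg a q ∈ carr x i ∧ (S.e a * S.e q) • sg (S.π q) a' ∈ carr x i := by
    intro q q1 q2
    have g1 : S.π q ≠ a := fun e => q2 (by rw [ha', ← e, S.invol])
    have g2 : S.π q ≠ a' := fun e => q1 (S.π_inj e)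
    set X := (sg a q : Matrix (Fin k) (Fin k) F) - S.ad (sg a q) with hX
    have hXe : X = sg a q - (S.e a * S.e q) • sg (S.π q) a' := by rw [hX, S.ad_sg]
    have hXm : X ∈ carr x i := by
      refine rad_mem hρ hE hG hR h2 hx (Y₁ := sg a' q) (Y₂ := -((S.e a * S.e q) • sg (S.π q) a)) ?_ ?_ ?_ ?_
      · rw [hXe, sg_mul, neg_mul, smul_mul_assoc, sg_mul, sub_eq_add_neg]
      · rw [hXe, mul_sub, mul_smul_comm, sg_mul_ne _ _ haa, sg_mul_ne _ _ g2.symm, smul_zero, sub_zero]
      · rw [hXe, sub_mul, smul_mul_assoc, sg_mul_ne _ _ q1, sg_mul_ne _ _ haa, smul_zero, sub_zero]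
      · have h := (sh_scalar hG i (1 : F)).2 a q q1 q2
        rw [shm, one_smul, mul_one, S.adT_fa, ← map_sub] at h
        exact h
    have hQ : (1 : Matrix (Fin k) (Fin k) F) - P ∈ carr x i := sub_mem (one_mem _) hPrange
    refine ⟨?_, ?_⟩
    · have e : sg a q = P * X * (1 - P) := by
        rw [hXe, hP]
        simp only [mul_sub, sub_mul, add_mul, mul_add, mul_smul_comm, smul_mul_assoc, sg_mul, sg_mul_ne _ _ haa,
          sg_mul_ne _ _ haa.symm, sg_mul_ne _ _ g1.symm, sg_mul_ne _ _ g2.symm, sg_mul_ne _ _ q1, sg_mul_ne _ _ q2,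
          smul_zero, add_zero, zero_add, sub_zero, mul_one]
      rw [e]
      exact mul_mem (mul_mem hPrange hXm) hQ
    · have e : (S.e a * S.e q) • sg (S.π q) a' = -((1 - P) * X * P) := by
        rw [hXe, hP]
        simp only [mul_sub, sub_mul, add_mul, mul_add, mul_smul_comm, smul_mul_assoc, sg_mul, sg_mul_ne _ _ haa,
          sg_mul_ne _ _ haa.symm, sg_mul_ne _ _ g1.symm, sg_mul_ne _ _ g2.symm, sg_mul_ne _ _ q1, sg_mul_ne _ _ q2,
          smul_zero, add_zero, zero_add, sub_zero, one_mul, zero_mul, zero_sub, sub_self]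
        simp [haa]
      rw [e]
      exact neg_mem (mul_mem (mul_mem hQ hXm) hPrange)
  have hqa : ∀ q, q ≠ a → q ≠ a' → sg q a' ∈ carr x i := fun q q1 q2 => by
    have g1 : S.π q ≠ a := fun e => q2 (by rw [ha', ← e, S.invol])
    have g2 : S.π q ≠ a' := fun e => q1 (S.π_inj e)
    have h := (carr x i).smul_mem (hX (S.π q) g1 g2).2 (S.e a * S.e (S.π q))
    rwa [S.invol, smul_smul, show S.e a * S.e (S.π q) * (S.e a * S.e (S.π q)) = 1 by
      linear_combination (S.e (S.π q) * S.e (S.π q)) * S.sign a + S.sign (S.π q), one_smul] at h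
  refine ⟨fun q r q1 q2 r1 r2 => ?_, fun q q1 q2 => ⟨(hX q q1 q2).1, hqa q q1 q2⟩⟩
  have h := sandwich hρ hE (hqa q q1 q2) (hX r r1 r2).1 (U := sg q a) (V := sg a' r) (by rw [sg_mul]) (by rw [sg_mul])
  rwa [sg_mul, sg_mul] at h

/-- The single pair. -/
theorem norm_two (hG : S.SOver G) (hR : S.NR G) (h2 : (2 : F) ≠ 0) (hx : x ∈ G) (hall : ∀ q, q = a ∨ q = S.π a)
    {α : F} (hα : α ≠ 0) (hα2 : α * α ≠ 1) : sg (S.π a) a ∈ carr x i := by
  classical
  set a' := S.π a with ha'
  have haa : a' ≠ a := S.nofix a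
  let d : Fin k → F := fun z => if z = a then α else α⁻¹
  have hd : ∀ z, d z * d (S.π z) = 1 := fun z => by
    rcases hall z with rfl | rfl
    · simp [d, S.nofix, mul_inv_cancel₀ hα]
    · rw [show S.π a' = a from S.invol a]; simp [d, haa, hα]
  set H := (S.dia d hd).val with hH
  set H' := ((S.dia d hd)⁻¹).val with hH'
  have hHd : H = Matrix.diagonal d := rfl
  set P : Matrix (Fin k) (Fin k) F := sg a a with hP
  have h1P : (1 : Matrix (Fin k) (Fin k) F) = P + sg a' a' := by
    ext p q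
    rcases hall p with rfl | rfl <;> rcases hall q with rfl | rfl <;>
      simp [hP, ha', Matrix.single_apply, S.nofix, (S.nofix _).symm, Matrix.one_apply]
  have hHP : H = α⁻¹ • (1 : Matrix (Fin k) (Fin k) F) + (α - α⁻¹) • P := by
    ext p q
    rw [hHd, hP, Matrix.add_apply, Matrix.smul_apply, Matrix.smul_apply]
    by_cases hpq : p = q
    · subst hpq
      by_cases h : p = a
      · subst h; simp [d]
      · simp [d, h, Matrix.single_apply, Ne.symm h]
    · have e : (sg a a : Matrix (Fin k) (Fin k) F) p q = 0 :=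
        Matrix.single_apply_of_ne _ _ _ _ _ fun e => hpq (e.1.symm.trans e.2)
      rw [Matrix.diagonal_apply_ne _ hpq, Matrix.one_apply_ne hpq, e]
      simp
  have hPE : P * sg a a' = sg a a' := by rw [hP, sg_mul]
  have hEP : sg a a' * P = 0 := by rw [hP, sg_mul_ne _ _ haa]
  have hHE : H * sg a a' = α • sg a a' := by
    rw [hHP, add_mul, smul_mul_assoc, smul_mul_assoc, one_mul, hPE, ← add_smul]; congr 1; ring
  have hH'E : H' * sg a a' = α⁻¹ • sg a a' := by
    have h := congrArg (H' * ·) hHE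
    simp only [← mul_assoc, hH', hH, Units.inv_mul, one_mul, mul_smul_comm] at h
    rw [hH']
    conv_rhs => rw [h]
    rw [smul_smul, inv_mul_cancel₀ hα, one_smul]
  set Δ := conjA x (fa i P) - fa i P with hΔ
  set n := conjA x (fa i H) * fa i H' - 1 with hn
  have hnΔ : n = (α - α⁻¹) • (Δ * fa i H') := by
    have h1 : (1 : Matrix (Idx k t) (Idx k t) F) = fa i H * fa i H' := by
      rw [← map_mul, hH, hH', Units.mul_inv, map_one]
    rw [hn, h1, ← sub_mul, ← smul_mul_assoc, hΔ]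
    congr 1
    rw [hHP, map_add, map_add, map_smul, map_smul, map_smul, map_smul, map_one, map_one, smul_sub]
    abel
  have hI : S.InI G (1 + n) := by
    rw [hn, add_sub_cancel]
    exact ((InI.of_fu hG i (iso_dia d hd)).conj hG hx).mul (InI.of_fu hG i (Iso.inv S (iso_dia d hd)))
  obtain ⟨N, (hN : fa i N = n)⟩ := transl hG hR h2 a hI (by
    rw [hnΔ, mul_smul_comm, ← mul_assoc, hΔ, mul_sub, mul_conj_E hρ hE, hEP, map_zero, map_zero, smul_zero,
      ← map_mul, hEP, map_zero, sub_zero, zero_mul, smul_zero]) (by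
    rw [hnΔ, smul_mul_assoc, mul_assoc, ← map_mul, hH'E, map_smul, mul_smul_comm, hΔ, sub_mul, conj_mul_E hρ hE,
      hPE, hE, inv_smul_smul₀ hρ, ← map_mul, hPE, sub_self]
    simp)
    (fun p q p1 p2 _ _ => absurd (hall p) (not_or.2 ⟨p1, p2⟩))
  have hne : α - α⁻¹ ≠ 0 := fun e => hα2 (by
    rw [sub_eq_zero] at e
    nth_rewrite 1 [e]
    rw [inv_mul_cancel₀ hα])
  have hPm : P ∈ carr x i := by
    refine mem_carr'.2 ⟨(α - α⁻¹)⁻¹ • (N * H) + P, ?_⟩
    rw [map_add, map_smul, map_mul]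
    show (α - α⁻¹)⁻¹ • (fa i N * fa i H) + fa i P = conjA x (fa i P)
    rw [show fa i N = n from hN, hnΔ, smul_mul_assoc, smul_smul, inv_mul_cancel₀ hne, one_smul, mul_assoc,
      ← map_mul, hH', hH, Units.inv_mul, map_one, mul_one, hΔ, sub_add_cancel]
  have hP'm : sg a' a' ∈ carr x i := by
    rw [show (sg a' a' : Matrix (Fin k) (Fin k) F) = 1 - P by rw [h1P, add_sub_cancel_left]]
    exact sub_mem (one_mem _) hPm
  have h := sandwich hρ hE hP'm hPm (U := sg a' a) (V := sg a' a) (by rw [sg_mul]) (by rw [hP, sg_mul])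
  rwa [hP, sg_mul, sg_mul] at h

/-- An element normalising a root of a factor preserves the factor. -/
theorem slab_acts (hG : S.SOver G) (hR : S.NR G) (h2 : (2 : F) ≠ 0) (hx : x ∈ G)
    (htor : k ≤ 2 → ∃ α : F, α ≠ 0 ∧ α * α ≠ 1) : ∃ b, Acts x i i b := by
  classical
  set a' := S.π a with ha'
  have haa : a' ≠ a := S.nofix a
  obtain ⟨hmid, hcr⟩ := norm_mid hρ hE hG hR h2 hx
  have hopp : sg a' a ∈ carr x i := by
    by_cases hex : ∃ c, c ≠ a ∧ c ≠ a'
    · obtain ⟨c, c1, c2⟩ := hex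
      have c'1 : S.π c ≠ a := fun e => c2 (by rw [ha', ← e, S.invol])
      have c'2 : S.π c ≠ a' := fun e => c1 (S.π_inj e)
      obtain ⟨Λ₁, hΛ₁⟩ := (hcr c c1 c2).2
      obtain ⟨Λ₂, hΛ₂⟩ := (hcr (S.π c) c'1 c'2).1
      obtain ⟨L, hL⟩ := hmid c (S.π c) c1 c2 c'1 c'2
      change fa i L = conjA x (fa i (sg c (S.π c))) at hL
      change fa i Λ₁ = conjA x (fa i (sg c a')) at hΛ₁
      change fa i Λ₂ = conjA x (fa i (sg a (S.π c))) at hΛ₂
      have hsk : S.ad L = -L := fa_injective (Fin.pos a) i (by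
        rw [map_neg, ← S.adT_fa, hL, adT_conjA hG hx, S.adT_fa, S.ad_sg_long, map_neg, map_neg])
      have hL0 : L ≠ 0 := fun e => by
        rw [e, map_zero] at hL
        exact sg_ne (F := F) c (S.π c) (fa_injective (Fin.pos a) i
          ((conjA x).injective (hL.symm.trans (map_zero _).symm) |>.trans (map_zero _).symm))
      obtain ⟨u, φ, huφ⟩ : ∃ u φ : Fin k → F, L = Matrix.vecMulVec u φ := by
        refine ⟨ρ⁻¹ • (Λ₁ *ᵥ Pi.single a' 1), Pi.single a 1 ᵥ* Λ₂, fa_injective (Fin.pos a) i ?_⟩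
        rw [hL, Matrix.smul_vecMulVec, map_smul, ← Matrix.mul_vecMulVec,
          show Matrix.vecMulVec (Pi.single a' 1) (Pi.single a 1 ᵥ* Λ₂) = sg a' a * Λ₂ by
            rw [← Matrix.vecMulVec_mul, ← Matrix.single_eq_single_vecMulVec_single], map_mul, map_mul, hΛ₁, hΛ₂]
        have e1 : (sg c (S.π c) : Matrix (Fin k) (Fin k) F) = sg c a' * sg a' a * sg a (S.π c) := by rw [sg_mul, sg_mul]
        rw [e1, map_mul, map_mul, map_mul, map_mul]
        set M := conjA x (fa i (sg a' a))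
        set E := fa (t := t) i (sg a a' : Matrix (Fin k) (Fin k) F) with hEdef
        have hEME : E * M * E = ρ⁻¹ • E := by
          rw [hEdef, ha', mul_conj_E hρ hE, smul_mul_assoc, conj_mul_E hρ hE, sg_mul, sg_mul, hE, smul_smul, smul_smul]
          congr 1
          field_simp
        have f1 : conjA x (fa i (sg c a')) = conjA x (fa i (sg c a')) * fa i (sg a' a) * E := by
          rw [mul_assoc, hEdef, ← map_mul, sg_mul, show sg c a' = sg c a * sg a a' by rw [sg_mul],
            ha', conj_right hρ hE, mul_assoc, ← map_mul (fa i), sg_mul]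
        have f2 : conjA x (fa i (sg a (S.π c))) = E * (fa i (sg a' a) * conjA x (fa i (sg a (S.π c)))) := by
          rw [← mul_assoc, hEdef, ← map_mul, sg_mul, show sg a (S.π c) = sg a a' * sg a' (S.π c) by rw [sg_mul],
            ha', conj_left hρ hE, ← mul_assoc, ← map_mul (fa i), sg_mul]
        set L₁ := conjA x (fa i (sg c a'))
        set L₂ := conjA x (fa i (sg a (S.π c)))
        calc L₁ * M * L₂ = L₁ * fa i (sg a' a) * (E * M * E) * (fa i (sg a' a) * L₂) := by
              conv_lhs => rw [f1, f2]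
              simp only [mul_assoc]
          _ = ρ⁻¹ • (L₁ * (fa i (sg a' a) * L₂)) := by
            rw [hEME, mul_smul_comm, smul_mul_assoc, ← f1]
      obtain ⟨r, hr⟩ : ∃ r : F, L = r • S.nr u := by
        have hu0 : u ≠ 0 := fun e => hL0 (by rw [huφ, e, Matrix.zero_vecMulVec])
        obtain ⟨b0, hb0⟩ := Function.ne_iff.1 hu0
        refine ⟨-(-(S.e b0 * φ (S.π b0))) / u b0, ?_⟩
        ext p q
        have h := congrFun (congrFun hsk b0) q
        rw [huφ] at h
        simp only [ad, Matrix.of_apply, Matrix.vecMulVec_apply, Matrix.neg_apply] at h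
        rw [huφ]
        simp only [nr, dual, Matrix.smul_apply, Matrix.vecMulVec_apply, smul_eq_mul]
        have hb0' : u b0 ≠ 0 := hb0
        field_simp
        linear_combination u p * h
      have hr0 : r ≠ 0 := fun e => hL0 (by rw [hr, e, zero_smul])
      have hu0 : u ≠ 0 := fun e => hL0 (by rw [huφ, e, Matrix.zero_vecMulVec])
      obtain ⟨s, hs, hsu⟩ := S.exists_move hu0 (w := Pi.single c 1) (by simp)
      have hE2 : conjA (fu i s * x) (fa i (sg c (S.π c))) = (r * S.e c) • fa i (sg c (S.π c)) := by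
        rw [conjA_mul, ← hL, acts_fu, hr, map_smul, S.conjA_nr hs, hsu, S.nr_single, smul_smul, map_smul]
      have h := (norm_mid (mul_ne_zero hr0 (S.e_ne c)) hE2 hG hR h2 (G.mul_mem (hG.sp i s hs) hx)).1 a' a
        c2.symm c'2.symm c1.symm c'1.symm
      rwa [carr_fu] at h
    · push Not at hex
      have hall : ∀ q, q = a ∨ q = a' := fun q => or_iff_not_imp_left.2 (hex q)
      have hk : k ≤ 2 := by
        have h : (Finset.univ : Finset (Fin k)) ⊆ {a, a'} := fun q _ => by
          rcases hall q with rfl | rfl <;> simp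
        have := (Finset.card_le_card h).trans Finset.card_le_two
        simpa using this
      obtain ⟨α, hα, hα2⟩ := htor hk
      exact norm_two hρ hE hG hR h2 hx hall hα hα2
  have hPa : sg a a ∈ carr x i := by
    rw [show (sg a a : Matrix (Fin k) (Fin k) F) = sg a a' * sg a' a by rw [sg_mul]]
    exact mul_mem (E_mem hρ hE) hopp
  have hto : ∀ q, sg a q ∈ carr x i := fun q => by
    by_cases q1 : q = a
    · subst q1; exact hPa
    by_cases q2 : q = a'
    · subst q2; exact E_mem hρ hE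
    exact (hcr q q1 q2).1
  have hfrom : ∀ q, sg q a ∈ carr x i := fun q => by
    by_cases q1 : q = a
    · subst q1; exact hPa
    by_cases q2 : q = a'
    · subst q2; exact hopp
    rw [show (sg q a : Matrix (Fin k) (Fin k) F) = sg q a' * sg a' a by rw [sg_mul]]
    exact mul_mem (hcr q q1 q2).2 hopp
  refine exists_acts (Fin.pos a) fun X => ?_
  have hX : X ∈ carr x i := by
    rw [Matrix.matrix_eq_sum_single X]
    refine sum_mem fun p _ => sum_mem fun q _ => ?_
    rw [show Matrix.single p q (X p q) = X p q • (sg p q : Matrix (Fin k) (Fin k) F) by simp,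
      show (sg p q : Matrix (Fin k) (Fin k) F) = sg p a * sg a q by rw [sg_mul]]
    exact (carr x i).smul_mem (mul_mem (hfrom p) (hto q)) _
  obtain ⟨Y, hY⟩ := hX
  exact ⟨Y, hY.symm⟩

end Norm

/-- A transvection of the `i`-th factor. -/
def IsTv (S : Std k F) (x : GL (Idx k t) F) (i : Fin t) : Prop :=
  ∃ (u : Fin k → F) (c : F), u ≠ 0 ∧ c ≠ 0 ∧ x.val = 1 + c • fa i (S.nr u)

/-- The standing hypotheses. -/
structure Ctx (S : Std k F) (G : Subgroup (GL (Idx k t) F)) : Prop where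
  h2 : (2 : F) ≠ 0
  hk : 2 ≤ k
  ht : 2 ≤ t
  hov : S.SOver G
  nr : S.NR G
  tor : k ≤ 2 → ∃ α : F, α ≠ 0 ∧ α * α ≠ 1
  cut : ∀ x ∈ G, ∀ i a, Acts x i i a → x ∈ mst k t F

theorem IsTv.mem {x : GL (Idx k t) F} {i : Fin t} (h : S.IsTv x i) (hG : S.SOver G) : x ∈ G := by
  obtain ⟨u, c, -, -, hx⟩ := h
  have : x = fu i (S.trv u c) := Units.ext (by rw [hx, fu_val, S.trv_val, map_add, map_one, map_smul])
  exact this ▸ hG.sp i _ (S.iso_trv u c)

/-- An element carrying a transvection to a transvection permutes the factors. -/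
theorem Ctx.mem_of_tv_perm (C : Ctx S G) {σ : Equiv.Perm (Fin t)} {g s : GL (Idx k t) F} (hg : g ∈ G) {i j : Fin t} (hs : S.IsTv s i)
    (hs' : S.IsTv (g * s * g⁻¹) j) (hσ : Equiv.Perm.sign σ = 1) (hσj : σ j = i) : g ∈ mst k t F := by
  obtain ⟨u, c, hu, hc, hsv⟩ := hs
  obtain ⟨v, d, hv, hd, hsv'⟩ := hs'
  set a : Fin k := ⟨0, by have := C.hk; omega⟩
  set w : Fin k → F := Pi.single a 1
  have hw : w ≠ 0 := by simp [w]
  obtain ⟨b₁, hb₁, hb₁u⟩ := S.exists_move hw hu
  obtain ⟨b₂, hb₂, hb₂v⟩ := S.exists_move hv hw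
  obtain ⟨P, hP, hPv⟩ := C.hov.perm σ hσ
  have hPa : Acts P j i 1 := by
    have e : P = permGL σ := Units.ext hPv
    have h := acts_permGL (F := F) (m := k) σ j
    rw [hσj] at h
    exact e ▸ h
  set x := fu i b₂ * (P * (g * fu i b₁)) with hx
  have hxG : x ∈ G := G.mul_mem (C.hov.sp i b₂ hb₂) (G.mul_mem hP (G.mul_mem hg (C.hov.sp i b₁ hb₁)))
  have hgN : conjA g (fa i (S.nr u)) = (d / c) • fa j (S.nr v) := by
    have h := hsv'
    rw [val_conj, hsv, map_add, map_one, map_smul] at h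
    have h1 := congrArg (c⁻¹ • ·) (add_left_cancel h)
    simp only [smul_smul, inv_mul_cancel₀ hc, one_smul] at h1
    rw [h1, inv_mul_eq_div]
  have hE : conjA x (fa i (sg a (S.π a))) = (d / c) • fa i (sg a (S.π a)) := by
    have h : conjA x (fa i (S.nr w)) = (d / c) • fa i (S.nr w) := by
      rw [hx, conjA_mul, conjA_mul, conjA_mul, acts_fu i b₁, S.conjA_nr hb₁, hb₁u, hgN, map_smul, hPa, conjA_one,
        map_smul, acts_fu i b₂, S.conjA_nr hb₂, hb₂v]
    rw [S.nr_single, map_smul, map_smul, smul_comm] at h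
    exact smul_right_injective _ (S.e_ne a) h
  obtain ⟨b, hb⟩ := slab_acts (div_ne_zero hd hc) hE C.hov C.nr C.h2 hxG C.tor
  have hm : x ∈ mst k t F := C.cut x hxG i b hb
  have hPm : P ∈ mst k t F := by
    rw [show P = permGL σ from Units.ext hPv]
    exact permGL_mem_mst _
  have e : g = P⁻¹ * ((fu i b₂)⁻¹ * x) * (fu i b₁)⁻¹ := by rw [hx]; group
  rw [e]
  exact (mst k t F).mul_mem ((mst k t F).mul_mem ((mst k t F).inv_mem hPm)
    ((mst k t F).mul_mem ((mst k t F).inv_mem (fu_mem_mst i b₂)) hm)) ((mst k t F).inv_mem (fu_mem_mst i b₁))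

/-- The centraliser of a transvection permutes the factors. -/
theorem Ctx.cent_tv (C : Ctx S G) {g s : GL (Idx k t) F} (hg : g ∈ G) {i : Fin t} (hs : S.IsTv s i)
    (hc : Commute g s) : g ∈ mst k t F :=
  C.mem_of_tv_perm hg hs (j := i) (σ := 1) (by rwa [hc.eq, mul_inv_cancel_right]) (map_one _) rfl

end Cfsg.Lib.Linear.SpWreath.Std
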