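import Cfsg.Agent.Lib.Linear.TWreath.Cut

/-!
# The standard symplectic structure on the factors of a tensor power
-/

set_option autoImplicit false
set_option linter.unusedSectionVars false

namespace Cfsg.Lib.Linear.SpWreath

open Cfsg.Geo Cfsg.Lib.Linear.AschGen Cfsg.Lib.Linear.TWreath
open scoped Matrix MatrixGroups

variable {F : Type*} [Field F] {k t : ℕ}

/-- A monomial alternating Gram matrix: the pairing and its signs. -/
structure Std (k : ℕ) (F : Type*) [Field F] where
  /-- The partner of an index. -/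
  π : Fin k → Fin k
  /-- The sign of an index. -/
  e : Fin k → F
  invol : ∀ a, π (π a) = a
  nofix : ∀ a, π a ≠ a
  sign : ∀ a, e a * e a = 1
  anti : ∀ a, e (π a) = -e a

namespace Std

variable (S : Std k F)

theorem e_ne (a : Fin k) : S.e a ≠ 0 := fun h => by
  have := S.sign a
  rw [h, mul_zero] at this
  exact zero_ne_one this

theorem π_inj : Function.Injective S.π := fun a b h => by rw [← S.invol a, h, S.invol]

/-- The partner as a permutation. -/
def πP : Equiv.Perm (Fin k) := ⟨S.π, S.π, S.invol, S.invol⟩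

/-- The adjoint on one factor. -/
def ad (X : Matrix (Fin k) (Fin k) F) : Matrix (Fin k) (Fin k) F :=
  Matrix.of fun a b => S.e a * S.e b * X (S.π b) (S.π a)

theorem ad_mul (X Y : Matrix (Fin k) (Fin k) F) : S.ad (X * Y) = S.ad Y * S.ad X := by
  ext a b
  simp only [ad, Matrix.of_apply, Matrix.mul_apply, Finset.mul_sum]
  rw [← Equiv.sum_comp S.πP]
  refine Finset.sum_congr rfl fun z _ => ?_
  show S.e a * S.e b * (X (S.π b) (S.π z) * Y (S.π z) (S.π a)) = _
  linear_combination (-(S.e a * S.e b * X (S.π b) (S.π z) * Y (S.π z) (S.π a))) * S.sign z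

theorem ad_one : S.ad 1 = 1 := by
  ext a b
  simp only [ad, Matrix.of_apply, Matrix.one_apply, S.π_inj.eq_iff]
  by_cases h : a = b
  · subst h; simp [S.sign]
  · simp [h, Ne.symm h]

theorem ad_add (X Y : Matrix (Fin k) (Fin k) F) : S.ad (X + Y) = S.ad X + S.ad Y := by
  ext a b; simp [ad, mul_add]

theorem ad_sub (X Y : Matrix (Fin k) (Fin k) F) : S.ad (X - Y) = S.ad X - S.ad Y := by
  ext a b; simp [ad, mul_sub]

theorem ad_smul (c : F) (X : Matrix (Fin k) (Fin k) F) : S.ad (c • X) = c • S.ad X := by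
  ext a b; simp [ad, mul_left_comm]

theorem ad_zero : S.ad 0 = 0 := by ext a b; simp [ad]

theorem ad_ad (X : Matrix (Fin k) (Fin k) F) : S.ad (S.ad X) = X := by
  ext a b
  simp only [ad, Matrix.of_apply, S.invol, S.anti]
  linear_combination (S.e b * S.e b * X a b) * S.sign a + X a b * S.sign b

theorem ad_sg (a b : Fin k) : S.ad (sg a b) = (S.e a * S.e b) • sg (S.π b) (S.π a) := by
  ext x y
  simp only [ad, Matrix.of_apply, Matrix.smul_apply, Matrix.single_apply, smul_eq_mul, mul_ite, mul_one, mul_zero]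
  by_cases h : a = S.π y ∧ b = S.π x
  · obtain ⟨rfl, rfl⟩ := h
    simp only [S.invol, S.anti, and_self, if_true]
    ring
  · rw [if_neg h, if_neg]
    rintro ⟨rfl, rfl⟩
    exact h ⟨(S.invol a).symm, (S.invol b).symm⟩

theorem ad_sg_long (a : Fin k) : S.ad (sg a (S.π a)) = -sg a (S.π a) := by
  rw [ad_sg, S.invol, S.anti, mul_neg, S.sign, neg_smul, one_smul]

/-- The partner on the tensor power. -/
def πT (x : Idx k t) : Idx k t := fun l => S.π (x l)

/-- The sign on the tensor power. -/
def eT (x : Idx k t) : F := ∏ l, S.e (x l)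

theorem eT_sq (x : Idx k t) : S.eT x * S.eT x = 1 := by
  rw [eT, ← Finset.prod_mul_distrib]
  exact Finset.prod_eq_one fun l _ => S.sign _

theorem eT_πT (x : Idx k t) : S.eT (S.πT x) = (-1) ^ t * S.eT x := by
  show ∏ l, S.e (S.π (x l)) = _
  simp [S.anti, Finset.prod_neg, eT]

theorem πT_πT (x : Idx k t) : S.πT (S.πT x) = x := funext fun _ => S.invol _

theorem πT_inj : Function.Injective (S.πT (t := t)) := fun a b h => by rw [← S.πT_πT a, h, S.πT_πT]

/-- The partner on the tensor power as a permutation. -/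
def πTP : Equiv.Perm (Idx k t) := ⟨S.πT, S.πT, S.πT_πT, S.πT_πT⟩

/-- The adjoint on the tensor power. -/
def adT (M : Matrix (Idx k t) (Idx k t) F) : Matrix (Idx k t) (Idx k t) F :=
  Matrix.of fun x y => S.eT x * S.eT y * M (S.πT y) (S.πT x)

theorem adT_mul (M N : Matrix (Idx k t) (Idx k t) F) : S.adT (M * N) = S.adT N * S.adT M := by
  ext a b
  simp only [adT, Matrix.of_apply, Matrix.mul_apply, Finset.mul_sum]
  rw [← Equiv.sum_comp S.πTP]
  refine Finset.sum_congr rfl fun z _ => ?_
  show S.eT a * S.eT b * (M (S.πT b) (S.πT z) * N (S.πT z) (S.πT a)) = _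
  linear_combination (-(S.eT a * S.eT b * M (S.πT b) (S.πT z) * N (S.πT z) (S.πT a))) * S.eT_sq z

theorem adT_one : S.adT (1 : Matrix (Idx k t) (Idx k t) F) = 1 := by
  ext a b
  simp only [adT, Matrix.of_apply, Matrix.one_apply, S.πT_inj.eq_iff]
  by_cases h : a = b
  · subst h; simp [S.eT_sq]
  · simp [h, Ne.symm h]

theorem adT_add (M N : Matrix (Idx k t) (Idx k t) F) : S.adT (M + N) = S.adT M + S.adT N := by
  ext a b; simp [adT, mul_add]

theorem adT_sub (M N : Matrix (Idx k t) (Idx k t) F) : S.adT (M - N) = S.adT M - S.adT N := by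
  ext a b; simp [adT, mul_sub]

theorem adT_neg (M : Matrix (Idx k t) (Idx k t) F) : S.adT (-M) = -S.adT M := by
  ext a b; simp [adT]

theorem adT_smul (c : F) (M : Matrix (Idx k t) (Idx k t) F) : S.adT (c • M) = c • S.adT M := by
  ext a b; simp [adT, mul_left_comm]

theorem adT_zero : S.adT (0 : Matrix (Idx k t) (Idx k t) F) = 0 := by ext a b; simp [adT]

theorem adT_adT (M : Matrix (Idx k t) (Idx k t) F) : S.adT (S.adT M) = M := by
  ext a b
  simp only [adT, Matrix.of_apply, S.πT_πT, S.eT_πT]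
  have h : ((-1 : F) ^ t) * (-1) ^ t = 1 := by rw [← mul_pow]; simp
  linear_combination (S.eT a * S.eT a * (S.eT b * S.eT b) * M a b) * h +
    (S.eT b * S.eT b * M a b) * S.eT_sq a + M a b * S.eT_sq b

theorem adT_pureTens (X : Fin t → Matrix (Fin k) (Fin k) F) :
    S.adT (pureTens X) = pureTens fun l => S.ad (X l) := by
  ext x y
  simp [adT, pureTens, ad, eT, πT, Finset.prod_mul_distrib, mul_assoc]

theorem adT_fa (i : Fin t) (X : Matrix (Fin k) (Fin k) F) : S.adT (fa i X) = fa i (S.ad X) := by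
  rw [fa_apply, fa_apply, powStd, powStd, adT_pureTens]
  congr 1
  funext l
  rcases eq_or_ne l i with rfl | h
  · simp
  · simp [h, S.ad_one]

theorem com_adT {i : Fin t} {Φ : Matrix (Idx k t) (Idx k t) F} (h : Com i Φ) : Com i (S.adT Φ) := fun X => by
  have h1 := congrArg S.adT (h (S.ad X)).eq
  rw [adT_mul, adT_mul, adT_fa, S.ad_ad] at h1
  exact h1.symm

theorem adT_fa_mul {i : Fin t} {Φ : Matrix (Idx k t) (Idx k t) F} (h : Com i Φ) (X : Matrix (Fin k) (Fin k) F) :
    S.adT (fa i X * Φ) = fa i (S.ad X) * S.adT Φ := by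
  rw [adT_mul, adT_fa, ((S.com_adT h) _).eq]

theorem adT_permMat (σ : Equiv.Perm (Fin t)) :
    S.adT (Matrix.of fun x y : Idx k t => if y = x ∘ σ then (1 : F) else 0) =
      Matrix.of fun x y : Idx k t => if y = x ∘ σ.symm then (1 : F) else 0 := by
  ext x y
  simp only [adT, Matrix.of_apply, mul_ite, mul_one, mul_zero]
  have hiff : S.πT x = S.πT y ∘ σ ↔ y = x ∘ σ.symm := by
    rw [show S.πT y ∘ σ = S.πT (y ∘ σ) from rfl, S.πT_inj.eq_iff]
    constructor <;> intro h <;> subst h <;> simp [Function.comp_assoc]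
  by_cases h : y = x ∘ σ.symm
  · rw [if_pos (hiff.2 h), if_pos h]
    subst h
    rw [show S.eT (x ∘ σ.symm) = S.eT x from Equiv.prod_comp σ.symm fun l => S.e (x l), S.eT_sq]
  · rw [if_neg (fun e => h (hiff.1 e)), if_neg h]

end Std

end Cfsg.Lib.Linear.SpWreath
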